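import Groth.Agent.CycLib28.RelDimBC
import Groth.Agent.CycLib28.PushPull
import Groth.Agent.CycLib28.P1Inter

/-!
# Cartesian squares: dimension functions and base change of pushforward
-/

set_option autoImplicit false
set_option linter.style.haveILetI false

universe u

open CategoryTheory CategoryTheory.Limits AlgebraicGeometry Groth.Agent.CycLim28

namespace Groth.Agent.CycLib28.PB

open Groth.Agent DimLib

variable {X Y P P' : Scheme.{u}} {f : X ⟶ Y} {π : P ⟶ Y} {π' : P' ⟶ X} {f' : P' ⟶ P}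

theorem deltaCompat_cancel [LocallyOfFiniteType f] [LocallyOfFiniteType π] [LocallyOfFiniteType π']
    [LocallyOfFiniteType f'] (w : f' ≫ π = π' ≫ f) {δX : X → ℤ} {δY : Y → ℤ} {δP : P → ℤ} {δP' : P' → ℤ}
    (hπ' : Cyc.DeltaCompat π' δP' δX) (hf : Cyc.DeltaCompat f δX δY) (hπ : Cyc.DeltaCompat π δP δY) :
    Cyc.DeltaCompat f' δP' δP := by
  intro z
  refine ⟨trdegHom (f'.residueFieldMap z).hom,
    (Cardinal.cast_toNat_of_lt_aleph0 (FlatMor12.trdeg_residueFieldMap_lt f' z)).symm, ?_⟩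
  have h1 := DeltaCompat.eq _ hπ' z
  have h2 := DeltaCompat.eq _ hf (π' z)
  have h3 := DeltaCompat.eq _ hπ (f' z)
  have h4 : trdegHom ((f' ≫ π).residueFieldMap z).hom = trdegHom ((π' ≫ f).residueFieldMap z).hom :=
    trdegHom_congr w z
  rw [FlatMor12.trdegHom_comp_residueFieldMap, FlatMor12.trdegHom_comp_residueFieldMap] at h4
  have e : π (f' z) = f (π' z) := congrArg (fun m : P' ⟶ Y => m z) w
  have e' := congrArg δY e
  omega

theorem hasRelDim_iso_comp {A B : Scheme.{u}} (e : A ≅ B) {C : Scheme.{u}} (g : B ⟶ C) [LocallyOfFiniteType g] {r : ℕ}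
    (h : Cyc.HasRelDim g r) : Cyc.HasRelDim (e.hom ≫ g) r := by
  rw [FlatMor12.hasRelDim_iff] at h ⊢
  intro z hz
  rw [EGA43.Chevalley.trdegHom_residueFieldMap_comp]
  refine h _ fun w hw hfw => ?_
  obtain ⟨a, rfl⟩ := e.hom.homeomorph.surjective w
  exact congrArg e.hom (hz a (e.hom.homeomorph.isInducing.specializes_iff.1 hw) hfw)

theorem hasRelDim_of_isPullback [LocallyOfFiniteType f] (hsq : IsPullback f' π' π f) {c : ℕ}
    (hc : Cyc.HasRelDim f c) : Cyc.HasRelDim f' c := by
  rw [← hsq.isoPullback_hom_fst]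
  exact hasRelDim_iso_comp hsq.isoPullback _ (hasRelDim_fst π f hc)

/-- Pullback along a flat morphism commutes with proper pushforward, for any cartesian square. -/
theorem pullFun_map_square [IsProper f] [Flat π] (hsq : IsPullback f' π' π f) [IsProper f'] {δX : X → ℤ} {δY : Y → ℤ}
    {δP : P → ℤ} {δP' : P' → ℤ} (hX : Cyc.IsSetup X δX) (hY : Cyc.IsSetup Y δY)
    (hP : Cyc.IsSetup P δP) (hf : Cyc.DeltaCompat f δX δY) (hf' : Cyc.DeltaCompat f' δP' δP) (c : ℤ)
    (hc : ∀ x, GenInFibre π x → δP x = δY (π x) + c) (hc' : ∀ z, GenInFibre π' z → δP' z = δX (π' z) + c) (k : ℤ)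
    (α : AlgebraicCycle X ℤ) (hα : α ∈ Cyc.Zk X δX k) (α' : AlgebraicCycle P' ℤ)
    (hα' : ⇑α' = Cyc.pullFun π' δP' δX c ⇑α) :
    Cyc.pullFun π δP δY c ⇑(AlgebraicCycle.map f δX δY α) = ⇑(AlgebraicCycle.map f' δP' δP α') := by
  classical
  haveI := hX.1
  haveI := hY.1
  haveI := hP.1
  haveI : IsLocallyNoetherian P' := LocallyOfFiniteType.isLocallyNoetherian f'
  have hY' : Cyc.IsDimFun P' δP' := isDimFun_of_deltaCompat f' hP.2.1 hP.2.2 hf'
  funext x'
  set s := (finite_fibre_inter_support f α (π x')).toFinset with hsdef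
  have hs : ∀ a, a ∈ s ↔ f a = π x' ∧ α a ≠ 0 := fun a => by
    rw [hsdef, Set.Finite.mem_toFinset]; rfl
  have hk : ∀ a ∈ s, δX a = k := fun a ha => by
    by_contra h
    exact ((hs a).1 ha).2 (hα a h)
  -- one point
  have single : ∀ a ∈ s, ∃ c' : AlgebraicCycle P' ℤ,
      ⇑c' = Cyc.pullFun π' δP' δX c (Set.indicator {a} 1) ∧
      (AlgebraicCycle.mapCoeff f δX δY a : ℤ) * ((lenFibre π x').toNat : ℤ) =
        AlgebraicCycle.map f' δP' δP c' x' := by
    intro a ha
    set F := InterSheaf.pointSheaf a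
    have hF : Coh.IsCoh F := InterSheaf.isCoh_pointSheaf a
    haveI : Coh.IsQCoh F := hF.1
    have hdim : ∀ x, Nontrivial (F.presheaf.stalk x) → δX x ≤ k := fun x hx =>
      hk a ha ▸ le_of_specializes hX.2.2 (InterSheaf.specializes_of_nontrivial_pointSheaf a x hx)
    have hsf : Cyc.sheafFun δX k F = Set.indicator {a} 1 := InterSheaf.sheafFun_pointSheaf hX.2.2 (hk a ha)
    let ca : AlgebraicCycle X ℤ := Function.locallyFinsuppWithin.single a 1
    have hca : ⇑ca = Cyc.sheafFun δX k F := by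
      rw [hsf]
      funext x
      by_cases hx : x = a <;> simp [ca, hx]
    have hmap : AlgebraicCycle.map f δX δY ca (π x') = AlgebraicCycle.mapCoeff f δX δY a := by
      rw [map_apply_finset f δX δY ca (π x') {a} (fun x hx => by rw [Finset.mem_singleton.1 hx]; exact ((hs a).1 ha).1)
        (fun x _ hx => by simpa [ca] using hx), Finset.sum_singleton]
      simp [ca]
    have hrP : ∀ x, Nontrivial (((Coh.push f).obj F).presheaf.stalk x) → δY x ≤ k := fun x h =>
      delta_le_of_push f f.isClosedMap hF (delta_le' f hf) k hdim x h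
    obtain ⟨-, h1⟩ := pullFun_sheafFun π hP.2.2 c hc k ((Coh.push f).obj F) hrP
    haveI : Flat π' := MorphismProperty.of_isPullback (P := @Flat) hsq inferInstance
    have hqF : Coh.IsCoh ((Scheme.Modules.pullback π').obj F) := InterSheaf.isCoh_pullback π' hF
    obtain ⟨h2', h2⟩ := pullFun_sheafFun π' hY' c hc' k F hdim
    obtain ⟨c', hc''⟩ : ∃ c' : AlgebraicCycle P' ℤ,
        ⇑c' = Cyc.sheafFun δP' (k + c) ((Scheme.Modules.pullback π').obj F) :=
      exists_sheafFun_cycle hY' _ hqF _ h2'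
    refine ⟨c', by rw [hc'', ← h2, hsf], ?_⟩
    haveI := Groth.Agent.CohExch.isIso_bc0_of_flat_morphism hsq.flip F
    have h3 := sheafFun_congr_iso (δ := δP) (k := k + c) (asIso (CohBC.bc0 f π f' π' hsq.flip.w F))
    rw [sheafFun_push f' hY' hf' (k + c) _ hqF h2' c' hc'', ← h3, ← h1, pullFun_eq π δP δY c hc,
      ← sheafFun_push f hX.2.2 hf k F hF hdim ca hca, hmap]
  choose! cy hcy hval using single
  rw [pullFun_eq π δP δY c hc, map_apply_finset f δX δY α (π x') s (fun a ha => ((hs a).1 ha).1)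
    (fun a h1 h2 => (hs a).2 ⟨h1, h2⟩), Finset.sum_mul]
  set S := (finite_fibre_inter_support f' α' x').toFinset ∪
    s.biUnion (fun a => (finite_fibre_inter_support f' (cy a) x').toFinset) with hS
  have hSf : ∀ z ∈ S, f' z = x' := fun z hz => by
    rw [hS, Finset.mem_union, Finset.mem_biUnion, Set.Finite.mem_toFinset] at hz
    rcases hz with h | ⟨a, -, h⟩
    · exact h.1
    · exact ((Set.Finite.mem_toFinset _).1 h).1
  rw [map_apply_finset f' δP' δP α' x' S hSf (fun z h1 h2 => Finset.mem_union_left _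
    ((Set.Finite.mem_toFinset _).2 ⟨h1, h2⟩))]
  have hexp : ∀ z ∈ S, α' z = ∑ a ∈ s, α a * cy a z := fun z hz => by
    have hfz : f (π' z) = π x' := by
      rw [← hSf z hz]
      exact (congrArg (fun m : P' ⟶ Y => m z) hsq.w).symm
    rw [hα', pullFun_eq π' δP' δX c hc', Finset.sum_congr rfl fun a ha => by
      rw [hcy a ha, pullFun_eq π' δP' δX c hc', ← mul_assoc]]
    rw [← Finset.sum_mul]
    congr 1
    by_cases h0 : α (π' z) = 0
    · rw [h0, Finset.sum_eq_zero]
      intro a _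
      by_cases e : π' z = a
      · rw [← e, h0, zero_mul]
      · rw [Set.indicator_of_notMem (show π' z ∉ ({a} : Set X) from e), mul_zero]
    · rw [Finset.sum_eq_single_of_mem (π' z) ((hs _).2 ⟨hfz, h0⟩) fun a _ hne => by
          rw [Set.indicator_of_notMem (show π' z ∉ ({a} : Set X) from fun e => hne e.symm), mul_zero],
        Set.indicator_of_mem (Set.mem_singleton _), Pi.one_apply, mul_one]
  rw [show ∑ z ∈ S, α' z * (AlgebraicCycle.mapCoeff f' δP' δP z : ℤ) =
      ∑ z ∈ S, ∑ a ∈ s, α a * cy a z * (AlgebraicCycle.mapCoeff f' δP' δP z : ℤ) from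
    Finset.sum_congr rfl fun z hz => by rw [hexp z hz, Finset.sum_mul], Finset.sum_comm (s := S)]
  refine Finset.sum_congr rfl fun a ha => ?_
  rw [mul_assoc, hval a ha, map_apply_finset f' δP' δP (cy a) x' S hSf (fun z h1 h2 => Finset.mem_union_right _
    (Finset.mem_biUnion.2 ⟨a, ha, (Set.Finite.mem_toFinset _).2 ⟨h1, h2⟩⟩)), Finset.mul_sum]
  exact Finset.sum_congr rfl fun z _ => (mul_assoc _ _ _).symm

end Groth.Agent.CycLib28.PB
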