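import Groth.Agent.CycLib28.PB.ChernRel
import Groth.Agent.CycLib28.PB.Square

/-!
# Chern class caps commute with proper pushforward
-/

set_option autoImplicit false
set_option linter.unusedSectionVars false
set_option linter.style.haveILetI false
set_option backward.isDefEq.respectTransparency.types false

universe u

open AlgebraicGeometry CategoryTheory CategoryTheory.Limits
open Groth.Agent.KRRPBLib Groth.Agent.Coherent Groth.Agent.PicLib Groth.Agent.CycLim28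

namespace Groth.Agent.CycLib28.PB

theorem push_pow {A B : Scheme.{u}} [IsLocallyNoetherian A] [IsLocallyNoetherian B] {δA : A → ℤ} {δB : B → ℤ}
    (hA : Cyc.IsDimFun A δA) (hB : Cyc.IsDimFun B δB) (g : A ⟶ B) [IsProper g] (hg : Cyc.DeltaCompat g δA δB)
    {L : B.Modules} (hL : PicF.IsInvertible L) {K : ℤ} (a : AlgebraicCycle A ℤ) (ha : a ∈ Cyc.Zk A δA K)
    (u : ℕ → (ξ : A) → Cyc.secFibre ((Scheme.Modules.pullback g).obj L) ξ) (hu : ∀ i ξ, u i ξ ≠ 0)
    (t : ℕ → (ξ : B) → Cyc.secFibre L ξ) (ht : ∀ i ξ, t i ξ ≠ 0) :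
    ∀ (j : ℕ) (c' : AlgebraicCycle A ℤ) (c : AlgebraicCycle B ℤ),
      ⇑c' = Cyc.c1PowFun δA ((Scheme.Modules.pullback g).obj L) u j ⇑a →
      ⇑c = Cyc.c1PowFun δB L t j ⇑(AlgebraicCycle.map g δA δB a) →
      Cyc.RatEquiv δB (K - j) (AlgebraicCycle.map g δA δB c') c := by
  have hL' := PicLoc.isInvertible_pullback g hL
  intro j
  induction j with
  | zero =>
    intro c' c hc' hc
    rw [show c' = a from DFunLike.coe_injective hc',
      show c = AlgebraicCycle.map g δA δB a from DFunLike.coe_injective hc]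
    exact ratEquiv_refl _
  | succ j ih =>
    intro c' c hc' hc
    obtain ⟨d', hd', hdk'⟩ := exists_pow_cycles hA hL' a ha u hu (fun i => Cyc.c1PowFun δA _ u i ⇑a) rfl (fun _ => rfl) j
    obtain ⟨d, hd, hdk⟩ := exists_pow_cycles hB hL _ (map_mem_Zk g δA δB ha) t ht
      (fun i => Cyc.c1PowFun δB L t i ⇑(AlgebraicCycle.map g δA δB a)) rfl (fun _ => rfl) j
    have e : K - ((j + 1 : ℕ) : ℤ) + 1 = K - j := by push_cast; ring
    obtain ⟨w, γw, hw, hγw, hmap⟩ := c1Cap_push hA hB g hg hL d' (t j) (ht j)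
    have h1 : Cyc.RatEquiv δA (K - ((j + 1 : ℕ) : ℤ)) c' γw :=
      c1CapFun_indep hA hL' _ d' (by rwa [e]) (u j) w (fun ξ _ => hu j ξ) (fun ξ _ => hw ξ) c' γw
        (hc'.trans (congrArg (Cyc.c1CapFun δA _ · (u j)) hd'.symm)) hγw
    have h2 := map_ratEquivZero hA hB g hg _ _ h1
    rw [map_sub_apply] at h2
    exact ratEquiv_trans h2 (c1Cap_congr hB hL _ (α' := d) (by rwa [e]) (by rw [e]; exact ih d' d hd' hd) (ht j) (ht j)
      hmap (hc.trans (congrArg (Cyc.c1CapFun δB L · (t j)) hd.symm)))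

theorem chernCap_map {X Y : Scheme.{u}} {δX : X → ℤ} {δY : Y → ℤ} (hX : Cyc.IsSetup X δX) (hY : Cyc.IsSetup Y δY)
    (f : X ⟶ Y) [IsProper f] (hf : Cyc.DeltaCompat f δX δY) {r : ℕ} {E : Y.Modules}
    (hE : FlatMod.IsFinLocFreeOfRank r E) {P : Scheme.{u}} {π : P ⟶ Y} {O1 : P.Modules}
    {q : (Scheme.Modules.pullback π).obj E ⟶ O1} (hP : KRR.IsProjBundle π E O1 q) [IsProper π] {δP : P → ℤ}
    (hPs : Cyc.IsSetup P δP) (hπ : Cyc.DeltaCompat π δP δY) {P' : Scheme.{u}} {π' : P' ⟶ X} {f' : P' ⟶ P}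
    (hsq : IsPullback f' π' π f) {δP' : P' → ℤ} (hPs' : Cyc.IsSetup P' δP') (hπ' : Cyc.DeltaCompat π' δP' δX)
    {k : ℤ} {α : AlgebraicCycle X ℤ} {γ : Fin (r + 1) → AlgebraicCycle X ℤ}
    (hγ : Cyc.IsChernCap π' δX δP' ((Scheme.Modules.pullback f').obj O1) r k α γ)
    {γ' : Fin (r + 1) → AlgebraicCycle Y ℤ}
    (hγ' : Cyc.IsChernCap π δY δP O1 r k (AlgebraicCycle.map f δX δY α) γ') (j : Fin (r + 1)) :
    Cyc.RatEquiv δY (k - ((j : ℕ) : ℤ)) (AlgebraicCycle.map f δX δY (γ j)) (γ' j) := by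
  haveI := hX.1
  haveI := hY.1
  haveI := hPs.1
  haveI := hPs'.1
  haveI := isQCoh_of_rank hE
  cases r with
  | zero =>
    rw [show j = 0 from Fin.fin_one_eq_zero j, hγ.1, hγ'.1]
    exact ratEquiv_refl _
  | succ m =>
    have hE' := Groth.Agent.VarietyLib.isFinLocFreeOfRank_pullback f hE
    haveI := isQCoh_of_rank hE'
    have hP' := isProjBundle_baseChange q hP hsq
    haveI : IsProper π' := MorphismProperty.of_isPullback (P := @IsProper) hsq inferInstance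
    haveI : IsProper f' := MorphismProperty.of_isPullback (P := @IsProper) hsq.flip inferInstance
    haveI : Flat π := flat_of_isProjBundle hE hP
    have hf' := deltaCompat_cancel hsq.w hπ' hf hπ
    have hinv := isInvertible_of_rankOne hP.invertible
    have hinv' := PicLoc.isInvertible_pullback f' hinv
    set t := flagSecs hE hP
    have ht : ∀ i ξ, t i ξ ≠ 0 := flagSecs_ne_zero hE hP
    set u := flagSecs hE' hP'
    have hu : ∀ i ξ, u i ξ ≠ 0 := flagSecs_ne_zero hE' hP'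
    have hk : ∀ i : Fin (m + 2), AlgebraicCycle.map f δX δY (γ i) ∈ Cyc.Zk Y δY (k - ((i : ℕ) : ℤ)) :=
      fun i => map_mem_Zk f δX δY (hγ.2.1 i)
    obtain ⟨c', hc', -, hc'0⟩ := exists_terms_of_isChernCap hE' hP' hPs'.2.2 hπ' hγ u hu
    choose c hc hck using exists_rel_terms hE hP hPs.2.2 hπ k _ hk t ht
    obtain ⟨d, hd, -, hd0⟩ := exists_terms_of_isChernCap hE hP hPs.2.2 hπ hγ' t ht
    refine rel_unique hE hP hY.2.2 hPs.2.2 hπ k (fun i => AlgebraicCycle.map f δX δY (γ i)) γ' hk hγ'.2.1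
      (by show Cyc.RatEquiv δY k (AlgebraicCycle.map f δX δY (γ 0)) (γ' 0); rw [hγ.1, hγ'.1]; exact ratEquiv_refl _)
      t ht c d hc hd ?_ hd0 j
    refine rel_transfer hPs.2.2 c (fun i => AlgebraicCycle.map f' δP' δP (c' i)) (fun i => ?_) ?_
    · obtain ⟨a', ha', hak'⟩ := exists_pullback hE' hP' hPs'.2.2 hπ' _ (γ (Fin.rev i)) (hγ.2.1 _)
      have hsqr := pullFun_map_square hsq hX hY hPs hf hf' (m : ℤ) (delta_genInFibre hE hP hPs.2.2 hπ)
        (delta_genInFibre hE' hP' hPs'.2.2 hπ') _ (γ (Fin.rev i)) (hγ.2.1 _) a' ha'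
      refine ratEquiv_symm hPs.2.2 ?_
      have h := push_pow hPs'.2.2 hPs.2.2 f' hf' hinv a' hak' u hu t ht i (c' i) (c i) (by rw [hc', ha'])
        (by rw [hc, hsqr])
      rwa [show k - (((Fin.rev i : Fin (m + 2)) : ℕ) : ℤ) + (m : ℤ) - ((i : ℕ) : ℤ) = k - 1 by
        rw [Fin.val_rev]; omega] at h
    · have h := map_ratEquivZero hPs'.2.2 hPs.2.2 f' hf' _ _ hc'0
      rwa [show AlgebraicCycle.map f' δP' δP (∑ i : Fin (m + 2), (-1 : ℤ) ^ (i : ℕ) • c' i) =
        ∑ i : Fin (m + 2), (-1 : ℤ) ^ (i : ℕ) • AlgebraicCycle.map f' δP' δP (c' i) from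
        (map_sum (mapHom f' δP' δP) _ Finset.univ).trans
          (Finset.sum_congr rfl fun i _ => map_zsmul (mapHom f' δP' δP) _ _)] at h

end Groth.Agent.CycLib28.PB
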