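import Groth.Agent.CycLib28.GysinCommute
import Groth.Agent.CycLib28.GysinMaps
import Groth.Agent.CycLib28.PB.Square

/-!
# The pullback of a zero scheme, and the Gysin map in a cartesian square
-/

set_option autoImplicit false
set_option linter.style.haveILetI false
set_option backward.isDefEq.respectTransparency.types false

universe u

open CategoryTheory CategoryTheory.Limits AlgebraicGeometry IsLocalRing Groth.Agent.CycLim28
open Groth.Agent.Coherent Groth.Agent.PicLib

namespace Groth.Agent.CycLib28.PB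

variable {X X' D D' : Scheme.{u}}

/-- The pullback of the zero scheme of a section is the zero scheme of the pulled back section. -/
theorem exists_isZeroSchemeOf_pullback (g : X' ⟶ X) {L : X.Modules} (hL : PicF.IsInvertible L)
    (s : L.presheaf.obj (Opposite.op ⊤)) (i : D ⟶ X) [IsClosedImmersion i] (hD : Cyc.IsZeroSchemeOf i L s) :
    ∃ s' : ((Scheme.Modules.pullback g).obj L).presheaf.obj (Opposite.op ⊤),
      Cyc.IsZeroSchemeOf (pullback.fst g i) ((Scheme.Modules.pullback g).obj L) s' := by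
  refine ⟨pullSec g (U := ⊤) s, ?_, fun z => ?_⟩
  · ext x
    obtain ⟨U, hU, e, he⟩ := PicLib.exists_isGen hL (g x)
    obtain ⟨a, ha⟩ := (VarietyLib.gen_germ_bijective he hU).2 ((L.presheaf.germ ⊤ (g x) trivial) s)
    replace ha : a • L.presheaf.germ U (g x) hU e = (L.presheaf.germ ⊤ (g x) trivial) s := ha
    have h' := germ_pullSec_eq g (L := L) (U := ⊤) s e (ξ := x) trivial hU a ha.symm
    rw [not_mem_range_fst, hD.1]
    show Submodule.Quotient.mk _ = (0 : Cyc.secFibre L (g x)) ↔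
      Submodule.Quotient.mk (((Scheme.Modules.pullback g).obj L).presheaf.germ (g ⁻¹ᵁ ⊤) x trivial (pullSec g (U := ⊤) s)) =
        (0 : Cyc.secFibre ((Scheme.Modules.pullback g).obj L) x)
    rw [← ha, h', mk_eq_zero_iff_gen he, mk_eq_zero_iff_gen (isGen_pullSec g he hL),
      show (X'.residue x).hom ((g.stalkMap x).hom a) = (g.residueFieldMap x).hom ((X.residue (g x)).hom a) from
        (ConcreteCategory.congr_hom (Scheme.residue_residueFieldMap g x) a).symm, map_eq_zero (g.residueFieldMap x).hom]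
  · obtain ⟨U, hU, e, he⟩ := PicLib.exists_isGen hL (g (pullback.fst g i z))
    obtain ⟨a, ha⟩ := (VarietyLib.gen_germ_bijective he hU).2 ((L.presheaf.germ ⊤ (g (pullback.fst g i z)) trivial) s)
    replace ha : a • L.presheaf.germ U (g (pullback.fst g i z)) hU e =
      (L.presheaf.germ ⊤ (g (pullback.fst g i z)) trivial) s := ha
    refine ⟨((Scheme.Modules.pullback g).obj L).presheaf.germ (g ⁻¹ᵁ U) (pullback.fst g i z) hU (pullSec g e),
      (g.stalkMap (pullback.fst g i z)).hom a, ?_, germ_pullSec_eq g (L := L) (U := ⊤) s e trivial hU a ha.symm, ?_⟩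
    · refine Submodule.eq_top_iff'.2 fun v => ?_
      obtain ⟨c, hc⟩ := (VarietyLib.gen_germ_bijective (isGen_pullSec g he hL)
        (show pullback.fst g i z ∈ g ⁻¹ᵁ U from hU)).2 v
      exact Submodule.mem_span_singleton.2 ⟨c, hc⟩
    · have hgi : g (pullback.fst g i z) = i (pullback.snd g i z) :=
        congrArg (fun f : pullback g i ⟶ X ↦ f z) pullback.condition
      obtain ⟨_, ⟨V, hV, rfl⟩, hqV, -⟩ :=
        X.isBasis_affineOpens.exists_subset_of_mem_open (Set.mem_univ (g (pullback.fst g i z))) isOpen_univ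
      replace hV : IsAffineOpen V := hV
      rw [ker_stalkMap_fst g i z ⟨V, hV⟩ hqV, ← Set.image_singleton, ← Ideal.map_span]
      refine congrArg (Ideal.map (g.stalkMap (pullback.fst g i z)).hom) ?_
      have key : ∀ (q : X) (_ : q = i (pullback.snd g i z)) (hq : q ∈ V) (hqU : q ∈ U) (a : X.presheaf.stalk q),
          (L.presheaf.germ ⊤ q trivial) s = a • L.presheaf.germ U q hqU e →
          Ideal.map (X.presheaf.germ V q hq).hom (i.ker.ideal ⟨V, hV⟩) = Ideal.span {a} := by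
        rintro q rfl hq hqU a ha
        obtain ⟨t, f, ht, hf, hker⟩ := hD.2 (pullback.snd g i z)
        rw [span_coeff_eq he hqU ht ha hf, ← hker, CAlgH.CIImmersion.ker_stalkMap_eq i _ hV hq,
          ← Scheme.Hom.ker_apply _ ⟨V, hV⟩]
      exact key _ hgi hqV hU a ha.symm

theorem lenFibre_iso {A B : Scheme.{u}} (e : A ⟶ B) [IsIso e] (z : A) : lenFibre e z = 1 := by
  unfold lenFibre
  haveI : IsLocalHom (e.stalkMap z).hom := inferInstance
  have hs : Function.Surjective (e.stalkMap z).hom := (ConcreteCategory.bijective_of_isIso (e.stalkMap z)).2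
  have h : Ideal.map (e.stalkMap z).hom (maximalIdeal (B.presheaf.stalk (e z))) = maximalIdeal (A.presheaf.stalk z) := by
    rw [← IsLocalRing.maximalIdeal_comap (e.stalkMap z).hom, Ideal.map_comap_of_surjective _ hs]
  rw [h, Module.length_eq_one_iff]
  exact isSimpleModule_iff_isCoatom.2 (IsLocalRing.maximalIdeal.isMaximal _).1

/-- flat pullback in a cartesian square of closed immersions -/
theorem pullFun_closed_square (g : X' ⟶ X) (i : D ⟶ X) [IsClosedImmersion i] {g' : D' ⟶ D} {i' : D' ⟶ X'}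
    (hsq : IsPullback i' g' g i) (δ' : X' → ℤ) (δ : X → ℤ) (r : ℤ) (β : X → ℤ) (z : D') :
    Cyc.pullFun g' (fun z ↦ δ' (i' z)) (fun d ↦ δ (i d)) r (fun d ↦ β (i d)) z =
      Cyc.pullFun g δ' δ r β (i' z) := by
  have h1 : i' z = pullback.fst g i (hsq.isoPullback.hom z) :=
    (congrArg (fun m : D' ⟶ X' => m z) hsq.isoPullback_hom_fst).symm
  rw [h1, ← pullFun_closed_eq g i δ' δ r β]
  have h2 : g' z = pullback.snd g i (hsq.isoPullback.hom z) :=
    (congrArg (fun m : D' ⟶ D => m z) hsq.isoPullback_hom_snd).symm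
  have hlen : lenFibre g' z = lenFibre (pullback.snd g i) (hsq.isoPullback.hom z) := by
    have hc : ∀ {m m' : D' ⟶ D} (_ : m = m'), lenFibre m z = lenFibre m' z := fun e => by subst e; rfl
    rw [hc hsq.isoPullback_hom_snd.symm, lenFibre_comp, lenFibre_iso hsq.isoPullback.hom, mul_one]
  simp only [Cyc.pullFun]
  simp only [lenFibre] at hlen
  rw [hlen, h2, h1]

/-- Gysin maps commute with flat pullback, for any cartesian square. -/
theorem gysin_pullFun_square [IsLocallyNoetherian X] [IsLocallyNoetherian X'] {δ : X → ℤ} {δ' : X' → ℤ}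
    (hX : Cyc.IsDimFun X δ) (hX' : Cyc.IsDimFun X' δ') (g : X' ⟶ X) [Flat g] (r : ℤ)
    (hc : ∀ x, GenInFibre g x → δ' x = δ (g x) + r) {L : X.Modules} (hL : PicF.IsInvertible L)
    (s : L.presheaf.obj (Opposite.op ⊤)) (i : D ⟶ X) [IsClosedImmersion i] (hD : Cyc.IsZeroSchemeOf i L s)
    {g' : D' ⟶ D} {i' : D' ⟶ X'} [IsClosedImmersion i'] (hsq : IsPullback i' g' g i)
    (s' : ((Scheme.Modules.pullback g).obj L).presheaf.obj (Opposite.op ⊤))
    (hD' : Cyc.IsZeroSchemeOf (pullback.fst g i) ((Scheme.Modules.pullback g).obj L) s') (k : ℤ)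
    (α : AlgebraicCycle X ℤ) (hα : α ∈ Cyc.Zk X δ (k + 1)) (w : (ξ : X) → Cyc.secFibre L ξ) (hw : ∀ ξ, w ξ ≠ 0)
    (w' : (ξ : X') → Cyc.secFibre ((Scheme.Modules.pullback g).obj L) ξ) (hw' : ∀ ξ, w' ξ ≠ 0)
    (ζ₁ ζ₂ : AlgebraicCycle D' ℤ)
    (h₁ : ∀ z, ζ₁ z = Cyc.c1CapFun δ' ((Scheme.Modules.pullback g).obj L) (Cyc.pullFun g δ' δ r ⇑α)
      (Cyc.gysinChoice ((Scheme.Modules.pullback g).obj L) s' w') (i' z))
    (h₂ : ⇑ζ₂ = Cyc.pullFun g' (fun z => δ' (i' z)) (fun d => δ (i d)) r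
      (fun d => Cyc.c1CapFun δ L ⇑α (Cyc.gysinChoice L s w) (i d))) :
    Cyc.RatEquiv (fun z => δ' (i' z)) (k + r) ζ₁ ζ₂ := by
  classical
  have hv := gysinChoice_ne_zero L s w hw
  obtain ⟨β, hβ⟩ := exists_pullback_cycle g δ' δ r hc α
  have hβk : β ∈ Cyc.Zk X' δ' (k + r + 1) := by
    intro x hx
    rw [hβ, Cyc.pullFun]
    split_ifs with h
    · rw [hα (g x) (fun e ↦ hx (by omega)), zero_mul]
    · rfl
  have hrange : ∀ ξ, ξ ∉ Set.range i' → g ξ ∉ Set.range i := fun ξ hξ h => hξ (by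
    obtain ⟨z, hz⟩ := (not_mem_range_fst g i ξ).mpr h
    refine ⟨hsq.isoPullback.inv z, ?_⟩
    rw [← hz]
    exact congrArg (fun m : pullback g i ⟶ X' => m z) hsq.isoPullback_inv_fst)
  obtain ⟨u, hu, hword, heq⟩ := c1CapFun_pullback_section g hX' hX r hc hL α _ hv
  refine gysin_indep_closed hX' i' (PicLoc.isInvertible_pullback g hL) (k + r) β hβk
    (Cyc.gysinChoice ((Scheme.Modules.pullback g).obj L) s' w') u
    (fun ξ _ ↦ gysinChoice_ne_zero _ s' w' hw' ξ) (fun ξ _ ↦ hu ξ) (fun ξ hξ x ↦ ?_) ζ₁ ζ₂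
    (fun z ↦ by rw [h₁, hβ]) (fun z ↦ ?_)
  · exact secDivFun_gysin_pullback hX' g hL s i hD s' hD' w w' (hrange ξ hξ) (u ξ)
      (fun x' h hd U e he hx hU φ hφ ↦ hword ξ x' h hd U e he hx hU φ hφ) x
  · rw [h₂, pullFun_closed_square g i hsq δ' δ r (Cyc.c1CapFun δ L ⇑α (Cyc.gysinChoice L s w)) z, hβ, ← heq]

end Groth.Agent.CycLib28.PB
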