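import Groth.Agent.CycLib28.PB.ChernLine
import Groth.Agent.AmpleLib.Power

/-!
# Caps with the trivial line bundle
-/

set_option autoImplicit false
set_option linter.style.haveILetI false
set_option backward.isDefEq.respectTransparency.types false

universe u

open AlgebraicGeometry CategoryTheory
open Groth.Agent.PicLib Groth.Agent.Coherent

namespace Groth.Agent.CycLib28.PB

/-- The constant section of the structure sheaf has no divisor. -/
theorem exists_trivial_sections {X : Scheme.{u}} [IsLocallyNoetherian X] {δ : X → ℤ} (hδ : Cyc.IsDimFun X δ) :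
    ∃ s : (ξ : X) → Cyc.secFibre (Coh.structureModule X) ξ, (∀ ξ, s ξ ≠ 0) ∧
      ∀ a : X → ℤ, Cyc.c1CapFun δ (Coh.structureModule X) a s = 0 := by
  have hg : IsGen (Coh.structureModule X) ⊤ (AmpleLib.oneSec ⊤) := AmpleLib.isGen_oneSec ⊤
  refine ⟨fun ξ => Submodule.Quotient.mk ((1 : X.presheaf.stalk ξ) •
    (Coh.structureModule X).presheaf.germ ⊤ ξ trivial (AmpleLib.oneSec ⊤)), fun ξ h => ?_, fun a => funext fun x => ?_⟩
  · rw [mk_eq_zero_iff_gen hg, map_one] at h
    exact one_ne_zero h
  · refine finsum_eq_zero_of_forall_eq_zero fun ξ => ?_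
    rw [Cyc.secDivFun]
    split_ifs with h
    · rw [secOrdAt_gen hδ AmpleLib.isInvertible_structureModule h.1 h.2 hg trivial trivial 1 (by simp), map_one,
        ordAt_one hδ h.1 h.2, mul_zero]
    · exact mul_zero _

end Groth.Agent.CycLib28.PB
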