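import Groth.Agent.CycLib28.PB.ChernRel
import Groth.Agent.CycLib28.PB.GysinSquare

/-!
# Chern class caps commute with Gysin maps
-/

set_option autoImplicit false
set_option linter.unusedSectionVars false
set_option linter.style.haveILetI false
set_option backward.isDefEq.respectTransparency.types false

universe u

open AlgebraicGeometry CategoryTheory CategoryTheory.Limits
open Groth.Agent.KRRPBLib Groth.Agent.Coherent Groth.Agent.PicLib Groth.Agent.CycLim28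

namespace Groth.Agent.CycLib28.PB

theorem gysin_pow {A D : Scheme.{u}} [IsLocallyNoetherian A] {δ : A → ℤ} (hδ : Cyc.IsDimFun A δ)
    {L N : A.Modules} (hL : PicF.IsInvertible L) (hN : PicF.IsInvertible N) (s : L.presheaf.obj (Opposite.op ⊤))
    (i : D ⟶ A) [IsClosedImmersion i] (hD : Cyc.IsZeroSchemeOf i L s) {K : ℤ} (a : AlgebraicCycle A ℤ)
    (ha : a ∈ Cyc.Zk A δ K) (w : (ξ : A) → Cyc.secFibre L ξ) (hw : ∀ ξ, w ξ ≠ 0)
    (aD : AlgebraicCycle D ℤ) (haD : ∀ z, aD z = Cyc.c1CapFun δ L ⇑a (Cyc.gysinChoice L s w) (i z))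
    (t : ℕ → (ξ : A) → Cyc.secFibre N ξ) (ht : ∀ i ξ, t i ξ ≠ 0)
    (u : ℕ → (ξ : D) → Cyc.secFibre ((Scheme.Modules.pullback i).obj N) ξ) (hu : ∀ i ξ, u i ξ ≠ 0) :
    ∀ (j : ℕ) (d c' : AlgebraicCycle D ℤ),
      (∀ z, d z = Cyc.c1CapFun δ L (Cyc.c1PowFun δ N t j ⇑a) (Cyc.gysinChoice L s w) (i z)) →
      ⇑c' = Cyc.c1PowFun (fun z => δ (i z)) ((Scheme.Modules.pullback i).obj N) u j ⇑aD →
      Cyc.RatEquiv (fun z => δ (i z)) (K - 1 - j) d c' := by
  haveI : IsLocallyNoetherian D := LocallyOfFiniteType.isLocallyNoetherian i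
  have hδD := isDimFun_comp_closedImmersion i hδ
  have hN' := PicLoc.isInvertible_pullback i hN
  obtain ⟨aD', haD', haDk, -⟩ := exists_gysin_cycle hδ hL s i hD K a ha w hw
  have hak : aD ∈ Cyc.Zk D (fun z => δ (i z)) (K - 1) := fun z hz => by
    rw [haD, ← haD']; exact haDk z hz
  intro j
  induction j with
  | zero =>
    intro d c' hd hc'
    rw [show d = c' from DFunLike.ext _ _ fun z => by rw [hd, show c' z = aD z from congrFun hc' z, haD]; rfl]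
    exact ratEquiv_refl _
  | succ j ih =>
    intro d c' hd hc'
    obtain ⟨e₀, he₀, hek₀⟩ := exists_pow_cycles hδ hN a ha t ht (fun i => Cyc.c1PowFun δ N t i ⇑a) rfl (fun _ => rfl) j
    obtain ⟨e₁, he₁⟩ := exists_c1Cap_cycle hδ hN e₀ (t j) (ht j)
    obtain ⟨d₀, hd₀, hdk₀, -⟩ := exists_gysin_cycle hδ hL s i hD (K - j) e₀ hek₀ w hw
    obtain ⟨c₀, hc₀, hck₀⟩ := exists_pow_cycles hδD hN' aD hak u hu
      (fun l => Cyc.c1PowFun (fun z => δ (i z)) _ u l ⇑aD) rfl (fun _ => rfl) j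
    obtain ⟨z₂, hz₂⟩ := exists_c1Cap_cycle hδD hN' d₀ (u j) (hu j)
    have h1 := gysin_c1 hδ hL hN s i hD (K - j) e₀ hek₀ w hw (t j) (ht j) (u j) (hu j) e₁ he₁ _
      (funext fun z => hd₀ z) d z₂
      (fun z => by rw [hd, he₁, he₀]; rfl) hz₂
    rw [show K - (j : ℤ) - 2 = K - 1 - ((j + 1 : ℕ) : ℤ) by push_cast; ring] at h1
    have e : K - 1 - ((j + 1 : ℕ) : ℤ) + 1 = K - 1 - j := by push_cast; ring
    refine ratEquiv_trans h1 (c1Cap_congr hδD hN' _ (α' := c₀) (by rw [e]; exact hck₀)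
      (by rw [e]; exact ih d₀ c₀ (fun z => by rw [hd₀, he₀]) hc₀) (hu j) (hu j) hz₂
      (hc'.trans (congrArg (Cyc.c1CapFun _ _ · (u j)) hc₀.symm)))

theorem chernCap_gysin {X : Scheme.{u}} {δ : X → ℤ} (hX : Cyc.IsSetup X δ) {r : ℕ} {E : X.Modules}
    (hE : FlatMod.IsFinLocFreeOfRank r E) {P : Scheme.{u}} {p : P ⟶ X} {O1 : P.Modules}
    {q : (Scheme.Modules.pullback p).obj E ⟶ O1} (hP : KRR.IsProjBundle p E O1 q) [IsProper p] {δP : P → ℤ}
    (hPs : Cyc.IsSetup P δP) (hδ : Cyc.DeltaCompat p δP δ) {L : X.Modules} (hL : PicF.IsInvertible L)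
    (s : L.presheaf.obj (Opposite.op ⊤)) {D : Scheme.{u}} (i : D ⟶ X) [IsClosedImmersion i]
    (hD : Cyc.IsZeroSchemeOf i L s) {PD : Scheme.{u}} {pD : PD ⟶ D} {i' : PD ⟶ P} (hsq : IsPullback i' pD p i)
    (w : (ξ : X) → Cyc.secFibre L ξ) (hw : ∀ ξ, w ξ ≠ 0) {k : ℤ} {α : AlgebraicCycle X ℤ}
    {γ : Fin (r + 1) → AlgebraicCycle X ℤ} (hγ : Cyc.IsChernCap p δ δP O1 r k α γ) {αD : AlgebraicCycle D ℤ}
    (hαD : ∀ d, αD d = Cyc.c1CapFun δ L ⇑α (Cyc.gysinChoice L s w) (i d))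
    {γ' : Fin (r + 1) → AlgebraicCycle D ℤ}
    (hγ' : Cyc.IsChernCap pD (fun d => δ (i d)) (fun y => δP (i' y)) ((Scheme.Modules.pullback i').obj O1) r (k - 1) αD γ')
    (ζ : Fin (r + 1) → AlgebraicCycle D ℤ)
    (hζ : ∀ j d, ζ j d = Cyc.c1CapFun δ L ⇑(γ j) (Cyc.gysinChoice L s w) (i d)) (j : Fin (r + 1)) :
    Cyc.RatEquiv (fun d => δ (i d)) (k - 1 - ((j : ℕ) : ℤ)) (ζ j) (γ' j) := by
  haveI := hX.1
  haveI := hPs.1
  haveI : IsLocallyNoetherian D := LocallyOfFiniteType.isLocallyNoetherian i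
  haveI : IsClosedImmersion i' := MorphismProperty.of_isPullback (P := @IsClosedImmersion) hsq.flip inferInstance
  haveI : IsLocallyNoetherian PD := LocallyOfFiniteType.isLocallyNoetherian i'
  haveI := isQCoh_of_rank hE
  have hζ0 : ζ 0 = γ' 0 := DFunLike.ext _ _ fun d => by rw [hζ, hγ'.1, hαD, hγ.1]
  cases r with
  | zero =>
    rw [show j = 0 from Fin.fin_one_eq_zero j, hζ0]
    exact ratEquiv_refl _
  | succ m =>
    have hE' := Groth.Agent.VarietyLib.isFinLocFreeOfRank_pullback i hE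
    haveI := isQCoh_of_rank hE'
    have hP' := isProjBundle_baseChange q hP hsq
    haveI : IsProper pD := MorphismProperty.of_isPullback (P := @IsProper) hsq inferInstance
    haveI : Flat p := flat_of_isProjBundle hE hP
    have hπ' : Cyc.DeltaCompat pD (fun y => δP (i' y)) (fun d => δ (i d)) := deltaCompat_square i' i pD p hsq.w.symm hδ
    have hdD := isDimFun_comp_closedImmersion i hX.2.2
    have hdPD := isDimFun_comp_closedImmersion i' hPs.2.2
    obtain ⟨s', hs'⟩ := exists_isZeroSchemeOf_pullback p hL s i hD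
    have hPD : Cyc.IsZeroSchemeOf i' ((Scheme.Modules.pullback p).obj L) s' := by
      rw [← hsq.isoPullback_hom_fst]
      exact isZeroSchemeOf_iso_comp hsq.isoPullback.hom _ hs'
    have hinv := isInvertible_of_rankOne hP.invertible
    have hL' := PicLoc.isInvertible_pullback p hL
    have hex : ∀ ξ, ∃ w' : Cyc.secFibre ((Scheme.Modules.pullback p).obj L) ξ, w' ≠ 0 := fun ξ => by
      obtain ⟨w', hw', -⟩ := exists_pullback_section hPs.2.2 p hL ξ (w (p ξ)) (hw _)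
      exact ⟨w', hw'⟩
    choose w' hw' using hex
    set t := flagSecs hE hP
    have ht : ∀ i ξ, t i ξ ≠ 0 := flagSecs_ne_zero hE hP
    set u := flagSecs hE' hP'
    have hu : ∀ i ξ, u i ξ ≠ 0 := flagSecs_ne_zero hE' hP'
    have hk : ∀ l : Fin (m + 2), ζ l ∈ Cyc.Zk D (fun d => δ (i d)) (k - 1 - ((l : ℕ) : ℤ)) := fun l d hd => by
      obtain ⟨g, hg, hgk, -⟩ := exists_gysin_cycle hX.2.2 hL s i hD _ (γ l) (hγ.2.1 l) w hw
      rw [hζ, ← hg]
      exact hgk d (fun e => hd (e.trans (by ring)))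
    obtain ⟨c₀, hc₀, hck₀, hc₀0⟩ := exists_terms_of_isChernCap hE hP hPs.2.2 hδ hγ t ht
    choose d₀ hd₀ hdk₀ _hdm using fun l => exists_gysin_cycle hPs.2.2 hL' s' i' hPD (k - 1) (c₀ l) (hck₀ l) w' hw'
    choose cb hcb hcbk using exists_rel_terms hE' hP' hdPD hπ' (k - 1) _ hk u hu
    obtain ⟨d, hd, -, hd0⟩ := exists_terms_of_isChernCap hE' hP' hdPD hπ' hγ' u hu
    refine rel_unique hE' hP' hdD hdPD hπ' (k - 1) ζ γ' hk hγ'.2.1 (by rw [hζ0]; exact ratEquiv_refl _)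
      u hu cb d hcb hd ?_ hd0 j
    refine rel_transfer hdPD cb d₀ (fun l => ?_) ?_
    · obtain ⟨a, ha, hak⟩ := exists_pullback hE hP hPs.2.2 hδ _ (γ (Fin.rev l)) (hγ.2.1 _)
      obtain ⟨aD, haD, haDk, -⟩ := exists_gysin_cycle hPs.2.2 hL' s' i' hPD _ a hak w' hw'
      obtain ⟨b, hb, hbk⟩ := exists_pullback hE' hP' hdPD hπ' _ (ζ (Fin.rev l)) (hk _)
      have h1 := gysin_pullFun_square hX.2.2 hPs.2.2 p (m : ℤ) (delta_genInFibre hE hP hPs.2.2 hδ) hL s i hD hsq s' hs'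
        (k - 1 - (((Fin.rev l : Fin (m + 2)) : ℕ) : ℤ)) (γ (Fin.rev l))
        (fun x hx => hγ.2.1 _ x fun e => hx (by rw [e]; ring)) w hw w' hw' aD b (fun z => by rw [haD, ha])
        (by rw [hb]; exact congrArg _ (funext fun d => hζ _ d))
      refine ratEquiv_symm hdPD ?_
      obtain ⟨c₁, hc₁, -⟩ := exists_pow_cycles hdPD (PicLoc.isInvertible_pullback i' hinv) aD haDk u hu
        (fun n => Cyc.c1PowFun _ _ u n ⇑aD) rfl (fun _ => rfl) l
      have h2 := gysin_pow hPs.2.2 hL' hinv s' i' hPD a hak w' hw' aD haD t ht u hu l (d₀ l) c₁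
        (fun z => by rw [hd₀, hc₀, ha]) hc₁
      have e2 : k - 1 - (((Fin.rev l : Fin (m + 2)) : ℕ) : ℤ) + (m : ℤ) - ((l : ℕ) : ℤ) = k - 1 - 1 := by
        rw [Fin.val_rev]; omega
      have h3 := pow_congr hdPD (PicLoc.isInvertible_pullback i' hinv) (fun z hz => haDk z fun e => hz (by rw [e]; ring))
        hbk h1 hu hu (γ := fun n => Cyc.c1PowFun _ _ u n ⇑aD) rfl (fun _ => rfl)
        (γ' := fun n => Cyc.c1PowFun _ _ u n ⇑b) rfl (fun _ => rfl) l c₁ (cb l) hc₁ (by rw [hcb, hb])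
      rw [e2] at h3
      rw [show k - (((Fin.rev l : Fin (m + 2)) : ℕ) : ℤ) + (m : ℤ) - 1 - ((l : ℕ) : ℤ) = k - 1 - 1 by omega] at h2
      exact ratEquiv_trans h2 h3
    · refine gysin_ratEquivZero hPs.2.2 hL' s' i' hPD (k - 1 - 1) (∑ l : Fin (m + 2), (-1 : ℤ) ^ (l : ℕ) • c₀ l)
        (by rwa [show k - 1 - 1 + 1 = k - 1 by ring]) w' hw' _ fun z => ?_
      rw [coe_signed_sum, c1CapFun_sum, Finset.sum_apply]
      refine Finset.sum_congr rfl fun l _ => ?_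
      rw [show (⇑((-1 : ℤ) ^ (l : ℕ) • c₀ l) : P → ℤ) = fun x => (-1 : ℤ) ^ (l : ℕ) * c₀ l x from rfl,
        c1CapFun_const_mul, hd₀]

end Groth.Agent.CycLib28.PB
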