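import Groth.Agent.CycLib28.PB.Flag
import Groth.Agent.CycLib28.DimFun
import Groth.Agent.CycLib28.RelDim
import Groth.Agent.CycLib28.OrdAt

/-!
# Local invariants of the coordinate subspaces
-/

set_option autoImplicit false
set_option linter.unusedSectionVars false
set_option linter.style.haveILetI false
set_option backward.isDefEq.respectTransparency.types false

universe u

open AlgebraicGeometry CategoryTheory IsLocalRing
open Groth.Agent.KRRPBLib Groth.Agent.Coherent Groth.Agent.PicLib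

namespace Groth.Agent.CycLib28.PB

theorem maximalIdeal_eq_map {X : Scheme.{u}} {V : X.Opens} (hV : IsAffineOpen V) {x : X} (hx : x ∈ V) :
    maximalIdeal (X.presheaf.stalk x) =
      (hV.primeIdealOf ⟨x, hx⟩).asIdeal.map (X.presheaf.germ V x hx).hom := by
  let _ := TopCat.Presheaf.algebra_section_stalk X.presheaf (⟨x, hx⟩ : V)
  haveI : IsLocalization.AtPrime (X.presheaf.stalk x) (hV.primeIdealOf ⟨x, hx⟩).asIdeal :=
    hV.isLocalization_stalk ⟨x, hx⟩
  exact (IsLocalization.AtPrime.map_eq_maximalIdeal _ _).symm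

theorem length_quot_maximalIdeal (A : Type u) [CommRing A] [IsLocalRing A] (I : Ideal A) (h : I = maximalIdeal A) :
    Module.length A (A ⧸ I) = 1 := by
  subst h
  rw [Module.length_eq_one_iff]
  exact isSimpleModule_iff_quot_maximal.2 ⟨_, maximalIdeal.isMaximal A, ⟨LinearEquiv.refl _ _⟩⟩

theorem ordAt_eq_one {X : Scheme.{u}} [IsLocallyNoetherian X] {δ : X → ℤ} (hδ : Cyc.IsDimFun X δ) {x ξ : X}
    (h : ξ ⤳ x) (hd : δ x + 1 = δ ξ) (c : X.presheaf.stalk x) (hc : c ∈ maximalIdeal (X.presheaf.stalk x))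
    (hne : Cyc.specMap x ξ h c ≠ 0)
    (hle : maximalIdeal (X.presheaf.stalk x) ≤ RingHom.ker (Cyc.specMap x ξ h) ⊔ Ideal.span {c}) :
    Cyc.ordAt x ξ h (Cyc.specMap x ξ h c) = 1 := by
  obtain ⟨h1, h2, h3, h4⟩ := locQuot_conds hδ h hd
  haveI : (RingHom.ker (Cyc.specMap x ξ h)).IsPrime := RingHom.ker_isPrime _
  have hne' : Ideal.Quotient.mk (RingHom.ker (Cyc.specMap x ξ h)) c ≠ 0 := fun h0 =>
    hne (Ideal.Quotient.eq_zero_iff_mem.1 h0)
  have hord : Ring.ord (Cyc.LocQuot x ξ h) (Ideal.Quotient.mk (RingHom.ker (Cyc.specMap x ξ h)) c) = 1 := by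
    haveI := IsLocalHom.of_surjective (Ideal.Quotient.mk (RingHom.ker (Cyc.specMap x ξ h))) Ideal.Quotient.mk_surjective
    have hsp : Ideal.span {Ideal.Quotient.mk (RingHom.ker (Cyc.specMap x ξ h)) c} =
        maximalIdeal (Cyc.LocQuot x ξ h) := by
      refine le_antisymm ((Ideal.span_singleton_le_iff_mem _).2 ((IsLocalRing.mem_maximalIdeal _).2 fun hu =>
        (IsLocalRing.mem_maximalIdeal _).1 hc (isUnit_of_map_unit (Ideal.Quotient.mk _) c hu))) fun y hy => ?_
      obtain ⟨a, rfl⟩ := Ideal.Quotient.mk_surjective y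
      obtain ⟨g, hg, d, hd', rfl⟩ := Submodule.mem_sup.1 (hle ((IsLocalRing.mem_maximalIdeal a).2 fun hu =>
        (IsLocalRing.mem_maximalIdeal _).1 hy (hu.map _)))
      obtain ⟨e, rfl⟩ := Ideal.mem_span_singleton.1 hd'
      rw [map_add, Ideal.Quotient.eq_zero_iff_mem.2 hg, zero_add, map_mul]
      exact Ideal.mem_span_singleton.2 (dvd_mul_right _ _)
    have hmax : (Ideal.span {Ideal.Quotient.mk (RingHom.ker (Cyc.specMap x ξ h)) c}).IsMaximal :=
      hsp ▸ maximalIdeal.isMaximal _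
    rw [Ring.ord, Module.length_eq_one_iff]
    exact isSimpleModule_iff_quot_maximal.2 ⟨_, hmax, ⟨LinearEquiv.refl _ _⟩⟩
  simp only [Cyc.ordAt, CycAlg.ordFrac]
  rw [dif_pos ⟨h1, h2, h3, h4⟩, show Cyc.specMap x ξ h c =
      algebraMap (Cyc.LocQuot x ξ h) (X.residueField ξ) (Ideal.Quotient.mk _ c) from rfl,
    Ring.ordFrac_eq_ord _ hne', Ring.ordMonoidWithZeroHom_eq_coe _ (mem_nonZeroDivisors_of_ne_zero hne')
      (n := 1) (by exact_mod_cast hord)]
  rfl

variable {X P : Scheme.{u}} {E : X.Modules} {π : P ⟶ X} {O1 : P.Modules}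
  {q : (Scheme.Modules.pullback π).obj E ⟶ O1} [Coh.IsQCoh E] {U : X.Opens} {m : ℕ}
  (hP : KRR.IsProjBundle π E O1 q) (hU : IsAffineOpen U)
  (b : Module.Basis (Fin (m + 1)) Γ(X, U) Γ(E, U)) {ξ : X} (hξ : ξ ∈ U)

theorem flagSet_succ (j : Fin m) : flagSet (m := m) j.succ = insert j (flagSet j.castSucc) := by
  ext i
  simp only [flagSet, Set.mem_insert_iff, Set.mem_ofPred_eq, Fin.val_succ, Fin.val_castSucc, Fin.ext_iff]
  omega

theorem flagPt_succ_specializes (j : Fin m) :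
    flagPt hP hU b hξ j.castSucc ⤳ flagPt hP hU b hξ j.succ :=
  flagPt_specializes hP hU b hξ _ (π_flagPtIn hP hU b hξ _ _) fun i hi hm =>
    not_le.2 (hi.trans Fin.castSucc_lt_succ) ((flagPtIn_mem_D_iff hP hU b hξ le_rfl i).1 hm)

theorem flagPt_castSucc_eq (j : Fin m) :
    flagPt hP hU b hξ j.castSucc = flagPtIn hP hU b hξ j.succ j.castSucc := by
  refine ((flagPt_specializes hP hU b hξ _ (π_flagPtIn hP hU b hξ _ _) fun i hi hm =>
    not_le.2 hi ((flagPtIn_mem_D_iff hP hU b hξ Fin.castSucc_lt_succ.le i).1 hm)).antisymm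
    (flagPtIn_specializes hP hU b hξ _ Fin.castSucc_lt_succ.le ?_ (π_flagPtIn hP hU b hξ _ _) fun i hi hm =>
      not_le.2 hi ((flagPtIn_mem_D_iff hP hU b hξ le_rfl i).1 hm))).eq
  exact (flagPtIn_mem_D_iff hP hU b hξ le_rfl _).2 Fin.castSucc_lt_succ.le

theorem flagPt_succ_ne (j : Fin m) : flagPt hP hU b hξ j.castSucc ≠ flagPt hP hU b hξ j.succ := fun h => by
  have := (flagPtIn_mem_D_iff hP hU b hξ le_rfl j.castSucc).1
    (show flagPt hP hU b hξ j.succ ∈ D q (b j.castSucc) from h ▸ flagPtIn_mem hP hU b hξ _ _)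
  exact not_le.2 Fin.castSucc_lt_succ this

theorem le_primeIdealOf {V : P.Opens} (hV : IsAffineOpen V) {z : P} (hz : z ∈ V) (Q : PrimeSpectrum Γ(P, V))
    (h : hV.fromSpec Q ⤳ z) : Q ≤ hV.primeIdealOf ⟨z, hz⟩ := by
  have h' : hV.fromSpec Q ⤳ hV.fromSpec (hV.primeIdealOf ⟨z, hz⟩) := by rwa [hV.fromSpec_primeIdealOf]
  exact (PrimeSpectrum.le_iff_specializes _ _).2 (hV.fromSpec.isOpenEmbedding.isInducing.specializes_iff.1 h')

theorem primeIdealOf_le {V : P.Opens} (hV : IsAffineOpen V) {z : P} (hz : z ∈ V) (Q : PrimeSpectrum Γ(P, V))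
    (h : z ⤳ hV.fromSpec Q) : hV.primeIdealOf ⟨z, hz⟩ ≤ Q := by
  have h' : hV.fromSpec (hV.primeIdealOf ⟨z, hz⟩) ⤳ hV.fromSpec Q := by rwa [hV.fromSpec_primeIdealOf]
  exact (PrimeSpectrum.le_iff_specializes _ _).2 (hV.fromSpec.isOpenEmbedding.isInducing.specializes_iff.1 h')

theorem comap_flagPrime (l k : Fin (m + 1)) :
    Ideal.comap (chartEquiv hP hU b l) (flagPrime hP hU b hξ l k).asIdeal =
      flagIdeal (hU.primeIdealOf ⟨ξ, hξ⟩).asIdeal (flagSet k) := by
  ext f; simp [flagPrime]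

theorem eq_flagPtIn_of_comap (l k : Fin (m + 1)) {z : P} (hz : z ∈ D q (b l))
    (h : Ideal.comap (chartEquiv hP hU b l) ((isAffineOpen_D hP hU b l).primeIdealOf ⟨z, hz⟩).asIdeal =
      flagIdeal (hU.primeIdealOf ⟨ξ, hξ⟩).asIdeal (flagSet k)) : z = flagPtIn hP hU b hξ l k := by
  rw [← comap_flagPrime hP hU b hξ l k] at h
  have e : (isAffineOpen_D hP hU b l).primeIdealOf ⟨z, hz⟩ = flagPrime hP hU b hξ l k :=
    PrimeSpectrum.ext (Ideal.comap_injective_of_surjective _ (chartEquiv hP hU b l).surjective h)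
  exact ((isAffineOpen_D hP hU b l).fromSpec_primeIdealOf ⟨z, hz⟩).symm.trans (congrArg _ e)

theorem eq_or_eq_of_between (j : Fin m) {z : P} (h1 : flagPt hP hU b hξ j.castSucc ⤳ z)
    (h2 : z ⤳ flagPt hP hU b hξ j.succ) :
    z = flagPt hP hU b hξ j.castSucc ∨ z = flagPt hP hU b hξ j.succ := by
  rw [flagPt_castSucc_eq] at h1 ⊢
  have hz : z ∈ D q (b j.succ) := h2.mem_open (D q (b j.succ)).2 (flagPtIn_mem hP hU b hξ _ _)
  have e1 := le_primeIdealOf (isAffineOpen_D hP hU b j.succ) hz _ h1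
  have e2 := primeIdealOf_le (isAffineOpen_D hP hU b j.succ) hz _ h2
  have f1 := Ideal.comap_mono (f := chartEquiv hP hU b j.succ) e1
  have f2 := Ideal.comap_mono (f := chartEquiv hP hU b j.succ) e2
  rw [comap_flagPrime] at f1 f2
  rw [flagSet_succ] at f2
  have hq := eq_or_eq_of_le_of_le _ _ (show j ∉ flagSet j.castSucc by simp [flagSet]) _ f1 f2
  rw [← flagSet_succ] at hq
  exact hq.imp (eq_flagPtIn_of_comap hP hU b hξ _ _ hz) (eq_flagPtIn_of_comap hP hU b hξ _ _ hz)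

/-- The coordinate cutting out the next subspace. -/
theorem chartEquiv_X_succ (j : Fin m) :
    chartEquiv hP hU b j.succ (MvPolynomial.X j) = coord q (b j.succ) (b j.castSucc) := by
  rw [chartEquiv_X, Fin.succAbove_of_castSucc_lt _ _ Fin.castSucc_lt_succ]

theorem ordAt_coord [IsLocallyNoetherian P] {δ : P → ℤ} (hδ : Cyc.IsDimFun P δ) (j : Fin m)
    (hd : δ (flagPt hP hU b hξ j.succ) + 1 = δ (flagPt hP hU b hξ j.castSucc)) :
    Cyc.ordAt (flagPt hP hU b hξ j.succ) (flagPt hP hU b hξ j.castSucc) (flagPt_succ_specializes hP hU b hξ j)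
      (Cyc.specMap _ _ (flagPt_succ_specializes hP hU b hξ j)
        (P.presheaf.germ (D q (b j.succ)) _ (flagPtIn_mem hP hU b hξ _ _) (coord q (b j.succ) (b j.castSucc)))) = 1 := by
  have hD := isAffineOpen_D hP hU b j.succ
  have hsp := flagPt_succ_specializes hP hU b hξ j
  have hmx : flagPt hP hU b hξ j.castSucc ∈ D q (b j.succ) :=
    hsp.mem_open (D q (b j.succ)).2 (flagPtIn_mem hP hU b hξ _ _)
  have hval : ∀ a : Γ(P, D q (b j.succ)), Cyc.specMap _ _ hsp
      (P.presheaf.germ (D q (b j.succ)) (flagPt hP hU b hξ j.succ) (flagPtIn_mem hP hU b hξ _ _) a) = 0 ↔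
      flagPt hP hU b hξ j.castSucc ∉ P.basicOpen a := fun a => by
    rw [P.mem_basicOpen _ _ hmx, Cyc.specMap, CommRingCat.hom_comp, RingHom.comp_apply,
      TopCat.Presheaf.germ_stalkSpecializes_apply]
    exact (IsLocalRing.residue_eq_zero_iff _).trans (IsLocalRing.mem_maximalIdeal _)
  refine ordAt_eq_one hδ hsp hd _ ?_ ?_ ?_
  · rw [← chartEquiv_X_succ hP hU b j, IsLocalRing.mem_maximalIdeal, mem_nonunits_iff, ← P.mem_basicOpen,
      notMem_basicOpen_iff, X_mem_flagIdeal]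
    simp [flagSet]
  · rw [Ne, hval, not_not, mem_basicOpen_coord_iff hmx]
    exact flagPtIn_mem hP hU b hξ _ _
  · rw [maximalIdeal_eq_map hD (flagPtIn_mem hP hU b hξ j.succ j.succ), primeIdealOf_flagPtIn, Ideal.map_le_iff_le_comap]
    intro a ha
    obtain ⟨f, rfl⟩ := (chartEquiv hP hU b j.succ).surjective a
    have hf : f ∈ flagIdeal (hU.primeIdealOf ⟨ξ, hξ⟩).asIdeal (flagSet j.succ) := by
      rw [← RingEquiv.symm_apply_apply (chartEquiv hP hU b j.succ) f]
      exact ha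
    rw [flagSet_succ] at hf
    obtain ⟨g, hg, d, hd', rfl⟩ := Submodule.mem_sup.1 (flagIdeal_insert_le _ _ _ hf)
    obtain ⟨e, rfl⟩ := Ideal.mem_span_singleton.1 hd'
    rw [Ideal.mem_comap, map_add, map_add]
    refine Ideal.add_mem _ (Ideal.mem_sup_left ?_) (Ideal.mem_sup_right ?_)
    · rw [RingHom.mem_ker, hval, flagPt_castSucc_eq hP hU b hξ j, notMem_basicOpen_iff]
      exact hg
    · rw [map_mul, map_mul, chartEquiv_X_succ hP hU b j]
      exact Ideal.mem_span_singleton.2 (dvd_mul_right _ _)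

/-- The fibre is reduced at its generic point. -/
theorem length_fibre_flagPt_zero :
    Module.length (P.presheaf.stalk (flagPt hP hU b hξ 0))
      (P.presheaf.stalk (flagPt hP hU b hξ 0) ⧸ Ideal.map (π.stalkMap (flagPt hP hU b hξ 0)).hom
        (maximalIdeal (X.presheaf.stalk (π (flagPt hP hU b hξ 0))))) = 1 := by
  have hD := isAffineOpen_D hP hU b 0
  refine length_quot_maximalIdeal _ _ (le_antisymm (Ideal.map_le_iff_le_comap.2 fun a ha =>
    (IsLocalRing.mem_maximalIdeal _).2 fun hu => (IsLocalRing.mem_maximalIdeal a).1 ha (isUnit_of_map_unit _ a hu)) ?_)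
  rw [maximalIdeal_eq_map hD (flagPtIn_mem hP hU b hξ 0 0), primeIdealOf_flagPtIn, Ideal.map_le_iff_le_comap]
  intro a ha
  obtain ⟨f, rfl⟩ := (chartEquiv hP hU b 0).surjective a
  have hf : f ∈ flagIdeal (hU.primeIdealOf ⟨ξ, hξ⟩).asIdeal (flagSet 0) := by
    rw [← RingEquiv.symm_apply_apply (chartEquiv hP hU b 0) f]
    exact ha
  suffices key : flagIdeal (hU.primeIdealOf ⟨ξ, hξ⟩).asIdeal (flagSet (0 : Fin (m + 1))) ≤
      Ideal.comap (((P.presheaf.germ (D q (b 0)) _ (flagPtIn_mem hP hU b hξ 0 0)).hom).comp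
        (chartEquiv hP hU b 0 : _ →+* _)) (Ideal.map (π.stalkMap (flagPt hP hU b hξ 0)).hom
          (maximalIdeal (X.presheaf.stalk (π (flagPt hP hU b hξ 0))))) from key hf
  refine flagIdeal_le _ _ (fun r hr => ?_) fun i hi => absurd hi (by simp [flagSet])
  have hmem : π (flagPt hP hU b hξ 0) ∈ U := D_le q (b 0) (flagPtIn_mem hP hU b hξ 0 0)
  rw [Ideal.mem_comap, RingHom.comp_apply, RingHom.coe_coe, chartEquiv_C]
  have e : (P.presheaf.germ (D q (b 0)) _ (flagPtIn_mem hP hU b hξ 0 0)).hom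
      (π.appLE U (D q (b 0)) (D_le q (b 0)) r) =
      (π.stalkMap (flagPt hP hU b hξ 0)).hom (X.presheaf.germ U _ hmem r) := by
    rw [Scheme.Hom.appLE, CommRingCat.comp_apply, TopCat.Presheaf.germ_res_apply,
      ← Scheme.Hom.germ_stalkMap_apply]
  rw [e]
  refine Ideal.mem_map_of_mem _ ?_
  rw [maximalIdeal_eq_map hU hmem, primeIdealOf_congr hU hmem hξ (π_flagPtIn hP hU b hξ 0 0)]
  exact Ideal.mem_map_of_mem _ hr

theorem exists_residue_flagPt_last (a : Γ(P, D q (b (Fin.last m)))) :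
    ∃ r, (π.residueFieldMap (flagPt hP hU b hξ (Fin.last m))).hom r =
      P.residue (flagPt hP hU b hξ (Fin.last m)) (P.presheaf.germ _ _ (flagPtIn_mem hP hU b hξ _ _) a) := by
  have hmem := flagPtIn_mem hP hU b hξ (Fin.last m) (Fin.last m)
  have hmemU : π (flagPt hP hU b hξ (Fin.last m)) ∈ U := D_le q (b (Fin.last m)) hmem
  obtain ⟨f, rfl⟩ := (chartEquiv hP hU b (Fin.last m)).surjective a
  refine ⟨X.residue _ (X.presheaf.germ U _ hmemU (MvPolynomial.constantCoeff f)), ?_⟩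
  have hmem' : f - MvPolynomial.C (MvPolynomial.constantCoeff f) ∈
      flagIdeal (hU.primeIdealOf ⟨ξ, hξ⟩).asIdeal (flagSet (Fin.last m)) := by
    have key : (Ideal.Quotient.mk (flagIdeal (hU.primeIdealOf ⟨ξ, hξ⟩).asIdeal (flagSet (Fin.last m)))).comp
        ((MvPolynomial.C).comp MvPolynomial.constantCoeff) = Ideal.Quotient.mk _ := by
      refine MvPolynomial.ringHom_ext (fun r => by simp) fun i => ?_
      rw [RingHom.comp_apply, RingHom.comp_apply, MvPolynomial.constantCoeff_X, map_zero, map_zero]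
      exact (Ideal.Quotient.eq_zero_iff_mem.2 ((X_mem_flagIdeal _ _ i).2 (by simp [flagSet]))).symm
    rw [← Ideal.Quotient.mk_eq_mk_iff_sub_mem]
    exact (RingHom.congr_fun key f).symm
  have h1 := (notMem_basicOpen_iff hP hU b hξ (Fin.last m) (Fin.last m) _).2 hmem'
  rw [map_sub, chartEquiv_C, P.mem_basicOpen _ _ hmem] at h1
  have h0 := (IsLocalRing.residue_eq_zero_iff _).2 ((IsLocalRing.mem_maximalIdeal _).2 h1)
  rw [map_sub, map_sub, sub_eq_zero] at h0
  refine Eq.trans ?_ h0.symm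
  show (π.residueFieldMap _).hom ((X.residue _).hom _) = _
  rw [← CommRingCat.comp_apply (X.residue _), Scheme.residue_residueFieldMap, CommRingCat.comp_apply,
    Scheme.Hom.germ_stalkMap_apply, Scheme.Hom.appLE, CommRingCat.comp_apply, TopCat.Presheaf.germ_res_apply]
  rfl

theorem surjective_of_sections {V : P.Opens} (hV : IsAffineOpen V) {η : P} (hη : η ∈ V) {K : Type u} [Field K]
    (F : K →+* P.residueField η) (hsec : ∀ a : Γ(P, V), ∃ r, F r = P.residue η (P.presheaf.germ V η hη a)) :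
    Function.Surjective F := by
  intro z
  obtain ⟨w, rfl⟩ := P.residue_surjective η z
  let _ := TopCat.Presheaf.algebra_section_stalk P.presheaf (⟨η, hη⟩ : V)
  haveI : IsLocalization.AtPrime (P.presheaf.stalk η) (hV.primeIdealOf ⟨η, hη⟩).asIdeal :=
    hV.isLocalization_stalk ⟨η, hη⟩
  obtain ⟨⟨a, s⟩, has⟩ := IsLocalization.surj (hV.primeIdealOf ⟨η, hη⟩).asIdeal.primeCompl w
  obtain ⟨ra, hra⟩ := hsec a
  obtain ⟨rs, hrs⟩ := hsec s
  have hs0 : P.residue η (P.presheaf.germ _ η hη s.1) ≠ 0 := fun h0 => s.2 (by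
    rw [SetLike.mem_coe, mem_primeIdealOf_iff hV hη, P.mem_basicOpen _ η hη]
    exact (IsLocalRing.mem_maximalIdeal _).1 ((IsLocalRing.residue_eq_zero_iff _).1 h0))
  refine ⟨ra / rs, ?_⟩
  rw [map_div₀, hra, hrs, div_eq_iff hs0, ← map_mul]
  exact congrArg _ has.symm

theorem residueFieldMap_surjective_flagPt_last :
    Function.Surjective (π.residueFieldMap (flagPt hP hU b hξ (Fin.last m))).hom :=
  surjective_of_sections (isAffineOpen_D hP hU b (Fin.last m)) (flagPtIn_mem hP hU b hξ _ _) _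
    (exists_residue_flagPt_last hP hU b hξ)

end Groth.Agent.CycLib28.PB
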