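import Groth.Prelude.Def_KRR
import Groth.Agent.VarietyLib.CurveDegree

/-!
# Base change of a projective bundle given by its universal property
-/

set_option autoImplicit false
set_option backward.isDefEq.respectTransparency.types false

universe u

open AlgebraicGeometry CategoryTheory CategoryTheory.Limits

namespace Groth.Agent.CycLib28.PB

variable {X Y Z W T : Scheme.{u}}

theorem pullbackCongr_trans_app {a b c : T ⟶ X} (h₁ : a = b) (h₂ : b = c) (M : X.Modules) :
    (Scheme.Modules.pullbackCongr h₁).hom.app M ≫ (Scheme.Modules.pullbackCongr h₂).hom.app M =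
      (Scheme.Modules.pullbackCongr (h₁.trans h₂)).hom.app M := by
  subst h₁; subst h₂
  simp [Scheme.Modules.pullbackCongr]

theorem pullbackCongr_inv_app {a b : T ⟶ X} (h : a = b) (M : X.Modules) :
    (Scheme.Modules.pullbackCongr h).inv.app M = (Scheme.Modules.pullbackCongr h.symm).hom.app M := by
  subst h
  rfl

theorem pullback_map_congr (h : T ⟶ W) {a b : W ⟶ X} (e : a = b) (M : X.Modules) :
    (Scheme.Modules.pullback h).map ((Scheme.Modules.pullbackCongr e).hom.app M) ≫
      (Scheme.Modules.pullbackComp h b).hom.app M =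
    (Scheme.Modules.pullbackComp h a).hom.app M ≫ (Scheme.Modules.pullbackCongr (congrArg (h ≫ ·) e)).hom.app M := by
  subst e
  simp [Scheme.Modules.pullbackCongr]

theorem pullback_map_comp_hom (h : T ⟶ Y) (a : Y ⟶ Z) (b : Z ⟶ X) (M : X.Modules) :
    (Scheme.Modules.pullback h).map ((Scheme.Modules.pullbackComp a b).hom.app M) ≫
      (Scheme.Modules.pullbackComp h (a ≫ b)).hom.app M =
    (Scheme.Modules.pullbackComp h a).hom.app ((Scheme.Modules.pullback b).obj M) ≫
      (Scheme.Modules.pullbackComp (h ≫ a) b).hom.app M ≫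
        (Scheme.Modules.pullbackCongr (Category.assoc h a b)).hom.app M := by
  have H := congrArg (fun η => NatTrans.app η M) (Scheme.Modules.pseudofunctor_associativity h a b)
  simp only [NatTrans.comp_app, Functor.whiskerRight_app, Functor.associator_hom_app, Functor.whiskerLeft_app,
    Category.id_comp, eqToHom_app] at H
  rw [show (Scheme.Modules.pullbackCongr (Category.assoc h a b)).hom.app M =
    eqToHom (by rw [Category.assoc]) from eqToHom_app _ _]
  rw [← cancel_epi ((Scheme.Modules.pullback h).map ((Scheme.Modules.pullbackComp a b).inv.app M)),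
    ← cancel_epi ((Scheme.Modules.pullbackComp h (a ≫ b)).inv.app M)]
  simp only [← Functor.map_comp_assoc, Iso.inv_hom_id_app, CategoryTheory.Functor.map_id, Category.id_comp]
  rw [reassoc_of% H]
  simp only [eqToHom_trans, eqToHom_refl]
  simp

/-- The universal quotient on the base changed bundle. -/
noncomputable def bcQuot {P P' : Scheme.{u}} {f : X ⟶ Y} {π : P ⟶ Y} {π' : P' ⟶ X} {f' : P' ⟶ P} {E : Y.Modules}
    {O1 : P.Modules} (q : (Scheme.Modules.pullback π).obj E ⟶ O1) (w : f' ≫ π = π' ≫ f) :
    (Scheme.Modules.pullback π').obj ((Scheme.Modules.pullback f).obj E) ⟶ (Scheme.Modules.pullback f').obj O1 :=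
  (Scheme.Modules.pullbackComp π' f).hom.app E ≫ (Scheme.Modules.pullbackCongr w.symm).hom.app E ≫
    (Scheme.Modules.pullbackComp f' π).inv.app E ≫ (Scheme.Modules.pullback f').map q

variable {P P' : Scheme.{u}} {f : X ⟶ Y} {π : P ⟶ Y} {π' : P' ⟶ X} {f' : P' ⟶ P} {E : Y.Modules}
  {O1 : P.Modules} (q : (Scheme.Modules.pullback π).obj E ⟶ O1) (w : f' ≫ π = π' ≫ f)

theorem bcQuot_key (h : T ⟶ P') {g : T ⟶ X} (hg : h ≫ π' = g) {h0 : T ⟶ P} (e1 : h ≫ f' = h0)
    (hg0 : h0 ≫ π = g ≫ f) :
    (Scheme.Modules.pullbackComp g f).inv.app E ≫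
      (Scheme.Modules.pullbackCongr hg).inv.app ((Scheme.Modules.pullback f).obj E) ≫
      (Scheme.Modules.pullbackComp h π').inv.app ((Scheme.Modules.pullback f).obj E) ≫
      (Scheme.Modules.pullback h).map (bcQuot q w) ≫ (Scheme.Modules.pullbackComp h f').hom.app O1 ≫
      (Scheme.Modules.pullbackCongr e1).hom.app O1 =
    (Scheme.Modules.pullbackCongr hg0).inv.app E ≫ (Scheme.Modules.pullbackComp h0 π).inv.app E ≫
      (Scheme.Modules.pullback h0).map q := by
  subst hg e1
  have key := pullback_map_comp_hom h π' f E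
  rw [← cancel_epi ((Scheme.Modules.pullbackComp (h ≫ π') f).hom.app E), Iso.hom_inv_id_app_assoc]
  rw [← cancel_epi ((Scheme.Modules.pullbackComp h π').hom.app ((Scheme.Modules.pullback f).obj E))]
  simp only [Scheme.Modules.pullbackCongr, eqToIso_refl, Iso.refl_inv, Iso.refl_hom, NatTrans.id_app,
    Category.comp_id]
  rw [bcQuot, Functor.map_comp, Functor.map_comp, Functor.map_comp]
  simp only [Category.assoc]
  have hnat := (Scheme.Modules.pullbackComp h f').hom.naturality q
  simp only [Functor.comp_map] at hnat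
  rw [show (Scheme.Modules.pullback h).map ((Scheme.Modules.pullback f').map q) ≫
    (Scheme.Modules.pullbackComp h f').hom.app O1 = (Scheme.Modules.pullbackComp h f').hom.app _ ≫
      (Scheme.Modules.pullback (h ≫ f')).map q from hnat]
  simp only [← Category.assoc]
  congr 1
  rw [← cancel_mono ((Scheme.Modules.pullbackComp (h ≫ f') π).hom.app E),
    ← cancel_mono ((Scheme.Modules.pullbackCongr (Category.assoc h f' π)).hom.app E)]
  simp only [Category.assoc, Iso.inv_hom_id_app, Category.comp_id]
  have key2 := pullback_map_comp_hom h f' π E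
  rw [← key2, Iso.hom_inv_id_app_assoc,
    ← Functor.map_comp_assoc _ ((Scheme.Modules.pullbackComp f' π).inv.app E), Iso.inv_hom_id_app,
    CategoryTheory.Functor.map_id, Category.id_comp,
    pullback_map_congr, reassoc_of% key]
  congr 2

theorem epi_bcQuot (hq : Epi q) : Epi (bcQuot q w) := by
  have : (Scheme.Modules.pullback f').IsLeftAdjoint := (Scheme.Modules.pullbackPushforwardAdjunction f').isLeftAdjoint
  unfold bcQuot
  infer_instance

theorem isProjBundle_baseChange (hP : KRR.IsProjBundle π E O1 q) (hsq : IsPullback f' π' π f) :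
    KRR.IsProjBundle π' ((Scheme.Modules.pullback f).obj E) ((Scheme.Modules.pullback f').obj O1)
      (bcQuot q hsq.w) where
  invertible := Groth.Agent.VarietyLib.isFinLocFreeOfRank_pullback f' hP.invertible
  epi := epi_bcQuot q hsq.w hP.epi
  univ T g L hL s hs := by
    have := hs
    obtain ⟨h0, ⟨hg0, e0, he0⟩, huniq⟩ := hP.univ T (g ≫ f) L hL ((Scheme.Modules.pullbackComp g f).inv.app E ≫ s)
      (epi_comp _ _)
    refine ⟨hsq.lift h0 g hg0, ⟨hsq.lift_snd _ _ _, (Scheme.Modules.pullbackComp _ f').app O1 ≪≫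
      (Scheme.Modules.pullbackCongr (hsq.lift_fst h0 g hg0)).app O1 ≪≫ e0, ?_⟩, fun h' hh' => ?_⟩
    · have k := bcQuot_key q hsq.w (hsq.lift h0 g hg0) (hsq.lift_snd h0 g hg0) (hsq.lift_fst h0 g hg0) hg0
      rw [← cancel_epi ((Scheme.Modules.pullbackComp g f).inv.app E), ← he0]
      simp only [Iso.trans_hom, Iso.app_hom]
      simp only [← Category.assoc] at k ⊢
      rw [k]
    · obtain ⟨hg', e', he'⟩ := hh'
      have hg0' : (h' ≫ f') ≫ π = g ≫ f := by rw [Category.assoc, hsq.w, ← Category.assoc, hg']
      have k := bcQuot_key q hsq.w h' hg' rfl hg0'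
      have := huniq (h' ≫ f') ⟨hg0', (Scheme.Modules.pullbackComp h' f').symm.app O1 ≪≫ e', by
        rw [← he', Iso.trans_hom, Iso.app_hom, Iso.symm_hom]
        have k' := congrArg (fun t => t ≫ (Scheme.Modules.pullbackComp h' f').inv.app O1 ≫ e'.hom) k
        simp only [Scheme.Modules.pullbackCongr, eqToIso_refl, Iso.refl_hom, NatTrans.id_app, Category.comp_id,
          Category.assoc, Iso.hom_inv_id_app_assoc] at k' ⊢
        exact k'.symm⟩
      exact hsq.hom_ext (this.trans (hsq.lift_fst _ _ _).symm) (hg'.trans (hsq.lift_snd _ _ _).symm)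

end Groth.Agent.CycLib28.PB
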