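import Groth.Agent.CycLib28.PB.ChernUnique
import Groth.Agent.CycLib28.PB.BaseChange

/-!
# Tools for the naturality of Chern class caps
-/

set_option autoImplicit false
set_option linter.unusedSectionVars false
set_option linter.style.haveILetI false
set_option backward.isDefEq.respectTransparency.types false

universe u

open AlgebraicGeometry CategoryTheory
open Groth.Agent.KRRPBLib Groth.Agent.Coherent Groth.Agent.PicLib Groth.Agent.CycLim28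

namespace Groth.Agent.CycLib28.PB

theorem map_mem_Zk {X Y : Scheme.{u}} (f : X ⟶ Y) [QuasiCompact f] (δX : X → ℤ) (δY : Y → ℤ) {k : ℤ}
    {α : AlgebraicCycle X ℤ} (hα : α ∈ Cyc.Zk X δX k) : AlgebraicCycle.map f δX δY α ∈ Cyc.Zk Y δY k := by
  intro y hy
  rw [map_apply_finset f δX δY α y (finite_fibre_inter_support f α y).toFinset
    (fun z hz => ((Set.Finite.mem_toFinset _).1 hz).1) (fun z h1 h2 => (Set.Finite.mem_toFinset _).2 ⟨h1, h2⟩)]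
  refine Finset.sum_eq_zero fun z hz => ?_
  have hz' := ((Set.Finite.mem_toFinset _).1 hz).1
  by_cases h : δX z = k
  · rw [AlgebraicCycle.mapCoeff, if_neg fun e => hy ?_]
    · simp
    · rw [← hz', ← e, h]
  · rw [hα z h, zero_mul]

section sums

variable {X : Scheme.{u}} [IsLocallyNoetherian X] {δ : X → ℤ}

theorem rel_transfer (hδ : Cyc.IsDimFun X δ) {K : ℤ} {n : ℕ} (c c' : Fin n → AlgebraicCycle X ℤ)
    (h : ∀ i, Cyc.RatEquiv δ K (c i) (c' i))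
    (h0 : Cyc.RatEquivZero δ K (∑ i : Fin n, (-1 : ℤ) ^ (i : ℕ) • c' i)) :
    Cyc.RatEquivZero δ K (∑ i : Fin n, (-1 : ℤ) ^ (i : ℕ) • c i) := by
  refine ratEquivZero_add (ratEquivZero_sum Finset.univ (fun i : Fin n => (-1 : ℤ) ^ (i : ℕ) • (c i - c' i))
    fun i _ => ratEquivZero_neg_one_pow hδ i (h i) fun x => rfl) h0 fun x => ?_
  simp only [cycle_coe_sum, Finset.sum_apply, Function.locallyFinsuppWithin.coe_zsmul, Pi.smul_apply,
    Function.locallyFinsuppWithin.coe_sub, Pi.sub_apply, smul_eq_mul, mul_sub, ← Finset.sum_add_distrib]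
  exact Finset.sum_congr rfl fun i _ => (sub_add_cancel _ _).symm

theorem coe_signed_sum {n : ℕ} (c : Fin n → AlgebraicCycle X ℤ) (x : X) :
    (∑ i : Fin n, (-1 : ℤ) ^ (i : ℕ) • c i) x = ∑ i : Fin n, (-1 : ℤ) ^ (i : ℕ) * c i x := by
  rw [cycle_coe_sum, Finset.sum_apply]
  exact Finset.sum_congr rfl fun i _ => rfl

end sums

variable {X P : Scheme.{u}} {E : X.Modules} {π : P ⟶ X} {O1 : P.Modules}
  {q : (Scheme.Modules.pullback π).obj E ⟶ O1} {m : ℕ} {δ : X → ℤ} {δP : P → ℤ}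
  [IsLocallyNoetherian X] [IsLocallyNoetherian P] [Coh.IsQCoh E]
  (hE : FlatMod.IsFinLocFreeOfRank (m + 1) E) (hP : KRR.IsProjBundle π E O1 q) [IsProper π]
  (hdf : Cyc.IsDimFun X δ) (hdP : Cyc.IsDimFun P δP) (hc : Cyc.DeltaCompat π δP δ)

include hdf hdP hc hE hP in
/-- Two tuples satisfying the relation of the bundle with rationally equivalent leading terms. -/
theorem rel_unique (k : ℤ) (γ γ' : Fin (m + 2) → AlgebraicCycle X ℤ)
    (hγ : ∀ j : Fin (m + 2), γ j ∈ Cyc.Zk X δ (k - ((j : ℕ) : ℤ)))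
    (hγ' : ∀ j : Fin (m + 2), γ' j ∈ Cyc.Zk X δ (k - ((j : ℕ) : ℤ))) (h0 : Cyc.RatEquiv δ k (γ 0) (γ' 0))
    (t : ℕ → (ξ : P) → Cyc.secFibre O1 ξ) (ht : ∀ i ξ, t i ξ ≠ 0)
    (c c' : Fin (m + 2) → AlgebraicCycle P ℤ)
    (hcc : ∀ i, ⇑(c i) = Cyc.c1PowFun δP O1 t i (Cyc.pullFun π δP δ (m : ℤ) ⇑(γ (Fin.rev i))))
    (hcc' : ∀ i, ⇑(c' i) = Cyc.c1PowFun δP O1 t i (Cyc.pullFun π δP δ (m : ℤ) ⇑(γ' (Fin.rev i))))
    (h1 : Cyc.RatEquivZero δP (k - 1) (∑ i : Fin (m + 2), (-1 : ℤ) ^ (i : ℕ) • c i))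
    (h2 : Cyc.RatEquivZero δP (k - 1) (∑ i : Fin (m + 2), (-1 : ℤ) ^ (i : ℕ) • c' i)) :
    ∀ j : Fin (m + 2), Cyc.RatEquiv δ (k - ((j : ℕ) : ℤ)) (γ j) (γ' j) := by
  have hinv := isInvertible_of_rankOne hP.invertible
  intro j
  refine rel_ratEquivZero hE hP hdf hdP hc k (fun i => γ i - γ' i)
    (fun i x hx => by show γ i x - γ' i x = 0; rw [hγ i x hx, hγ' i x hx, sub_zero]) h0 t ht
    (∑ i : Fin (m + 2), (-1 : ℤ) ^ (i : ℕ) • (c i - c' i)) (fun y => ?_) ?_ j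
  · rw [coe_signed_sum]
    refine Finset.sum_congr rfl fun i _ => ?_
    congr 1
    obtain ⟨a, ha, hak⟩ := exists_pullback hE hP hdP hc _ (γ (Fin.rev i)) (hγ _)
    obtain ⟨b, hb, hbk⟩ := exists_pullback hE hP hdP hc _ (γ' (Fin.rev i)) (hγ' _)
    show c i y - c' i y = _
    rw [show (⇑(γ (Fin.rev i) - γ' (Fin.rev i)) : X → ℤ) = ⇑(γ (Fin.rev i)) - ⇑(γ' (Fin.rev i)) from rfl,
      pullFun_sub_fun, ← ha, ← hb, c1PowFun_sub hdP hinv a b hak hbk t ht, hcc, hcc', ha, hb]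
    rfl
  · refine ratEquivZero_add h1 (ratEquivZero_neg hdP h2 (β := -∑ i : Fin (m + 2), (-1 : ℤ) ^ (i : ℕ) • c' i)
      fun _ => rfl) fun y => ?_
    show _ = (∑ i : Fin (m + 2), (-1 : ℤ) ^ (i : ℕ) • c i) y + -((∑ i : Fin (m + 2), (-1 : ℤ) ^ (i : ℕ) • c' i) y)
    rw [coe_signed_sum, coe_signed_sum, coe_signed_sum, ← sub_eq_add_neg, ← Finset.sum_sub_distrib]
    exact Finset.sum_congr rfl fun i _ => mul_sub _ (c i y) (c' i y)

include hdP hc hE hP in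
/-- The terms of the relation attached to a tuple satisfying the Chern cap predicate. -/
theorem exists_terms_of_isChernCap {k : ℤ} {α : AlgebraicCycle X ℤ} {γ : Fin (m + 2) → AlgebraicCycle X ℤ}
    (hγ : Cyc.IsChernCap π δ δP O1 (m + 1) k α γ)
    (t : ℕ → (ξ : P) → Cyc.secFibre O1 ξ) (ht : ∀ i ξ, t i ξ ≠ 0) :
    ∃ c : Fin (m + 2) → AlgebraicCycle P ℤ,
      (∀ i, ⇑(c i) = Cyc.c1PowFun δP O1 t i (Cyc.pullFun π δP δ (m : ℤ) ⇑(γ (Fin.rev i)))) ∧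
      (∀ i, c i ∈ Cyc.Zk P δP (k - 1)) ∧
      Cyc.RatEquivZero δP (k - 1) (∑ i : Fin (m + 2), (-1 : ℤ) ^ (i : ℕ) • c i) := by
  choose c hc' hck using exists_rel_terms hE hP hdP hc k γ hγ.2.1 t ht
  refine ⟨c, hc', hck, hγ.2.2 t ht _ fun y => ?_⟩
  rw [coe_signed_sum, show (((m + 1 : ℕ) : ℤ) - 1) = (m : ℤ) by push_cast; ring]
  exact Finset.sum_congr rfl fun i _ => by rw [hc' i]

end Groth.Agent.CycLib28.PB
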