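import Groth.Agent.CycLib28.PB.Span.Main
import Groth.Agent.CycLib28.PB.ChernRel
import Groth.Agent.CycLib28.P1GraphClosure
import Groth.Agent.S9126

/-!
# Existence and additivity of Chern class caps
-/

set_option autoImplicit false
set_option linter.unusedSectionVars false
set_option linter.style.haveILetI false
set_option backward.isDefEq.respectTransparency.types false

universe u

open AlgebraicGeometry CategoryTheory Groth.Agent.CycLim28
open Groth.Agent.KRRPBLib Groth.Agent.Coherent Groth.Agent.PicLib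

namespace Groth.Agent.CycLib28.PB

open Groth.Agent

/-- The induced dimension function upstairs gives a setup. -/
theorem isSetup_of_deltaCompat {X Y : Scheme.{u}} (f : X ⟶ Y) [LocallyOfFiniteType f] {δX : X → ℤ} {δY : Y → ℤ}
    (hY : Cyc.IsSetup Y δY) (h : Cyc.DeltaCompat f δX δY) : Cyc.IsSetup X δX := by
  haveI := hY.1
  refine ⟨LocallyOfFiniteType.isLocallyNoetherian f, fun x => ?_, isDimFun_of_deltaCompat f hY.2.1 hY.2.2 h⟩
  letI := (f.stalkMap x).hom.toAlgebra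
  haveI : Algebra.EssFiniteType (Y.presheaf.stalk (f x)) (X.presheaf.stalk x) := LocallyOfFiniteType.stalkMap f x
  exact Groth.Agent.S9126.result _ _ (hY.2.1 (f x))

/-- Every scheme locally of finite type over a setup carries the induced setup. -/
theorem exists_setup {X Y : Scheme.{u}} (f : X ⟶ Y) [LocallyOfFiniteType f] {δY : Y → ℤ} (hY : Cyc.IsSetup Y δY) :
    ∃ δX : X → ℤ, Cyc.IsSetup X δX ∧ Cyc.DeltaCompat f δX δY := by
  obtain ⟨δX, h⟩ := exists_deltaCompat_of_locallyOfFiniteType f δY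
  exact ⟨δX, isSetup_of_deltaCompat f hY h, h⟩

theorem isEmpty_of_rank_zero {X P : Scheme.{u}} {E : X.Modules} {π : P ⟶ X} {O1 : P.Modules}
    {q : (Scheme.Modules.pullback π).obj E ⟶ O1} (hE : FlatMod.IsFinLocFreeOfRank 0 E)
    (hP : KRR.IsProjBundle π E O1 q) : IsEmpty P := by
  refine ⟨fun y => ?_⟩
  have hE' := Groth.Agent.VarietyLib.isFinLocFreeOfRank_pullback π hE
  haveI := isQCoh_of_rank hE'
  obtain ⟨V, hyV, ⟨e⟩⟩ := hE' y
  have hzero : ∀ v : ((Scheme.Modules.pullback π).obj E).presheaf.stalk y, v = 0 := by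
    intro v
    obtain ⟨W, hW, s, rfl⟩ := ((Scheme.Modules.pullback π).obj E).presheaf.exists_germ_eq v
    obtain ⟨Z, hZ, hyZ, hZW⟩ := TopologicalSpace.Opens.isBasis_iff_nbhd.1 P.isBasis_affineOpens
      (show y ∈ W ⊓ V from ⟨hW, hyV⟩)
    obtain ⟨b⟩ := Props12.exists_basis_sections e (hZW.trans inf_le_right)
    haveI : Subsingleton Γ((Scheme.Modules.pullback π).obj E, Z) := b.repr.toEquiv.subsingleton
    rw [← TopCat.Presheaf.germ_res_apply _ (homOfLE (hZW.trans inf_le_left)) y hyZ s]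
    exact (congrArg _ (Subsingleton.elim _ 0)).trans (map_zero _)
  haveI : Epi q := hP.epi
  obtain ⟨t, ht, -⟩ := exists_gen_stalk (isInvertible_of_rankOne hP.invertible) y
  obtain ⟨v, hv⟩ := (ModuleCat.epi_iff_surjective ((DerSch.stalkFunctor P y).map q)).1 inferInstance t
  have h0 : t = 0 := by
    rw [← hv, hzero v]
    exact map_zero _
  exact one_ne_zero (ht.1 (show (1 : P.presheaf.stalk y) • t = (0 : P.presheaf.stalk y) • t by
    rw [h0, smul_zero, smul_zero]))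

section bundle

variable {X P : Scheme.{u}} {E : X.Modules} {π : P ⟶ X} {O1 : P.Modules}
  {q : (Scheme.Modules.pullback π).obj E ⟶ O1} {m : ℕ} {δ : X → ℤ} {δP : P → ℤ}
  [IsLocallyNoetherian X] [IsLocallyNoetherian P] [Coh.IsQCoh E]
  (hE : FlatMod.IsFinLocFreeOfRank (m + 1) E) (hP : KRR.IsProjBundle π E O1 q) [IsProper π]
  (hdf : Cyc.IsDimFun X δ) (hdP : Cyc.IsDimFun P δP) (hc : Cyc.DeltaCompat π δP δ)

include hdP hc hE hP in
theorem hasRelDim_bundle : Cyc.HasRelDim π m := by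
  rw [FlatMor12.hasRelDim_iff]
  intro η hη
  have h1 := delta_genInFibre hE hP hdP hc η ((genInFibre_iff_isFibreMax π η).2 hη)
  have h2 := DeltaCompat.eq π hc η
  omega

include hdP hc hE hP in
/-- The relation for one choice of sections gives it for all. -/
theorem isChernCap_of_terms {k : ℤ} {α : AlgebraicCycle X ℤ} {γ : Fin (m + 2) → AlgebraicCycle X ℤ} (h0 : γ 0 = α)
    (hk : ∀ j : Fin (m + 2), γ j ∈ Cyc.Zk X δ (k - ((j : ℕ) : ℤ)))
    (t : ℕ → (ξ : P) → Cyc.secFibre O1 ξ) (ht : ∀ i ξ, t i ξ ≠ 0) (c : Fin (m + 2) → AlgebraicCycle P ℤ)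
    (hcc : ∀ i, ⇑(c i) = Cyc.c1PowFun δP O1 t i (Cyc.pullFun π δP δ (m : ℤ) ⇑(γ (Fin.rev i))))
    (hrel : Cyc.RatEquivZero δP (k - 1) (∑ i : Fin (m + 2), (-1 : ℤ) ^ (i : ℕ) • c i)) :
    Cyc.IsChernCap π δ δP O1 (m + 1) k α γ := by
  refine ⟨h0, hk, fun s hs β hβ => ?_⟩
  have hinv := isInvertible_of_rankOne hP.invertible
  choose d hd hdk using exists_rel_terms hE hP hdP hc k γ hk s hs
  have hβd : β = ∑ i : Fin (m + 2), (-1 : ℤ) ^ (i : ℕ) • d i := DFunLike.ext _ _ fun y => by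
    rw [hβ, coe_signed_sum, show (((m + 1 : ℕ) : ℤ) - 1) = (m : ℤ) by push_cast; ring]
    exact Finset.sum_congr rfl fun i _ => by rw [hd]
  rw [hβd]
  refine rel_transfer hdP d c (fun i => ?_) hrel
  obtain ⟨a, ha, hak⟩ := exists_pullback hE hP hdP hc _ (γ (Fin.rev i)) (hk _)
  have h := pow_congr hdP hinv hak hak (ratEquiv_refl _) hs ht (γ := fun j => Cyc.c1PowFun δP O1 s j ⇑a) rfl
    (fun _ => rfl) (γ' := fun j => Cyc.c1PowFun δP O1 t j ⇑a) rfl (fun _ => rfl) i (d i) (c i)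
    (by rw [hd, ha]) (by rw [hcc, ha])
  rwa [show k - (((Fin.rev i : Fin (m + 2)) : ℕ) : ℤ) + (m : ℤ) - ((i : ℕ) : ℤ) = k - 1 by
    rw [Fin.val_rev]; omega] at h

include hdf hdP hc hE hP in
theorem exists_chernCap_succ {k : ℤ} (α : AlgebraicCycle X ℤ) (hα : α ∈ Cyc.Zk X δ k) :
    ∃ γ, Cyc.IsChernCap π δ δP O1 (m + 1) k α γ := by
  have hinv := isInvertible_of_rankOne hP.invertible
  set t := flagSecs hE hP
  have ht : ∀ i ξ, t i ξ ≠ 0 := flagSecs_ne_zero hE hP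
  obtain ⟨a, ha, hak⟩ := exists_pullback hE hP hdP hc k α hα
  obtain ⟨β₀, hβ₀, hβ₀k⟩ := exists_pow_cycles hdP hinv a hak t ht (fun j => Cyc.c1PowFun δP O1 t j ⇑a) rfl
    (fun _ => rfl) (m + 1)
  obtain ⟨α', β', hα', hβ', hrel⟩ := Span.classes_span hE hP hdf hdP hc (k - 1 - m) (fun _ => t) (fun _ => ht) β₀
    fun x hx => hβ₀k x fun e => hx (by rw [e]; push_cast; ring)
  let γ : Fin (m + 2) → AlgebraicCycle X ℤ :=
    Fin.cases α fun l => (-1 : ℤ) ^ ((Fin.rev l : Fin (m + 1)) + m : ℕ) • α' (Fin.rev l)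
  have hγk : ∀ j : Fin (m + 2), γ j ∈ Cyc.Zk X δ (k - ((j : ℕ) : ℤ)) := by
    refine Fin.cases (fun x hx => hα x (by simpa using hx)) fun l x hx => ?_
    show (-1 : ℤ) ^ ((Fin.rev l : Fin (m + 1)) + m : ℕ) * α' (Fin.rev l) x = 0
    rw [hα' _ x, mul_zero]
    intro e
    refine hx ?_
    rw [e, Fin.val_rev, Fin.val_succ]
    omega
  choose c hcc _ using exists_rel_terms hE hP hdP hc k γ hγk t ht
  refine ⟨γ, isChernCap_of_terms hE hP hdP hc (by rfl) hγk t ht c hcc ?_⟩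
  have hz : Cyc.RatEquivZero δP (k - 1) (β' - β₀) := by
    rw [show k - 1 - (m : ℤ) + m = k - 1 by ring] at hrel
    exact ratEquivZero_neg hdP hrel fun x => (neg_sub (β₀ x) (β' x)).symm
  refine ratEquivZero_neg_one_pow hdP m hz fun y => ?_
  rw [coe_signed_sum, Fin.sum_univ_castSucc]
  show _ = (-1 : ℤ) ^ m * (β' y - β₀ y)
  rw [mul_sub, hβ', Finset.mul_sum, sub_eq_add_neg]
  refine congrArg₂ _ (Finset.sum_congr rfl fun i _ => ?_) ?_
  · have e : Fin.rev (i.castSucc) = (Fin.rev i).succ := Fin.rev_castSucc i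
    rw [hcc, e]
    show (-1 : ℤ) ^ (i : ℕ) * Cyc.c1PowFun δP O1 t i (Cyc.pullFun π δP δ (m : ℤ)
      ⇑((-1 : ℤ) ^ ((Fin.rev (Fin.rev i) : Fin (m + 1)) + m : ℕ) • α' (Fin.rev (Fin.rev i)))) y = _
    rw [Fin.rev_rev, show (⇑((-1 : ℤ) ^ ((i : ℕ) + m) • α' i) : X → ℤ) = fun x => (-1 : ℤ) ^ ((i : ℕ) + m) * α' i x
      from rfl, pullFun_const_mul, c1PowFun_const_mul]
    rw [← mul_assoc, ← pow_add, ← add_assoc, pow_add, ← two_mul, pow_mul, neg_one_sq, one_pow, one_mul]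
  · rw [hcc, Fin.rev_last, Fin.val_last, show γ 0 = α from rfl, ← ha,
      show Cyc.c1PowFun δP O1 t (m + 1) ⇑a y = β₀ y from (congrFun hβ₀ y).symm, pow_succ]
    ring

end bundle

/-- Chern class caps exist. -/
theorem exists_chernCap {X : Scheme.{u}} {δ : X → ℤ} (hX : Cyc.IsSetup X δ) {r : ℕ} {E : X.Modules}
    (hE : FlatMod.IsFinLocFreeOfRank r E) {P : Scheme.{u}} {p : P ⟶ X} {O1 : P.Modules}
    {q : (Scheme.Modules.pullback p).obj E ⟶ O1} (hP : KRR.IsProjBundle p E O1 q) [IsProper p] {δP : P → ℤ}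
    (hPs : Cyc.IsSetup P δP) (hδ : Cyc.DeltaCompat p δP δ) {k : ℤ} (α : AlgebraicCycle X ℤ)
    (hα : α ∈ Cyc.Zk X δ k) : ∃ γ, Cyc.IsChernCap p δ δP O1 r k α γ := by
  haveI := hX.1
  haveI := hPs.1
  haveI := isQCoh_of_rank hE
  cases r with
  | zero =>
    haveI := isEmpty_of_rank_zero hE hP
    refine ⟨fun _ => α, rfl, fun j x hx => hα x (by simpa [Fin.fin_one_eq_zero j] using hx), fun t _ β _ => ?_⟩
    rw [show β = 0 from DFunLike.ext _ _ fun y => isEmptyElim y]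
    exact P1Inter.ratEquivZero_zero
  | succ m => exact exists_chernCap_succ hE hP hX.2.2 hPs.2.2 hδ α hα

/-- Chern class caps are additive. -/
theorem isChernCap_add {X : Scheme.{u}} {δ : X → ℤ} (hX : Cyc.IsSetup X δ) {r : ℕ} {E : X.Modules}
    (hE : FlatMod.IsFinLocFreeOfRank r E) {P : Scheme.{u}} {p : P ⟶ X} {O1 : P.Modules}
    {q : (Scheme.Modules.pullback p).obj E ⟶ O1} (hP : KRR.IsProjBundle p E O1 q) [IsProper p] {δP : P → ℤ}
    (hPs : Cyc.IsSetup P δP) (hδ : Cyc.DeltaCompat p δP δ) {k : ℤ} {α α' : AlgebraicCycle X ℤ}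
    {γ γ' : Fin (r + 1) → AlgebraicCycle X ℤ}
    (hγ : Cyc.IsChernCap p δ δP O1 r k α γ) (hγ' : Cyc.IsChernCap p δ δP O1 r k α' γ') :
    Cyc.IsChernCap p δ δP O1 r k (α + α') (γ + γ') := by
  haveI := hX.1
  haveI := hPs.1
  haveI := isQCoh_of_rank hE
  have h0 : (γ + γ') 0 = α + α' := by show γ 0 + γ' 0 = _; rw [hγ.1, hγ'.1]
  have hk : ∀ j : Fin (r + 1), (γ + γ') j ∈ Cyc.Zk X δ (k - ((j : ℕ) : ℤ)) := fun j x hx => by
    show γ j x + γ' j x = 0
    rw [hγ.2.1 j x hx, hγ'.2.1 j x hx, add_zero]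
  cases r with
  | zero =>
    haveI := isEmpty_of_rank_zero hE hP
    refine ⟨h0, hk, fun t _ β _ => ?_⟩
    rw [show β = 0 from DFunLike.ext _ _ fun y => isEmptyElim y]
    exact P1Inter.ratEquivZero_zero
  | succ m =>
    have hinv := isInvertible_of_rankOne hP.invertible
    set t := flagSecs hE hP
    have ht : ∀ i ξ, t i ξ ≠ 0 := flagSecs_ne_zero hE hP
    obtain ⟨c, hc', hck, hc0⟩ := exists_terms_of_isChernCap hE hP hPs.2.2 hδ hγ t ht
    obtain ⟨d, hd, hdk, hd0⟩ := exists_terms_of_isChernCap hE hP hPs.2.2 hδ hγ' t ht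
    refine isChernCap_of_terms hE hP hPs.2.2 hδ h0 hk t ht (fun i => c i + d i) (fun i => ?_) ?_
    · obtain ⟨a, ha, hak⟩ := exists_pullback hE hP hPs.2.2 hδ _ (γ (Fin.rev i)) (hγ.2.1 _)
      obtain ⟨b, hb, hbk⟩ := exists_pullback hE hP hPs.2.2 hδ _ (γ' (Fin.rev i)) (hγ'.2.1 _)
      have h1 : Cyc.pullFun p δP δ (m : ℤ) ⇑((γ + γ') (Fin.rev i)) = ⇑a - ⇑(-b) := by
        rw [ha]
        funext x
        show Cyc.pullFun p δP δ (m : ℤ) (fun y => γ (Fin.rev i) y + γ' (Fin.rev i) y) x = _ - -b x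
        rw [sub_neg_eq_add, hb]
        simp only [Cyc.pullFun]
        split_ifs
        · exact add_mul _ _ _
        · exact (add_zero (0 : ℤ)).symm
      have h2 : Cyc.c1PowFun δP O1 t i ⇑(-b) = -⇑(d i) := by
        rw [show (⇑(-b) : P → ℤ) = fun x => (-1 : ℤ) * b x from funext fun x => (neg_one_mul (b x)).symm,
          c1PowFun_const_mul, hd, ← hb]
        funext x
        exact neg_one_mul _
      rw [h1, c1PowFun_sub hPs.2.2 hinv a (-b) hak (fun x hx => by show -b x = 0; rw [hbk x hx, neg_zero]) t ht, h2,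
        ha, ← hc', sub_neg_eq_add]
      rfl
    · refine ratEquivZero_add hc0 hd0 fun y => ?_
      rw [coe_signed_sum, coe_signed_sum, coe_signed_sum, ← Finset.sum_add_distrib]
      exact Finset.sum_congr rfl fun i _ => mul_add _ (c i y) (d i y)

end Groth.Agent.CycLib28.PB
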