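import Groth.Agent.CycLib28.PB.OfRelProj
import Groth.Agent.CycLib28.PB.ChernExist
import Groth.Agent.RelVALib.Projective
import Groth.Agent.Props12.FinLocFree
import Groth.Agent.CAlgSmall.FPExtend

/-!
# Existence of projective bundles
-/

set_option autoImplicit false
set_option linter.style.haveILetI false
set_option backward.isDefEq.respectTransparency.types false

universe u

open AlgebraicGeometry CategoryTheory Groth.Agent.KRRPBLib

namespace Groth.Agent.CycLib28.PB

theorem isFinLocFree_of_rank {X : Scheme.{u}} {r : ℕ} {E : X.Modules} (hE : FlatMod.IsFinLocFreeOfRank r E) :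
    FlatMod.IsFinLocFree E := fun x =>
  let ⟨U, hx, h⟩ := hE x; ⟨U, r, hx, h⟩

theorem isFT_of_rank {X : Scheme.{u}} {r : ℕ} {E : X.Modules} (hE : FlatMod.IsFinLocFreeOfRank r E) :
    CohB1.IsFT E :=
  haveI := isQCoh_of_rank hE
  Groth.Agent.CAlgSmall.FPExtend.isFT_of_isFP E (Props12.isFP_of_isFinLocFree E (isFinLocFree_of_rank hE))

/-- The projective bundle of a finite locally free module. -/
theorem exists_projBundle {X : Scheme.{u}} {r : ℕ} {E : X.Modules} (hE : FlatMod.IsFinLocFreeOfRank r E) :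
    ∃ (P : Scheme.{u}) (p : P ⟶ X) (O1 : P.Modules) (q : (Scheme.Modules.pullback p).obj E ⟶ O1),
      KRR.IsProjBundle p E O1 q ∧ IsProper p := by
  haveI := isQCoh_of_rank hE
  obtain ⟨𝒮, j, P, p, chart, O1, lam, φ, D⟩ := RelVALib.exists_bundle E (isQCoh_of_rank hE)
  obtain ⟨q, hq⟩ := exists_isProjBundle D.hE D.hj D.hP D.hO1
  exact ⟨P, p, O1, q, hq, RelVALib.isProper_bundle D.hE (isFT_of_rank hE) D.hj D.hP⟩

/-- The projective bundle with its setup. -/
theorem exists_projBundle_setup {X : Scheme.{u}} {δ : X → ℤ} (hX : Cyc.IsSetup X δ) {r : ℕ} {E : X.Modules}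
    (hE : FlatMod.IsFinLocFreeOfRank r E) :
    ∃ (P : Scheme.{u}) (p : P ⟶ X) (O1 : P.Modules) (q : (Scheme.Modules.pullback p).obj E ⟶ O1) (δP : P → ℤ),
      KRR.IsProjBundle p E O1 q ∧ IsProper p ∧ Cyc.IsSetup P δP ∧ Cyc.DeltaCompat p δP δ := by
  obtain ⟨P, p, O1, q, hq, hp⟩ := exists_projBundle hE
  obtain ⟨δP, hPs, hδ⟩ := exists_setup p hX
  exact ⟨P, p, O1, q, δP, hq, hp, hPs, hδ⟩

end Groth.Agent.CycLib28.PB
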