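import Groth.Agent.CycLib28.PB.PushPow
import Groth.Agent.CycLib28.FlatRat

/-!
# Independence of the classes `c₁(O(1))^i ∩ π^*` on a projective bundle
-/

set_option autoImplicit false
set_option linter.unusedSectionVars false
set_option linter.style.haveILetI false
set_option backward.isDefEq.respectTransparency.types false

universe u

open AlgebraicGeometry CategoryTheory
open Groth.Agent.KRRPBLib Groth.Agent.Coherent Groth.Agent.PicLib Groth.Agent.CycLim28

namespace Groth.Agent.CycLib28.PB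

section general

variable {X : Scheme.{u}} {δ : X → ℤ} {L : X.Modules}

theorem cycle_coe_sum {ι : Type*} (s : Finset ι) (c : ι → AlgebraicCycle X ℤ) :
    ⇑(∑ i ∈ s, c i) = ∑ i ∈ s, ⇑(c i) := by
  classical
  induction s using Finset.induction_on with
  | empty => rw [Finset.sum_empty, Finset.sum_empty]; rfl
  | insert a s ha ih => rw [Finset.sum_insert ha, Finset.sum_insert ha, ← ih]; rfl

theorem c1CapFun_sum {ι : Type*} (s : Finset ι) (c : ι → AlgebraicCycle X ℤ) (t : (ξ : X) → Cyc.secFibre L ξ) :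
    Cyc.c1CapFun δ L ⇑(∑ i ∈ s, c i) t = ∑ i ∈ s, Cyc.c1CapFun δ L ⇑(c i) t := by
  classical
  induction s using Finset.induction_on with
  | empty =>
    rw [Finset.sum_empty, Finset.sum_empty]
    funext x
    exact finsum_eq_zero_of_forall_eq_zero fun ξ => zero_mul _
  | insert a s ha ih =>
    rw [Finset.sum_insert ha, Finset.sum_insert ha, ← ih, ← c1CapFun_add]
    rfl

theorem c1PowFun_zero (t : ℕ → (ξ : X) → Cyc.secFibre L ξ) : ∀ n, Cyc.c1PowFun δ L t n 0 = 0
  | 0 => rfl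
  | n + 1 => by
    show Cyc.c1CapFun δ L (Cyc.c1PowFun δ L t n 0) (t n) = 0
    rw [c1PowFun_zero t n]
    funext x
    exact finsum_eq_zero_of_forall_eq_zero fun ξ => zero_mul _

theorem ratEquivZero_of_ratEquiv [IsLocallyNoetherian X] {k : ℤ} {α β : AlgebraicCycle X ℤ}
    (h : Cyc.RatEquiv δ k α β) (hβ : Cyc.RatEquivZero δ k β) : Cyc.RatEquivZero δ k α :=
  ratEquivZero_add h hβ fun x => (sub_add_cancel (α x) (β x)).symm

theorem ratEquivZero_sum [IsLocallyNoetherian X] {k : ℤ} {ι : Type*} (s : Finset ι)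
    (c : ι → AlgebraicCycle X ℤ) (h : ∀ i ∈ s, Cyc.RatEquivZero δ k (c i)) :
    Cyc.RatEquivZero δ k (∑ i ∈ s, c i) := by
  classical
  induction s using Finset.induction_on with
  | empty => rw [Finset.sum_empty]; exact P1Inter.ratEquivZero_zero
  | insert a s ha ih =>
    rw [Finset.sum_insert ha]
    exact ratEquivZero_add (h a (Finset.mem_insert_self a s)) (ih fun i hi => h i (Finset.mem_insert_of_mem hi))
      fun x => rfl

theorem ratEquiv_zero_right {k : ℤ} {α : AlgebraicCycle X ℤ} (h : Cyc.RatEquivZero δ k α) :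
    Cyc.RatEquiv δ k α 0 := by
  rwa [Cyc.RatEquiv, sub_zero]

end general

variable {X P : Scheme.{u}} {E : X.Modules} {π : P ⟶ X} {O1 : P.Modules}
  {q : (Scheme.Modules.pullback π).obj E ⟶ O1} {m : ℕ} {δ : X → ℤ} {δP : P → ℤ}

/-- Pushforward as a homomorphism. -/
noncomputable def mapHom (π : P ⟶ X) [QuasiCompact π] (δP : P → ℤ) (δ : X → ℤ) :
    AlgebraicCycle P ℤ →+ AlgebraicCycle X ℤ :=
  AddMonoidHom.ofMapSub (AlgebraicCycle.map π δP δ) fun a b => map_sub_apply a b

variable [IsLocallyNoetherian X] [IsLocallyNoetherian P] [Coh.IsQCoh E]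
  (hE : FlatMod.IsFinLocFreeOfRank (m + 1) E) (hP : KRR.IsProjBundle π E O1 q) [IsProper π]
  (hdf : Cyc.IsDimFun X δ) (hdP : Cyc.IsDimFun P δP) (hc : Cyc.DeltaCompat π δP δ)

include hdf hdP hc hE hP in
theorem classes_independent (k : ℤ) (α : Fin (m + 1) → AlgebraicCycle X ℤ)
    (hα : ∀ i : Fin (m + 1), α i ∈ Cyc.Zk X δ (k + ((i : ℕ) : ℤ)))
    (t : Fin (m + 1) → ℕ → (ξ : P) → Cyc.secFibre O1 ξ) (ht : ∀ i j ξ, t i j ξ ≠ 0)
    (β : AlgebraicCycle P ℤ)
    (hβ : ∀ x, β x = ∑ i : Fin (m + 1), Cyc.c1PowFun δP O1 (t i) i (Cyc.pullFun π δP δ (m : ℤ) ⇑(α i)) x)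
    (h0 : Cyc.RatEquivZero δP (k + m) β) : ∀ i : Fin (m + 1), Cyc.RatEquivZero δ (k + ((i : ℕ) : ℤ)) (α i) := by
  classical
  haveI : Flat π := flat_of_isProjBundle hE hP
  have hinv := isInvertible_of_rankOne hP.invertible
  set u := flagSecs hE hP with hu_def
  have hu : ∀ j ξ, u j ξ ≠ 0 := flagSecs_ne_zero hE hP
  choose a ha hak using fun i => exists_pullback hE hP hdP hc (k + ((i : Fin (m + 1)) : ℕ)) (α i) (hα i)
  choose b hb hbk using fun i : Fin (m + 1) => exists_pow_cycles hdP hinv (a i) (hak i) (t i) (ht i)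
    (fun j => Cyc.c1PowFun δP O1 (t i) j ⇑(a i)) rfl (fun _ => rfl) i
  have hbm : ∀ i, b i ∈ Cyc.Zk P δP (k + m) := fun i x hx => hbk i x fun h => hx (by rw [h]; ring)
  have hβb : β = ∑ i, b i := DFunLike.ext _ _ fun x => by
    rw [cycle_coe_sum, Finset.sum_apply, hβ]
    exact Finset.sum_congr rfl fun i _ => by rw [hb, ha]
  intro i
  induction i using WellFoundedGT.induction with
  | ind i ih =>
    let n : ℕ := m - (i : ℕ)
    choose c hcn hck using fun i' : Fin (m + 1) => exists_pow_cycles hdP hinv (b i') (hbm i') u hu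
      (fun j => Cyc.c1PowFun δP O1 u j ⇑(b i')) rfl (fun _ => rfl) n
    -- the sum of the caps
    have hsum : ∀ j, Cyc.c1PowFun δP O1 u j ⇑(∑ i', b i') = ∑ i', Cyc.c1PowFun δP O1 u j ⇑(b i') := by
      intro j
      induction j with
      | zero => exact cycle_coe_sum _ _
      | succ j ihj =>
        choose d hd using fun i' : Fin (m + 1) => exists_pow_cycles hdP hinv (b i') (hbm i') u hu
          (fun j => Cyc.c1PowFun δP O1 u j ⇑(b i')) rfl (fun _ => rfl) j
        show Cyc.c1CapFun δP O1 (Cyc.c1PowFun δP O1 u j _) (u j) = ∑ i', Cyc.c1CapFun δP O1 (Cyc.c1PowFun δP O1 u j _) (u j)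
        simp only [ihj, ← fun i' => (hd i').1]
        rw [← cycle_coe_sum, c1CapFun_sum]
    have hC : ⇑(∑ i', c i') = Cyc.c1PowFun δP O1 u n ⇑β := by
      rw [hβb, hsum, cycle_coe_sum]
      exact Finset.sum_congr rfl fun i' _ => hcn i'
    have hsub : Cyc.RatEquivZero δP (k + m - n) (∑ i', c i') := by
      have h := pow_congr hdP hinv (α := β) (α' := 0) (K := k + m)
        (fun x hx => by rw [hβb, cycle_coe_sum, Finset.sum_apply]; exact Finset.sum_eq_zero fun i' _ => hbm i' x hx)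
        (fun _ _ => rfl) (ratEquiv_zero_right h0) hu hu (γ := fun j => Cyc.c1PowFun δP O1 u j ⇑β) rfl (fun _ => rfl)
        (γ' := fun j => Cyc.c1PowFun δP O1 u j 0) rfl (fun _ => rfl) n (∑ i', c i') 0 hC
        (by rw [c1PowFun_zero]; rfl)
      rwa [Cyc.RatEquiv, sub_zero] at h
    have hpush := map_ratEquivZero hdP hdf π hc (k + m - n) _ hsub
    rw [show AlgebraicCycle.map π δP δ (∑ i', c i') = ∑ i', AlgebraicCycle.map π δP δ (c i') from
      map_sum (mapHom π δP δ) c Finset.univ,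
      show k + (m : ℤ) - (n : ℤ) = k + ((i : ℕ) : ℤ) by have := i.2; omega] at hpush
    -- the sequences through `b i'`
    let t' : Fin (m + 1) → ℕ → (ξ : P) → Cyc.secFibre O1 ξ := fun i' j =>
      if j < (i' : ℕ) then t i' j else u (j - (i' : ℕ))
    have ht' : ∀ i' j ξ, t' i' j ξ ≠ 0 := fun i' j ξ => by
      simp only [t']; split_ifs
      · exact ht _ _ _
      · exact hu _ _
    have hseq1 : ∀ i' : Fin (m + 1), ∀ j ≤ (i' : ℕ), Cyc.c1PowFun δP O1 (t' i') j ⇑(a i') =
        Cyc.c1PowFun δP O1 (t i') j ⇑(a i') := by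
      intro i' j
      induction j with
      | zero => intro _; rfl
      | succ j ihj =>
        intro hj
        show Cyc.c1CapFun δP O1 _ (t' i' j) = Cyc.c1CapFun δP O1 _ (t i' j)
        rw [ihj (by omega), show t' i' j = t i' j from if_pos (by omega)]
    have hseq : ∀ (i' : Fin (m + 1)) (j : ℕ), Cyc.c1PowFun δP O1 (t' i') ((i' : ℕ) + j) ⇑(a i') =
        Cyc.c1PowFun δP O1 u j ⇑(b i') := by
      intro i' j
      induction j with
      | zero =>
        rw [Nat.add_zero, hseq1 i' i' le_rfl]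
        exact (hb i').symm
      | succ j ihj =>
        show Cyc.c1CapFun δP O1 (Cyc.c1PowFun δP O1 (t' i') ((i' : ℕ) + j) ⇑(a i')) (t' i' ((i' : ℕ) + j)) =
          Cyc.c1CapFun δP O1 (Cyc.c1PowFun δP O1 u j ⇑(b i')) (u j)
        rw [ihj, show t' i' ((i' : ℕ) + j) = u j by simp only [t']; rw [if_neg (by omega), Nat.add_sub_cancel_left]]
    have hcs : ∀ i', ⇑(c i') = Cyc.c1PowFun δP O1 (t' i') ((i' : ℕ) + n) ⇑(a i') := fun i' => by rw [hseq, hcn]
    have hrest : ∀ i' ∈ Finset.univ.erase i,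
        Cyc.RatEquivZero δ (k + ((i : ℕ) : ℤ)) (AlgebraicCycle.map π δP δ (c i')) := by
      intro i' hi'
      rcases lt_or_gt_of_ne (Finset.ne_of_mem_erase hi') with hlt | hgt
      · rw [map_pow_eq_zero hE hP hdf hdP hc (k + ((i' : ℕ) : ℤ)) (α i') (hα i') (t' i')
          (fun j => Cyc.c1PowFun δP O1 (t' i') j ⇑(a i')) (ha i') (fun _ => rfl) ((i' : ℕ) + n)
          (by have := i.2; have := Fin.lt_def.1 hlt; omega) (c i') (hcs i')]
        exact P1Inter.ratEquivZero_zero
      · have hzero := pullFun_ratEquivZero π hdP hdf (m : ℤ) (delta_genInFibre hE hP hdP hc) _ (α i') (ih i' hgt)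
          (a i') (ha i')
        have h := pow_congr hdP hinv (α := a i') (α' := 0) (hak i') (fun _ _ => rfl) (ratEquiv_zero_right hzero)
          (ht' i') (ht' i') (γ := fun j => Cyc.c1PowFun δP O1 (t' i') j ⇑(a i')) rfl (fun _ => rfl)
          (γ' := fun j => Cyc.c1PowFun δP O1 (t' i') j 0) rfl (fun _ => rfl) ((i' : ℕ) + n) (c i') 0 (hcs i')
          (by rw [c1PowFun_zero]; rfl)
        rw [Cyc.RatEquiv, sub_zero,
          show k + ((i' : ℕ) : ℤ) + (m : ℤ) - (((i' : ℕ) + n : ℕ) : ℤ) = k + ((i : ℕ) : ℤ) by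
            have := i.2; omega] at h
        exact map_ratEquivZero hdP hdf π hc _ _ h
    have hmain : Cyc.RatEquiv δ (k + ((i : ℕ) : ℤ)) (AlgebraicCycle.map π δP δ (c i)) (α i) :=
      map_pow_ratEquiv hE hP hdf hdP hc (k + ((i : ℕ) : ℤ)) (α i) (hα i) (t' i) (ht' i)
        (fun j => Cyc.c1PowFun δP O1 (t' i) j ⇑(a i)) (ha i) (fun _ => rfl) (c i)
        (by rw [hcs, show (i : ℕ) + n = m by have := i.2; omega])
    rw [← Finset.add_sum_erase _ _ (Finset.mem_univ i)] at hpush
    refine ratEquivZero_of_ratEquiv (ratEquiv_symm hdf hmain) ?_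
    have hneg := ratEquivZero_neg hdf (ratEquivZero_sum _ _ hrest) (β := -∑ i' ∈ Finset.univ.erase i,
      AlgebraicCycle.map π δP δ (c i')) fun x => rfl
    exact ratEquivZero_add hpush hneg fun x => (add_neg_cancel_right (AlgebraicCycle.map π δP δ (c i) x) _).symm

end Groth.Agent.CycLib28.PB
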