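import Groth.Agent.CycLib28.PB.ChernRel
import Groth.Agent.CycLib28.PB.Square

/-!
# Chern class caps commute with flat pullback
-/

set_option autoImplicit false
set_option linter.unusedSectionVars false
set_option linter.style.haveILetI false
set_option backward.isDefEq.respectTransparency.types false

universe u

open AlgebraicGeometry CategoryTheory CategoryTheory.Limits
open Groth.Agent.KRRPBLib Groth.Agent.Coherent Groth.Agent.PicLib Groth.Agent.CycLim28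

namespace Groth.Agent.CycLib28.PB

theorem pullFun_mem_Zk {A B : Scheme.{u}} (g : A ⟶ B) (δA : A → ℤ) (δB : B → ℤ) (c : ℤ) {k : ℤ}
    {α : AlgebraicCycle B ℤ} (hα : α ∈ Cyc.Zk B δB k) {β : AlgebraicCycle A ℤ}
    (hβ : ⇑β = Cyc.pullFun g δA δB c ⇑α) : β ∈ Cyc.Zk A δA (k + c) := fun y hy => by
  rw [hβ, Cyc.pullFun]
  split_ifs with h
  · rw [hα (g y) (by omega), zero_mul]
  · rfl

theorem pullFun_congr_hom {A B : Scheme.{u}} {g g' : A ⟶ B} (e : g = g') (δA : A → ℤ) (δB : B → ℤ) (c : ℤ)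
    (α : B → ℤ) : Cyc.pullFun g δA δB c α = Cyc.pullFun g' δA δB c α := by
  subst e; rfl

theorem flat_pow {A B : Scheme.{u}} [IsLocallyNoetherian A] [IsLocallyNoetherian B] {δA : A → ℤ} {δB : B → ℤ}
    (hA : Cyc.IsDimFun A δA) (hB : Cyc.IsDimFun B δB) (g : A ⟶ B) [Flat g] (c : ℤ)
    (hg : ∀ x, GenInFibre g x → δA x = δB (g x) + c)
    {L : B.Modules} (hL : PicF.IsInvertible L) {K : ℤ} (a : AlgebraicCycle B ℤ) (ha : a ∈ Cyc.Zk B δB K)
    (a' : AlgebraicCycle A ℤ) (ha' : ⇑a' = Cyc.pullFun g δA δB c ⇑a)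
    (t : ℕ → (ξ : B) → Cyc.secFibre L ξ) (ht : ∀ i ξ, t i ξ ≠ 0)
    (u : ℕ → (ξ : A) → Cyc.secFibre ((Scheme.Modules.pullback g).obj L) ξ) (hu : ∀ i ξ, u i ξ ≠ 0) :
    ∀ (j : ℕ) (d c' : AlgebraicCycle A ℤ),
      ⇑d = Cyc.pullFun g δA δB c (Cyc.c1PowFun δB L t j ⇑a) →
      ⇑c' = Cyc.c1PowFun δA ((Scheme.Modules.pullback g).obj L) u j ⇑a' →
      Cyc.RatEquiv δA (K + c - j) d c' := by
  have hL' := PicLoc.isInvertible_pullback g hL
  have hak' : a' ∈ Cyc.Zk A δA (K + c) := pullFun_mem_Zk g δA δB c ha ha'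
  intro j
  induction j with
  | zero =>
    intro d c' hd hc'
    rw [show d = c' from DFunLike.coe_injective (hd.trans (ha'.symm.trans hc'.symm))]
    exact ratEquiv_refl _
  | succ j ih =>
    intro d c' hd hc'
    obtain ⟨e₀, he₀, -⟩ := exists_pow_cycles hB hL a ha t ht (fun i => Cyc.c1PowFun δB L t i ⇑a) rfl (fun _ => rfl) j
    obtain ⟨d₀, hd₀⟩ := exists_pullback_cycle g δA δB c hg e₀
    obtain ⟨c₀, hc₀, hck₀⟩ := exists_pow_cycles hA hL' a' hak' u hu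
      (fun i => Cyc.c1PowFun δA _ u i ⇑a') rfl (fun _ => rfl) j
    have e : K + c - ((j + 1 : ℕ) : ℤ) + 1 = K + c - j := by push_cast; ring
    obtain ⟨w, hw, heq⟩ := c1CapFun_pullback g hA hB c hg hL e₀ (t j) (ht j)
    refine c1Cap_congr hA hL' _ (α' := c₀) (by rwa [e]) (by rw [e]; exact ih d₀ c₀ (by rw [hd₀, he₀]) hc₀) hw (hu j)
      ?_ (hc'.trans (congrArg (Cyc.c1CapFun δA _ · (u j)) hc₀.symm))
    refine hd.trans ?_
    show Cyc.pullFun g δA δB c (Cyc.c1CapFun δB L (Cyc.c1PowFun δB L t j ⇑a) (t j)) = _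
    rw [hd₀, ← heq, he₀]

theorem chernCap_pullFun {X Y : Scheme.{u}} {δX : X → ℤ} {δY : Y → ℤ} (hX : Cyc.IsSetup X δX) (hY : Cyc.IsSetup Y δY)
    (f : X ⟶ Y) [Flat f] [LocallyOfFiniteType f] (c : ℕ) (hc : Cyc.HasRelDim f c) (hf : Cyc.DeltaCompat f δX δY)
    {r : ℕ} {E : Y.Modules} (hE : FlatMod.IsFinLocFreeOfRank r E) {P : Scheme.{u}} {π : P ⟶ Y} {O1 : P.Modules}
    {q : (Scheme.Modules.pullback π).obj E ⟶ O1} (hP : KRR.IsProjBundle π E O1 q) [IsProper π] {δP : P → ℤ}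
    (hPs : Cyc.IsSetup P δP) (hπ : Cyc.DeltaCompat π δP δY) {P' : Scheme.{u}} {π' : P' ⟶ X} {f' : P' ⟶ P}
    (hsq : IsPullback f' π' π f) {δP' : P' → ℤ} (hPs' : Cyc.IsSetup P' δP') (hπ' : Cyc.DeltaCompat π' δP' δX)
    {k : ℤ} {α : AlgebraicCycle Y ℤ} {αX : AlgebraicCycle X ℤ}
    (hαX : ⇑αX = Cyc.pullFun f δX δY c ⇑α) {γ : Fin (r + 1) → AlgebraicCycle Y ℤ}
    (hγ : Cyc.IsChernCap π δY δP O1 r k α γ) {γ' : Fin (r + 1) → AlgebraicCycle X ℤ}
    (hγ' : Cyc.IsChernCap π' δX δP' ((Scheme.Modules.pullback f').obj O1) r (k + c) αX γ')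
    (β : Fin (r + 1) → AlgebraicCycle X ℤ) (hβ : ∀ j, ⇑(β j) = Cyc.pullFun f δX δY c ⇑(γ j)) (j : Fin (r + 1)) :
    Cyc.RatEquiv δX (k + c - ((j : ℕ) : ℤ)) (β j) (γ' j) := by
  haveI := hX.1
  haveI := hY.1
  haveI := hPs.1
  haveI := hPs'.1
  haveI := isQCoh_of_rank hE
  have hβ0 : β 0 = γ' 0 := by
    rw [hγ'.1]
    exact DFunLike.coe_injective (by rw [hβ, hαX, hγ.1])
  cases r with
  | zero =>
    rw [show j = 0 from Fin.fin_one_eq_zero j, hβ0]
    exact ratEquiv_refl _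
  | succ m =>
    have hE' := Groth.Agent.VarietyLib.isFinLocFreeOfRank_pullback f hE
    haveI := isQCoh_of_rank hE'
    have hP' := isProjBundle_baseChange q hP hsq
    haveI : IsProper π' := MorphismProperty.of_isPullback (P := @IsProper) hsq inferInstance
    haveI : Flat f' := MorphismProperty.of_isPullback (P := @Flat) hsq.flip inferInstance
    haveI : LocallyOfFiniteType f' := MorphismProperty.of_isPullback (P := @LocallyOfFiniteType) hsq.flip inferInstance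
    haveI : Flat π := flat_of_isProjBundle hE hP
    haveI : Flat π' := flat_of_isProjBundle hE' hP'
    have hf' := deltaCompat_cancel hsq.w hπ' hf hπ
    have hcf' := delta_of_hasRelDim f' (hasRelDim_of_isPullback hsq hc) hf'
    have hcf := delta_of_hasRelDim f hc hf
    have hinv := isInvertible_of_rankOne hP.invertible
    set t := flagSecs hE hP
    have ht : ∀ i ξ, t i ξ ≠ 0 := flagSecs_ne_zero hE hP
    set u := flagSecs hE' hP'
    have hu : ∀ i ξ, u i ξ ≠ 0 := flagSecs_ne_zero hE' hP'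
    have hk : ∀ i : Fin (m + 2), β i ∈ Cyc.Zk X δX (k + c - ((i : ℕ) : ℤ)) := fun i => by
      have h := pullFun_mem_Zk f δX δY (c : ℤ) (hγ.2.1 i) (hβ i)
      rwa [show k - ((i : ℕ) : ℤ) + (c : ℤ) = k + c - ((i : ℕ) : ℤ) by ring] at h
    obtain ⟨c₀, hc₀, hck₀, hc₀0⟩ := exists_terms_of_isChernCap hE hP hPs.2.2 hπ hγ t ht
    choose d₀ hd₀ using fun i => exists_pullback_cycle f' δP' δP (c : ℤ) hcf' (c₀ i)
    choose cb hcb hcbk using exists_rel_terms hE' hP' hPs'.2.2 hπ' (k + c) _ hk u hu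
    obtain ⟨d, hd, -, hd0⟩ := exists_terms_of_isChernCap hE' hP' hPs'.2.2 hπ' hγ' u hu
    refine rel_unique hE' hP' hX.2.2 hPs'.2.2 hπ' (k + c) β γ' hk hγ'.2.1 (by rw [hβ0]; exact ratEquiv_refl _)
      u hu cb d hcb hd ?_ hd0 j
    refine rel_transfer hPs'.2.2 cb d₀ (fun i => ?_) ?_
    · obtain ⟨a, ha, hak⟩ := exists_pullback hE hP hPs.2.2 hπ _ (γ (Fin.rev i)) (hγ.2.1 _)
      obtain ⟨a', ha'⟩ := exists_pullback_cycle f' δP' δP (c : ℤ) hcf' a
      have haa : Cyc.pullFun π' δP' δX (m : ℤ) ⇑(β (Fin.rev i)) = ⇑a' := by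
        rw [hβ, (pullFun_comp π' f δP' δX δY _ _ (delta_genInFibre hE' hP' hPs'.2.2 hπ') hcf _).2, ha', ha,
          (pullFun_comp f' π δP' δP δY _ _ hcf' (delta_genInFibre hE hP hPs.2.2 hπ) _).2,
          pullFun_congr_hom hsq.w, add_comm (m : ℤ) (c : ℤ)]
      refine ratEquiv_symm hPs'.2.2 ?_
      have h := flat_pow hPs'.2.2 hPs.2.2 f' (c : ℤ) hcf' hinv a hak a' ha' t ht u hu i (d₀ i) (cb i)
        (by rw [hd₀, hc₀, ha]) (by rw [hcb, haa])
      rwa [show k - (((Fin.rev i : Fin (m + 2)) : ℕ) : ℤ) + (m : ℤ) + (c : ℤ) - ((i : ℕ) : ℤ) = k + c - 1 by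
        rw [Fin.val_rev]; omega] at h
    · have h := pullFun_ratEquivZero f' hPs'.2.2 hPs.2.2 (c : ℤ) hcf' _ _ hc₀0
        (∑ i : Fin (m + 2), (-1 : ℤ) ^ (i : ℕ) • d₀ i) (funext fun y => by
          rw [coe_signed_sum, pullFun_eq f' δP' δP _ hcf', coe_signed_sum, Finset.sum_mul]
          refine Finset.sum_congr rfl fun i _ => ?_
          rw [hd₀, pullFun_eq f' δP' δP _ hcf', mul_assoc])
      rwa [show k - 1 + (c : ℤ) = k + c - 1 by ring] at h

end Groth.Agent.CycLib28.PB
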