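import Groth.Agent.CycLib28.C1CommuteApp
import Groth.Agent.CycLib28.C1Push
import Groth.Agent.CycLib28.C1Indep
import Groth.Agent.CycLib28.RatAdd
import Groth.Agent.CycLib28.P1Inter
import Groth.Agent.CycLib28.Intersect.Iterate
import Groth.Prelude.Def_ChowOps2

/-!
# Iterated first Chern class caps
-/

set_option autoImplicit false
set_option linter.style.haveILetI false

universe u

open AlgebraicGeometry CategoryTheory

namespace Groth.Agent.CycLib28.PB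

variable {X : Scheme.{u}} [IsLocallyNoetherian X] {δ : X → ℤ} {L : X.Modules}

omit [IsLocallyNoetherian X] in
theorem ratEquiv_refl {k : ℤ} (α : AlgebraicCycle X ℤ) : Cyc.RatEquiv δ k α α := ratEquiv_of_eq k fun _ => rfl

theorem ratEquiv_trans {k : ℤ} {α β γ : AlgebraicCycle X ℤ} (h₁ : Cyc.RatEquiv δ k α β)
    (h₂ : Cyc.RatEquiv δ k β γ) : Cyc.RatEquiv δ k α γ :=
  ratEquivZero_add h₁ h₂ fun x => (sub_add_sub_cancel (α x) (β x) (γ x)).symm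

theorem ratEquiv_symm (hδ : Cyc.IsDimFun X δ) {k : ℤ} {α β : AlgebraicCycle X ℤ} (h : Cyc.RatEquiv δ k α β) :
    Cyc.RatEquiv δ k β α :=
  ratEquivZero_neg hδ h fun x => (neg_sub (α x) (β x)).symm

omit [IsLocallyNoetherian X] in
theorem c1CapFun_sub (δ : X → ℤ) (L : X.Modules) (α β : AlgebraicCycle X ℤ) (s : (ξ : X) → Cyc.secFibre L ξ) :
    Cyc.c1CapFun δ L (⇑α - ⇑β) s = Cyc.c1CapFun δ L ⇑α s - Cyc.c1CapFun δ L ⇑β s := by
  funext x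
  simp only [Cyc.c1CapFun, Pi.sub_apply, sub_mul]
  exact finsum_sub_distrib (c1CapFun_support_finite δ L α s x) (c1CapFun_support_finite δ L β s x)

omit [IsLocallyNoetherian X] in
theorem c1CapFun_add (δ : X → ℤ) (L : X.Modules) (α β : AlgebraicCycle X ℤ) (s : (ξ : X) → Cyc.secFibre L ξ) :
    Cyc.c1CapFun δ L (⇑α + ⇑β) s = Cyc.c1CapFun δ L ⇑α s + Cyc.c1CapFun δ L ⇑β s := by
  funext x
  simp only [Cyc.c1CapFun, Pi.add_apply, add_mul]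
  exact finsum_add_distrib (c1CapFun_support_finite δ L α s x) (c1CapFun_support_finite δ L β s x)

/-- Capping respects rational equivalence and does not depend on the sections. -/
theorem c1Cap_congr (hδ : Cyc.IsDimFun X δ) (hL : PicF.IsInvertible L) (k : ℤ) {α α' : AlgebraicCycle X ℤ}
    (hα' : α' ∈ Cyc.Zk X δ (k + 1)) (h : Cyc.RatEquiv δ (k + 1) α α') {s s' : (ξ : X) → Cyc.secFibre L ξ}
    (hs : ∀ ξ, s ξ ≠ 0) (hs' : ∀ ξ, s' ξ ≠ 0) {γ γ' : AlgebraicCycle X ℤ}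
    (hγ : ⇑γ = Cyc.c1CapFun δ L ⇑α s) (hγ' : ⇑γ' = Cyc.c1CapFun δ L ⇑α' s') : Cyc.RatEquiv δ k γ γ' := by
  obtain ⟨γ'', hγ''⟩ := exists_c1Cap_cycle hδ hL α' s hs
  refine ratEquiv_trans (c1Cap_ratEquivZero hδ hL k (α - α') h s hs (γ - γ'') ?_)
    (c1CapFun_indep hδ hL k α' hα' s s' (fun ξ _ => hs ξ) (fun ξ _ => hs' ξ) γ'' γ' hγ'' hγ')
  rw [show ⇑(α - α') = ⇑α - ⇑α' from rfl, c1CapFun_sub, ← hγ, ← hγ'']
  rfl

/-- The iterated caps of a cycle are cycles. -/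
theorem exists_pow_cycles (hδ : Cyc.IsDimFun X δ) (hL : PicF.IsInvertible L) {K : ℤ} (α : AlgebraicCycle X ℤ)
    (hα : α ∈ Cyc.Zk X δ K) (t : ℕ → (ξ : X) → Cyc.secFibre L ξ) (ht : ∀ i ξ, t i ξ ≠ 0) (γ : ℕ → X → ℤ)
    (hγ0 : γ 0 = ⇑α) (hγs : ∀ i, γ (i + 1) = Cyc.c1CapFun δ L (γ i) (t i)) :
    ∀ j : ℕ, ∃ c : AlgebraicCycle X ℤ, ⇑c = γ j ∧ c ∈ Cyc.Zk X δ (K - j) := by
  intro j
  induction j with
  | zero => exact ⟨α, hγ0.symm, by simpa using hα⟩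
  | succ j ih =>
    obtain ⟨c, hc, hck⟩ := ih
    obtain ⟨d, hd⟩ := exists_c1Cap_cycle hδ hL c (t j) (ht j)
    refine ⟨d, by rw [hd, hc, hγs], ?_⟩
    refine Intersect.c1CapFun_mem_Zk (m := K - ((j + 1 : ℕ) : ℤ)) ⇑c (fun x hx => hck x ?_) (t j) d hd
    push_cast at hx
    omega

/-- Iterated caps respect rational equivalence and do not depend on the sections. -/
theorem pow_congr (hδ : Cyc.IsDimFun X δ) (hL : PicF.IsInvertible L) {K : ℤ} {α α' : AlgebraicCycle X ℤ}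
    (hα : α ∈ Cyc.Zk X δ K) (hα' : α' ∈ Cyc.Zk X δ K) (h : Cyc.RatEquiv δ K α α')
    {t t' : ℕ → (ξ : X) → Cyc.secFibre L ξ} (ht : ∀ i ξ, t i ξ ≠ 0) (ht' : ∀ i ξ, t' i ξ ≠ 0)
    {γ γ' : ℕ → X → ℤ} (hγ0 : γ 0 = ⇑α) (hγs : ∀ i, γ (i + 1) = Cyc.c1CapFun δ L (γ i) (t i))
    (hγ0' : γ' 0 = ⇑α') (hγs' : ∀ i, γ' (i + 1) = Cyc.c1CapFun δ L (γ' i) (t' i)) :
    ∀ (j : ℕ) (c c' : AlgebraicCycle X ℤ), ⇑c = γ j → ⇑c' = γ' j → Cyc.RatEquiv δ (K - j) c c' := by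
  intro j
  induction j with
  | zero =>
    intro c c' hc hc'
    rw [hγ0] at hc
    rw [hγ0'] at hc'
    rw [DFunLike.coe_injective hc, DFunLike.coe_injective hc', Nat.cast_zero, sub_zero]
    exact h
  | succ j ih =>
    intro c c' hc hc'
    obtain ⟨d, hd, -⟩ := exists_pow_cycles hδ hL α hα t ht γ hγ0 hγs j
    obtain ⟨d', hd', hdk'⟩ := exists_pow_cycles hδ hL α' hα' t' ht' γ' hγ0' hγs' j
    have e : K - ((j + 1 : ℕ) : ℤ) + 1 = K - j := by push_cast; ring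
    refine c1Cap_congr hδ hL _ (α' := d') (by rw [e]; exact hdk') (by rw [e]; exact ih d d' hd hd') (ht j) (ht' j)
      ?_ ?_
    · rw [hc, hγs, hd]
    · rw [hc', hγs', hd']

end Groth.Agent.CycLib28.PB
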