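import Groth.Agent.CycLib28.PB.Bundle
import Groth.Agent.CycLib28.PB.C1Pow
import Groth.Agent.CycLib28.PushAny
import Groth.Agent.CycLib28.DegZero

/-!
# Pushing forward the powers of `c₁(O(1))` on a projective bundle
-/

set_option autoImplicit false
set_option linter.unusedSectionVars false
set_option linter.style.haveILetI false
set_option backward.isDefEq.respectTransparency.types false

universe u

open AlgebraicGeometry CategoryTheory
open Groth.Agent.KRRPBLib Groth.Agent.Coherent Groth.Agent.PicLib Groth.Agent.CycLim28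

namespace Groth.Agent.CycLib28.PB

variable {X P : Scheme.{u}} {E : X.Modules} {π : P ⟶ X} {O1 : P.Modules}
  {q : (Scheme.Modules.pullback π).obj E ⟶ O1} {m : ℕ} {δ : X → ℤ} {δP : P → ℤ}

theorem map_sub_apply [QuasiCompact π] (a b : AlgebraicCycle P ℤ) :
    AlgebraicCycle.map π δP δ (a - b) = AlgebraicCycle.map π δP δ a - AlgebraicCycle.map π δP δ b := by
  refine DFunLike.ext _ _ fun x => ?_
  have h := map_apply_add π δP δ (a - b) b a (fun y => (sub_add_cancel (a y) (b y)).symm) x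
  show _ = AlgebraicCycle.map π δP δ a x - AlgebraicCycle.map π δP δ b x
  rw [h]
  ring

variable [IsLocallyNoetherian X] [IsLocallyNoetherian P] [Coh.IsQCoh E]
  (hE : FlatMod.IsFinLocFreeOfRank (m + 1) E) (hP : KRR.IsProjBundle π E O1 q) [IsProper π]
  (hdf : Cyc.IsDimFun X δ) (hdP : Cyc.IsDimFun P δP) (hc : Cyc.DeltaCompat π δP δ)

include hE hP hdP hc in
theorem exists_pullback (k : ℤ) (α : AlgebraicCycle X ℤ) (hα : α ∈ Cyc.Zk X δ k) :
    ∃ β : AlgebraicCycle P ℤ, ⇑β = Cyc.pullFun π δP δ (m : ℤ) ⇑α ∧ β ∈ Cyc.Zk P δP (k + m) := by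
  obtain ⟨β, hβ⟩ := exists_pullback_cycle π δP δ (m : ℤ) (delta_genInFibre hE hP hdP hc) α
  refine ⟨β, hβ, fun y hy => ?_⟩
  rw [hβ]
  simp only [Cyc.pullFun]
  split_ifs with h
  · rw [hα (π y) (by omega), zero_mul]
  · rfl

include hdf hdP hc hE hP in
/-- `π_*(c₁^s ∩ π^* α) = 0` for `s < m`. -/
theorem map_pow_eq_zero (k : ℤ) (α : AlgebraicCycle X ℤ) (hα : α ∈ Cyc.Zk X δ k)
    (t : ℕ → (ξ : P) → Cyc.secFibre O1 ξ) (γ : ℕ → P → ℤ)
    (hγ0 : γ 0 = Cyc.pullFun π δP δ (m : ℤ) ⇑α) (hγs : ∀ j, γ (j + 1) = Cyc.c1CapFun δP O1 (γ j) (t j))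
    (s : ℕ) (hs : s < m) (β : AlgebraicCycle P ℤ) (hβ : ⇑β = γ s) : AlgebraicCycle.map π δP δ β = 0 := by
  classical
  have hinv : ∀ j : ℕ, ∀ y, γ j y ≠ 0 → δP y = k + m - j ∧ ∃ ζ, α ζ ≠ 0 ∧ ζ ⤳ π y := by
    intro j
    induction j with
    | zero =>
      intro y hy
      rw [hγ0] at hy
      simp only [Cyc.pullFun] at hy
      split_ifs at hy with h
      · have h1 := left_ne_zero_of_mul hy
        exact ⟨by rw [h, show δ (π y) = k from by_contra fun e => h1 (hα _ e)]; simp, π y, h1, specializes_rfl⟩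
      · exact absurd rfl hy
    | succ j ih =>
      intro y hy
      obtain ⟨z, hz⟩ : ∃ z, γ j z * Cyc.secDivFun δP O1 z (t j z) y ≠ 0 := by
        by_contra! hall
        exact hy (by rw [hγs]; exact finsum_eq_zero_of_forall_eq_zero hall)
      obtain ⟨hz1, ζ, hζ, hsp⟩ := ih z (left_ne_zero_of_mul hz)
      by_cases h : z ⤳ y ∧ δP y + 1 = δP z
      · exact ⟨by push_cast; omega, ζ, hζ, hsp.trans (h.1.map π.continuous)⟩
      · exact absurd (by rw [Cyc.secDivFun, dif_neg h]) (right_ne_zero_of_mul hz)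
  refine DFunLike.ext _ _ fun x => ?_
  rw [map_apply_finset π δP δ β x ((finite_fibre_inter_support π β x).toFinset) (fun y hy => by
      have := (Set.Finite.mem_toFinset _).1 hy
      simp only [Set.mem_inter_iff, Set.mem_preimage, Set.mem_singleton_iff] at this
      exact this.1) (fun y hy hne => (Set.Finite.mem_toFinset _).2 ⟨hy, hne⟩)]
  refine Finset.sum_eq_zero fun y hy => ?_
  have hy' : π y = x := by
    have := (Set.Finite.mem_toFinset _).1 hy
    simp only [Set.mem_inter_iff, Set.mem_preimage, Set.mem_singleton_iff] at this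
    exact this.1
  by_cases hne : β y = 0
  · rw [hne, zero_mul]
  · obtain ⟨h1, ζ, hζ, hsp⟩ := hinv s y (by rwa [← hβ])
    have h2 : δ ζ = k := by_contra fun e => hζ (hα ζ e)
    have h3 := le_of_specializes hdf hsp
    rw [AlgebraicCycle.mapCoeff, if_neg (by omega)]
    simp

include hdf hdP hc hE hP in
/-- `π_*(c₁^m ∩ π^* α) ∼ α`. -/
theorem map_pow_ratEquiv (k : ℤ) (α : AlgebraicCycle X ℤ) (hα : α ∈ Cyc.Zk X δ k)
    (t : ℕ → (ξ : P) → Cyc.secFibre O1 ξ) (ht : ∀ j ξ, t j ξ ≠ 0) (γ : ℕ → P → ℤ)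
    (hγ0 : γ 0 = Cyc.pullFun π δP δ (m : ℤ) ⇑α) (hγs : ∀ j, γ (j + 1) = Cyc.c1CapFun δP O1 (γ j) (t j))
    (β : AlgebraicCycle P ℤ) (hβ : ⇑β = γ m) : Cyc.RatEquiv δ k (AlgebraicCycle.map π δP δ β) α := by
  have hinv := isInvertible_of_rankOne hP.invertible
  obtain ⟨a, ha, hak⟩ := exists_pullback hE hP hdP hc k α hα
  let γ' : ℕ → P → ℤ := Nat.rec (Cyc.pullFun π δP δ (m : ℤ) ⇑α)
    fun j g => Cyc.c1CapFun δP O1 g (flagSecs hE hP j)
  have hns := flagSecs_ne_zero hE hP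
  obtain ⟨β', hβ', hβk'⟩ := exists_pow_cycles hdP hinv a hak (flagSecs hE hP) hns γ' ha.symm (fun _ => rfl) m
  have hβk'' : β' ∈ Cyc.Zk P δP k := by simpa using hβk'
  have hrat : Cyc.RatEquiv δP k β β' := by
    simpa using pow_congr hdP hinv hak hak (ratEquiv_refl a) ht hns (hγ0.trans ha.symm) hγs ha.symm (fun _ => rfl)
      m β β' hβ hβ'
  have h := map_ratEquivZero hdP hdf π hc k (β - β') hrat
  rw [map_sub_apply, map_iterate_flagSecs hE hP hdP hc hdf k α hα γ' rfl (fun _ => rfl) β' hβ' hβk''] at h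
  exact h

end Groth.Agent.CycLib28.PB
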