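import Groth.Agent.CycLib28.PB.FlagCap
import Groth.Agent.CycLib28.C1Flat
import Groth.Agent.CycLib28.Push
import Groth.Agent.LocFreeLib.Semilocal
import Groth.Prelude.Def_ChowOps2
import Mathlib

/-!
# `π_*(c₁(O(1))^m ∩ π^* α) = α` for a projective bundle
-/

set_option autoImplicit false
set_option linter.unusedSectionVars false
set_option linter.style.haveILetI false
set_option backward.isDefEq.respectTransparency.types false

universe u

open AlgebraicGeometry CategoryTheory IsLocalRing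
open Groth.Agent.KRRPBLib Groth.Agent.Coherent Groth.Agent.PicLib Groth.Agent.CycLim28

namespace Groth.Agent.CycLib28.PB

variable {X P : Scheme.{u}} {E : X.Modules} {π : P ⟶ X} {O1 : P.Modules}
  {q : (Scheme.Modules.pullback π).obj E ⟶ O1} {m : ℕ}

/-- An affine chart of the base around a point with a basis of the bundle. -/
structure BaseChart (E : X.Modules) (m : ℕ) (ξ : X) where
  U : X.Opens
  isAffine : IsAffineOpen U
  mem : ξ ∈ U
  b : Module.Basis (Fin (m + 1)) Γ(X, U) Γ(E, U)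

theorem nonempty_baseChart (hE : FlatMod.IsFinLocFreeOfRank (m + 1) E) (ξ : X) : Nonempty (BaseChart E m ξ) := by
  obtain ⟨V, hξ, ⟨e⟩⟩ := hE ξ
  obtain ⟨W, hW, hξW, hWV⟩ := TopologicalSpace.Opens.isBasis_iff_nbhd.1 X.isBasis_affineOpens hξ
  obtain ⟨b⟩ := Props12.exists_basis_sections e hWV
  exact ⟨⟨W, hW, hξW, b⟩⟩

/-- A chosen chart around every point. -/
noncomputable def baseChart (hE : FlatMod.IsFinLocFreeOfRank (m + 1) E) (ξ : X) : BaseChart E m ξ :=
  (nonempty_baseChart hE ξ).some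

theorem flat_of_isProjBundle [Coh.IsQCoh E] (hE : FlatMod.IsFinLocFreeOfRank (m + 1) E)
    (hP : KRR.IsProjBundle π E O1 q) : Flat π := by
  rw [IsZariskiLocalAtSource.iff_of_openCover (P := @Flat) (P.openCoverOfIsOpenCover
    (fun a : Σ ξ : X, Fin (m + 1) => D q ((baseChart hE a.1).b a.2)) (eq_top_iff.2 fun y _ => ?_))]
  · rintro ⟨ξ, l⟩
    haveI := isIso_toAffineSpace hP (baseChart hE ξ).isAffine (baseChart hE ξ).b l
    haveI : Flat (Spec.map (CommRingCat.ofHom (MvPolynomial.C :
        Γ(X, (baseChart hE ξ).U) →+* MvPolynomial (Fin m) Γ(X, (baseChart hE ξ).U)))) := by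
      rw [HasRingHomProperty.Spec_iff (P := @Flat)]
      show (algebraMap Γ(X, (baseChart hE ξ).U) (MvPolynomial (Fin m) Γ(X, (baseChart hE ξ).U))).Flat
      rw [RingHom.flat_algebraMap_iff]
      infer_instance
    show Flat ((D q ((baseChart hE ξ).b l)).ι ≫ π)
    rw [← toAffineSpace_over (baseChart hE ξ).isAffine (baseChart hE ξ).b l]
    infer_instance
  · obtain ⟨l, hl⟩ := exists_mem_D hP (baseChart hE (π y)).b
      (show y ∈ π ⁻¹ᵁ _ from (baseChart hE (π y)).mem) (baseChart hE (π y)).isAffine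
    exact TopologicalSpace.Opens.mem_iSup.2 ⟨⟨π y, l⟩, hl⟩

variable [Coh.IsQCoh E] (hE : FlatMod.IsFinLocFreeOfRank (m + 1) E) (hP : KRR.IsProjBundle π E O1 q)

/-- The chosen flag in the fibre over a point. -/
noncomputable def eta (ξ : X) (k : Fin (m + 1)) : P :=
  flagPt hP (baseChart hE ξ).isAffine (baseChart hE ξ).b (baseChart hE ξ).mem k

theorem π_eta (ξ : X) (k : Fin (m + 1)) : π (eta hE hP ξ k) = ξ := π_flagPtIn _ _ _ _ _ _

variable [IsLocallyNoetherian P] {δ : X → ℤ} {δP : P → ℤ} (hdP : Cyc.IsDimFun P δP)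
  (hc : Cyc.DeltaCompat π δP δ)

include hdP hc in
theorem delta_eta (ξ : X) (k : Fin (m + 1)) : δP (eta hE hP ξ k) = δ ξ + m - (k : ℕ) :=
  delta_flagPt hP _ _ _ hdP hc k

include hdP hc in
theorem eq_eta_zero {ξ : X} {y : P} (hy : π y = ξ) (hd : δP y = δ ξ + m) : y = eta hE hP ξ 0 :=
  eq_flagPt_zero hP _ _ _ hdP hc hy hd

include hdP hc hE hP in
theorem delta_genInFibre (y : P) (hy : GenInFibre π y) : δP y = δ (π y) + (m : ℤ) := by
  have h := flagPt_specializes hP (baseChart hE (π y)).isAffine (baseChart hE (π y)).b (baseChart hE (π y)).mem 0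
    (y := y) rfl (fun i hi => absurd hi (by simp))
  have e : eta hE hP (π y) 0 = y := hy _ (π_eta hE hP _ _) h
  have := delta_eta hE hP hdP hc (π y) 0
  rw [e] at this
  simpa using this

include hdP hc in
open scoped Classical in
theorem pullFun_apply {a : X → ℤ} {y : P} :
    Cyc.pullFun π δP δ (m : ℤ) a y = if y = eta hE hP (π y) 0 then a (π y) else 0 := by
  simp only [Cyc.pullFun]
  split_ifs with h1 h2 h2
  · have key : ∀ z : P, z = eta hE hP (π y) 0 → Module.length (P.presheaf.stalk z)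
        (P.presheaf.stalk z ⧸ Ideal.map (π.stalkMap z).hom (maximalIdeal (X.presheaf.stalk (π z)))) = 1 := by
      rintro z rfl
      exact length_fibre_flagPt_zero hP _ _ _
    rw [key y h2]
    simp
  · exact absurd (eq_eta_zero hE hP hdP hc rfl h1) h2
  · exact absurd (by rw [h2, delta_eta hE hP hdP hc, π_eta]; simp) h1
  · rfl

/-- The index `j mod (m+1)`. -/
def idx (j : ℕ) : Fin (m + 1) := ⟨j % (m + 1), Nat.mod_lt _ m.succ_pos⟩

/-- Sections of `O(1)` adapted to the flags. -/
noncomputable def flagSecs (j : ℕ) (z : P) : Cyc.secFibre O1 z :=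
  open scoped Classical in
  if h : ∃ ξ, z = eta hE hP ξ (idx j) ∧ z ∈ π ⁻¹ᵁ (baseChart hE ξ).U then
    Submodule.Quotient.mk (O1.presheaf.germ (π ⁻¹ᵁ (baseChart hE h.choose).U) z h.choose_spec.2
      (sec q ((baseChart hE h.choose).b (idx j))))
  else Submodule.Quotient.mk (exists_gen_stalk (isInvertible_of_rankOne hP.invertible) z).choose

theorem flagSecs_ne_zero (j : ℕ) (z : P) : flagSecs hE hP j z ≠ 0 := by
  unfold flagSecs
  split_ifs with h
  · have key : ∀ (w : P) (hw : w ∈ π ⁻¹ᵁ (baseChart hE h.choose).U), w = eta hE hP h.choose (idx j) →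
        (Submodule.Quotient.mk (O1.presheaf.germ _ w hw (sec q ((baseChart hE h.choose).b (idx j)))) :
          Cyc.secFibre O1 w) ≠ 0 := by
      rintro w hw rfl
      exact flagSec_ne_zero hP (baseChart hE h.choose).isAffine (baseChart hE h.choose).b
        (baseChart hE h.choose).mem (idx j)
    exact key z _ h.choose_spec.1
  · intro h0
    obtain ⟨t, ht⟩ : ∃ t, t = (exists_gen_stalk (isInvertible_of_rankOne hP.invertible) z).choose := ⟨_, rfl⟩
    rw [← ht] at h0
    have hgen : Submodule.span (P.presheaf.stalk z) {t} = ⊤ := eq_top_iff.mpr fun v _ ↦ by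
      obtain ⟨r, rfl⟩ := (ht ▸ (exists_gen_stalk (isInvertible_of_rankOne hP.invertible) z).choose_spec.1).2 v
      exact Submodule.smul_mem _ _ (Submodule.subset_span rfl)
    have h1 := (mk_eq_zero_iff (isInvertible_of_rankOne hP.invertible) (specializes_refl z) hgen 1).1 (by
      rw [one_smul, TopCat.Presheaf.stalkSpecializes_refl]; exact h0)
    exact one_ne_zero ((map_one _).symm.trans h1)

theorem flagSecs_eta (j : ℕ) (ξ : X) (k : Fin (m + 1)) (hk : idx j = k) :
    flagSecs hE hP j (eta hE hP ξ k) =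
      flagSec hP (baseChart hE ξ).isAffine (baseChart hE ξ).b (baseChart hE ξ).mem k := by
  subst hk
  have h : ∃ ξ', eta hE hP ξ (idx j) = eta hE hP ξ' (idx j) ∧ eta hE hP ξ (idx j) ∈ π ⁻¹ᵁ (baseChart hE ξ').U :=
    ⟨ξ, rfl, flagPt_mem_preimage hP _ _ _ _⟩
  have hch : h.choose = ξ := by
    have := congrArg π h.choose_spec.1
    rw [π_eta, π_eta] at this
    exact this.symm
  unfold flagSecs
  rw [dif_pos h]
  have key : ∀ (ξ' : X) (hm : eta hE hP ξ (idx j) ∈ π ⁻¹ᵁ (baseChart hE ξ').U), ξ' = ξ →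
      (Submodule.Quotient.mk (O1.presheaf.germ _ _ hm (sec q ((baseChart hE ξ').b (idx j)))) :
        Cyc.secFibre O1 (eta hE hP ξ (idx j))) =
      flagSec hP (baseChart hE ξ).isAffine (baseChart hE ξ).b (baseChart hE ξ).mem (idx j) := by
    rintro ξ' hm rfl; rfl
  exact key _ _ hch

include hdP in
open scoped Classical in
theorem secDivFun_flagSecs (j : Fin m) {ξ : X} {y : P} (hy : π y = ξ) :
    Cyc.secDivFun δP O1 (eta hE hP ξ j.castSucc) (flagSecs hE hP j (eta hE hP ξ j.castSucc)) y =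
      if y = eta hE hP ξ j.succ then 1 else 0 := by
  rw [flagSecs_eta hE hP j ξ j.castSucc (Fin.ext (Nat.mod_eq_of_lt (j.2.trans m.lt_succ_self)))]
  exact secDivFun_flagSec hP _ _ _ hdP j hy

include hdP hc in
open scoped Classical in
theorem iterate_flagSecs (hdf : Cyc.IsDimFun X δ) (k : ℤ) (α : AlgebraicCycle X ℤ) (hα : α ∈ Cyc.Zk X δ k)
    (γ : ℕ → P → ℤ) (hγ0 : γ 0 = Cyc.pullFun π δP δ (m : ℤ) ⇑α)
    (hγs : ∀ j, γ (j + 1) = Cyc.c1CapFun δP O1 (γ j) (flagSecs hE hP j)) :
    ∀ j : ℕ, (hj : j < m + 1) → (∀ y, γ j y ≠ 0 → ∃ ζ, α ζ ≠ 0 ∧ ζ ⤳ π y) ∧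
      ∀ y, δ (π y) = k → γ j y = if y = eta hE hP (π y) ⟨j, hj⟩ then α (π y) else 0 := by
  intro j
  induction j with
  | zero =>
    intro hj
    have e : ∀ y, γ 0 y = if y = eta hE hP (π y) 0 then α (π y) else 0 := fun y => by
      rw [hγ0, pullFun_apply hE hP hdP hc]
    refine ⟨fun y hy => ⟨π y, fun h0 => hy (by rw [e, h0, ite_self]), specializes_rfl⟩, fun y _ => e y⟩
  | succ j ih =>
    intro hj
    obtain ⟨hsupp, hval⟩ := ih (by omega)
    have hterm : ∀ y z, γ j z * Cyc.secDivFun δP O1 z (flagSecs hE hP j z) y ≠ 0 → z ⤳ y := fun y z h => by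
      by_contra hn
      exact right_ne_zero_of_mul h (by rw [Cyc.secDivFun, dif_neg fun h' => hn h'.1])
    refine ⟨fun y hy => ?_, fun y hy => ?_⟩
    · obtain ⟨z, hz⟩ : ∃ z, γ j z * Cyc.secDivFun δP O1 z (flagSecs hE hP j z) y ≠ 0 := by
        by_contra! hall
        exact hy (by rw [hγs]; exact finsum_eq_zero_of_forall_eq_zero hall)
      obtain ⟨ζ, hζ, hsp⟩ := hsupp z (left_ne_zero_of_mul hz)
      exact ⟨ζ, hζ, hsp.trans ((hterm y z hz).map π.continuous)⟩
    · have honly : ∀ z, γ j z * Cyc.secDivFun δP O1 z (flagSecs hE hP j z) y ≠ 0 →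
          z = eta hE hP (π y) ⟨j, by omega⟩ := fun z hz => by
        obtain ⟨ζ, hζ, hsp⟩ := hsupp z (left_ne_zero_of_mul hz)
        have hzy := (hterm y z hz).map π.continuous
        have hζk : δ ζ = k := by_contra fun h => hζ (hα ζ h)
        have e1 : π z = π y := by
          refine eq_of_specializes_of_le hdf hzy ?_
          have := le_of_specializes hdf hsp
          omega
        have := left_ne_zero_of_mul hz
        rw [hval z (by rw [e1]; exact hy), e1] at this
        by_contra hne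
        rw [if_neg hne] at this
        exact this rfl
      rw [hγs, Cyc.c1CapFun, finsum_eq_single _ (eta hE hP (π y) ⟨j, by omega⟩)
        fun z hz => by_contra fun h => hz (honly z h)]
      rw [hval _ (by rw [π_eta]; exact hy), π_eta, if_pos rfl]
      have := secDivFun_flagSecs hE hP hdP (⟨j, by omega⟩ : Fin m) (ξ := π y) (y := y) rfl
      simp only [Fin.castSucc_mk, Fin.succ_mk] at this
      rw [this]
      split_ifs with h
      · rw [mul_one]
      · rw [mul_zero]

include hdP hc in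
theorem map_iterate_flagSecs (hdf : Cyc.IsDimFun X δ) [QuasiCompact π] (k : ℤ) (α : AlgebraicCycle X ℤ)
    (hα : α ∈ Cyc.Zk X δ k) (γ : ℕ → P → ℤ) (hγ0 : γ 0 = Cyc.pullFun π δP δ (m : ℤ) ⇑α)
    (hγs : ∀ j, γ (j + 1) = Cyc.c1CapFun δP O1 (γ j) (flagSecs hE hP j))
    (β : AlgebraicCycle P ℤ) (hβ : ⇑β = γ m) (hβk : β ∈ Cyc.Zk P δP k) :
    AlgebraicCycle.map π δP δ β = α := by
  classical
  refine DFunLike.ext _ _ fun x => ?_
  obtain ⟨-, hval⟩ := iterate_flagSecs hE hP hdP hc hdf k α hα γ hγ0 hγs m m.lt_succ_self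
  by_cases hx : δ x = k
  · rw [map_apply_finset π δP δ β x {eta hE hP x (Fin.last m)} (fun y hy => by
        rw [Finset.mem_singleton.1 hy, π_eta]) (fun y hy hne => Finset.mem_singleton.2 ?_), Finset.sum_singleton]
    · rw [hβ, hval _ (by rw [π_eta]; exact hx), π_eta, show (⟨m, m.lt_succ_self⟩ : Fin (m + 1)) = Fin.last m from rfl,
        if_pos rfl, AlgebraicCycle.mapCoeff, π_eta, if_pos (by
          rw [delta_eta hE hP hdP hc]; simp [Fin.val_last]), eta, residueDegree_flagPt_last]
      simp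
    · rw [hβ, hval y (by rw [hy]; exact hx), hy] at hne
      by_contra h
      rw [show (⟨m, m.lt_succ_self⟩ : Fin (m + 1)) = Fin.last m from rfl, if_neg h] at hne
      exact hne rfl
  · rw [hα x hx, map_apply_finset π δP δ β x ((finite_fibre_inter_support π β x).toFinset) (fun y hy => by
        have := (Set.Finite.mem_toFinset _).1 hy
        simp only [Set.mem_inter_iff, Set.mem_preimage, Set.mem_singleton_iff] at this
        exact this.1) (fun y hy hne => (Set.Finite.mem_toFinset _).2 ⟨hy, hne⟩)]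
    refine Finset.sum_eq_zero fun y hy => ?_
    have hy' : π y = x := by
      have := (Set.Finite.mem_toFinset _).1 hy
      simp only [Set.mem_inter_iff, Set.mem_preimage, Set.mem_singleton_iff] at this
      exact this.1
    by_cases hyk : δP y = k
    · rw [AlgebraicCycle.mapCoeff, if_neg (by rw [hy']; omega)]; simp
    · rw [hβk y hyk, zero_mul]

end Groth.Agent.CycLib28.PB
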