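import Groth.Agent.CycLib28.PB.ChernExist
import Groth.Agent.CycLib28.PB.ChernFlat
import Groth.Agent.CycLib28.C1CommuteApp

/-!
# Linearity of Chern class caps and commutation
-/

set_option autoImplicit false
set_option linter.unusedSectionVars false
set_option linter.style.haveILetI false
set_option backward.isDefEq.respectTransparency.types false

universe u

open AlgebraicGeometry CategoryTheory CategoryTheory.Limits
open Groth.Agent.KRRPBLib Groth.Agent.Coherent Groth.Agent.PicLib Groth.Agent.CycLim28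

namespace Groth.Agent.CycLib28.PB

/-- Iterated caps with one invertible module commute with a cap with another one. -/
theorem pow_comm {X : Scheme.{u}} [IsLocallyNoetherian X] {δ : X → ℤ} (hδ : Cyc.IsDimFun X δ) {N L : X.Modules}
    (hN : PicF.IsInvertible N) (hL : PicF.IsInvertible L) {K : ℤ} (a : AlgebraicCycle X ℤ) (ha : a ∈ Cyc.Zk X δ K)
    (t : ℕ → (ξ : X) → Cyc.secFibre N ξ) (ht : ∀ i ξ, t i ξ ≠ 0)
    (w w' : (ξ : X) → Cyc.secFibre L ξ) (hw : ∀ ξ, w ξ ≠ 0) (hw' : ∀ ξ, w' ξ ≠ 0)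
    (a' : AlgebraicCycle X ℤ) (ha' : ⇑a' = Cyc.c1CapFun δ L ⇑a w') :
    ∀ (n : ℕ) (c d e : AlgebraicCycle X ℤ), ⇑c = Cyc.c1PowFun δ N t n ⇑a → ⇑d = Cyc.c1CapFun δ L ⇑c w →
      ⇑e = Cyc.c1PowFun δ N t n ⇑a' → Cyc.RatEquiv δ (K - n - 1) d e := by
  have hak' : a' ∈ Cyc.Zk X δ (K - 1) :=
    Intersect.c1CapFun_mem_Zk (m := K - 1) ⇑a (fun x hx => ha x (by omega)) w' a' ha'
  intro n
  induction n with
  | zero =>
    intro c d e hc hd he
    rw [show e = a' from DFunLike.coe_injective he]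
    rw [show Cyc.c1PowFun δ N t 0 ⇑a = ⇑a from rfl] at hc
    rw [hc] at hd
    have h := c1CapFun_indep hδ hL (K - 1) a (by rwa [sub_add_cancel]) w w' (fun ξ _ => hw ξ) (fun ξ _ => hw' ξ)
      d a' hd ha'
    rwa [Nat.cast_zero, sub_zero]
  | succ n ih =>
    intro c d e hc hd he
    obtain ⟨cn, hcn, hcnk⟩ := exists_pow_cycles hδ hN a ha t ht (fun j => Cyc.c1PowFun δ N t j ⇑a) rfl (fun _ => rfl) n
    obtain ⟨en, hen, henk⟩ := exists_pow_cycles hδ hN a' hak' t ht (fun j => Cyc.c1PowFun δ N t j ⇑a') rfl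
      (fun _ => rfl) n
    obtain ⟨dn, hdn⟩ := exists_c1Cap_cycle hδ hL cn w hw
    obtain ⟨d', hd'⟩ := exists_c1Cap_cycle hδ hN dn (t n) (ht n)
    have hc' : ⇑c = Cyc.c1CapFun δ N ⇑cn (t n) := by rw [hc, hcn]; rfl
    have he' : ⇑e = Cyc.c1CapFun δ N ⇑en (t n) := by rw [he, hen]; rfl
    have e1 : K - ((n + 1 : ℕ) : ℤ) - 1 + 2 = K - n := by push_cast; ring
    have e2 : K - ((n + 1 : ℕ) : ℤ) - 1 + 1 = K - n - 1 := by push_cast; ring
    refine ratEquiv_trans (β := d') ?_ ?_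
    · exact c1Cap_comm hδ hL hN _ cn (by rwa [e1]) w w (t n) (t n) hw hw (ht n) (ht n) d d'
        (by rw [hd, hc']) (by rw [hd', hdn])
    · refine c1Cap_congr hδ hN _ (α' := en) ?_ ?_ (ht n) (ht n) hd' he'
      · rw [e2, show K - (n : ℤ) - 1 = K - 1 - n by ring]
        exact henk
      · rw [e2]
        exact ih cn dn en hcn hdn hen

variable {X P : Scheme.{u}} {δ : X → ℤ} {δP : P → ℤ} {r : ℕ} {E : X.Modules} {p : P ⟶ X} {O1 : P.Modules}
  {q : (Scheme.Modules.pullback p).obj E ⟶ O1}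

theorem isChernCap_zero (k : ℤ) : Cyc.IsChernCap p δ δP O1 r k 0 0 := by
  refine ⟨rfl, fun j x _ => rfl, fun t _ β hβ => ?_⟩
  have h0 : β = 0 := DFunLike.ext _ _ fun y => by
    rw [hβ]
    refine Finset.sum_eq_zero fun i _ => ?_
    have e : Cyc.pullFun p δP δ ((r : ℤ) - 1) ⇑((0 : Fin (r + 1) → AlgebraicCycle X ℤ) (Fin.rev i)) = 0 := by
      funext z
      simp [Cyc.pullFun]
    rw [e, c1PowFun_zero]
    exact mul_zero _
  rw [h0]
  exact P1Inter.ratEquivZero_zero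

theorem isChernCap_zsmul (hX : Cyc.IsSetup X δ) (hE : FlatMod.IsFinLocFreeOfRank r E)
    (hP : KRR.IsProjBundle p E O1 q) [IsProper p] (hPs : Cyc.IsSetup P δP) (hδ : Cyc.DeltaCompat p δP δ) {k : ℤ}
    {α : AlgebraicCycle X ℤ} {γ : Fin (r + 1) → AlgebraicCycle X ℤ}
    (hγ : Cyc.IsChernCap p δ δP O1 r k α γ) (e : ℤ) : Cyc.IsChernCap p δ δP O1 r k (e • α) (e • γ) := by
  haveI := hX.1
  haveI := hPs.1
  haveI := isQCoh_of_rank hE
  have h0 : (e • γ) 0 = e • α := by show e • γ 0 = _; rw [hγ.1]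
  have hk : ∀ j : Fin (r + 1), (e • γ) j ∈ Cyc.Zk X δ (k - ((j : ℕ) : ℤ)) := fun j x hx => by
    show e * γ j x = 0
    rw [hγ.2.1 j x hx, mul_zero]
  cases r with
  | zero =>
    haveI := isEmpty_of_rank_zero hE hP
    refine ⟨h0, hk, fun t _ β _ => ?_⟩
    rw [show β = 0 from DFunLike.ext _ _ fun y => isEmptyElim y]
    exact P1Inter.ratEquivZero_zero
  | succ m =>
    obtain ⟨c, hc', hck, hc0⟩ := exists_terms_of_isChernCap hE hP hPs.2.2 hδ hγ (flagSecs hE hP)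
      (flagSecs_ne_zero hE hP)
    refine isChernCap_of_terms hE hP hPs.2.2 hδ h0 hk _ (flagSecs_ne_zero hE hP) (fun i => e • c i) (fun i => ?_) ?_
    · show (fun y => e * c i y) = _
      rw [show (⇑((e • γ) (Fin.rev i)) : X → ℤ) = fun x => e * γ (Fin.rev i) x from rfl, pullFun_const_mul,
        c1PowFun_const_mul, ← hc']
    · refine Span.ratEquivZero_zsmul hPs.2.2 hc0 e fun x => ?_
      rw [coe_signed_sum, coe_signed_sum, Finset.mul_sum]
      refine Finset.sum_congr rfl fun i _ => ?_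
      show _ * (e * c i x) = _
      ring

theorem isChernCap_sum (hX : Cyc.IsSetup X δ) (hE : FlatMod.IsFinLocFreeOfRank r E)
    (hP : KRR.IsProjBundle p E O1 q) [IsProper p] (hPs : Cyc.IsSetup P δP) (hδ : Cyc.DeltaCompat p δP δ) {k : ℤ}
    {ι : Type*} (S : Finset ι) (e : ι → ℤ) (α : ι → AlgebraicCycle X ℤ)
    (γ : ι → Fin (r + 1) → AlgebraicCycle X ℤ) (hγ : ∀ i ∈ S, Cyc.IsChernCap p δ δP O1 r k (α i) (γ i)) :
    Cyc.IsChernCap p δ δP O1 r k (∑ i ∈ S, e i • α i) (∑ i ∈ S, e i • γ i) := by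
  classical
  induction S using Finset.induction_on with
  | empty => rw [Finset.sum_empty, Finset.sum_empty]; exact isChernCap_zero k
  | insert a S ha ih =>
    rw [Finset.sum_insert ha, Finset.sum_insert ha]
    exact isChernCap_add hX hE hP hPs hδ
      (isChernCap_zsmul hX hE hP hPs hδ (hγ a (Finset.mem_insert_self a S)) (e a))
      (ih fun i hi => hγ i (Finset.mem_insert_of_mem hi))

/-- Capping a tuple of Chern class caps with a first Chern class gives a tuple of Chern class caps. -/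
theorem isChernCap_c1Cap (hX : Cyc.IsSetup X δ) (hE : FlatMod.IsFinLocFreeOfRank r E)
    (hP : KRR.IsProjBundle p E O1 q) [IsProper p] (hPs : Cyc.IsSetup P δP) (hδ : Cyc.DeltaCompat p δP δ)
    {L : X.Modules} (hL : PicF.IsInvertible L) {k : ℤ} {α : AlgebraicCycle X ℤ}
    {γ : Fin (r + 1) → AlgebraicCycle X ℤ} (hγ : Cyc.IsChernCap p δ δP O1 r k α γ)
    (s : (ξ : X) → Cyc.secFibre L ξ) (hs : ∀ ξ, s ξ ≠ 0) (D : Fin (r + 1) → AlgebraicCycle X ℤ)
    (hD : ∀ j, ⇑(D j) = Cyc.c1CapFun δ L ⇑(γ j) s) : Cyc.IsChernCap p δ δP O1 r (k - 1) (D 0) D := by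
  haveI := hX.1
  haveI := hPs.1
  haveI := isQCoh_of_rank hE
  have hk : ∀ j : Fin (r + 1), D j ∈ Cyc.Zk X δ (k - 1 - ((j : ℕ) : ℤ)) := fun j =>
    Intersect.c1CapFun_mem_Zk (m := k - 1 - ((j : ℕ) : ℤ)) ⇑(γ j) (fun x hx => hγ.2.1 j x (by omega)) s (D j) (hD j)
  cases r with
  | zero =>
    haveI := isEmpty_of_rank_zero hE hP
    refine ⟨rfl, hk, fun t _ β _ => ?_⟩
    rw [show β = 0 from DFunLike.ext _ _ fun y => isEmptyElim y]
    exact P1Inter.ratEquivZero_zero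
  | succ m =>
    haveI : Flat p := flat_of_isProjBundle hE hP
    have hinv := isInvertible_of_rankOne hP.invertible
    have hL' := PicLoc.isInvertible_pullback p hL
    have hcp := delta_genInFibre hE hP hPs.2.2 hδ
    set t := flagSecs hE hP
    have ht : ∀ i ξ, t i ξ ≠ 0 := flagSecs_ne_zero hE hP
    obtain ⟨c, hcc, hck, hc0⟩ := exists_terms_of_isChernCap hE hP hPs.2.2 hδ hγ t ht
    choose cD hcD hcDk using exists_rel_terms hE hP hPs.2.2 hδ (k - 1) D hk t ht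
    choose w hw hweq using fun i : Fin (m + 2) =>
      c1CapFun_pullback p hPs.2.2 hX.2.2 (m : ℤ) hcp hL (γ (Fin.rev i)) s hs
    choose e he using fun i => exists_c1Cap_cycle hPs.2.2 hL' (c i) (w 0) (hw 0)
    refine isChernCap_of_terms hE hP hPs.2.2 hδ rfl hk t ht cD hcD (rel_transfer hPs.2.2 cD e (fun i => ?_) ?_)
    · obtain ⟨a, ha, hak⟩ := exists_pullback hE hP hPs.2.2 hδ _ (γ (Fin.rev i)) (hγ.2.1 _)
      obtain ⟨b, hb, hbk⟩ := exists_pullback hE hP hPs.2.2 hδ _ (D (Fin.rev i)) (hk _)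
      have hab : ⇑b = Cyc.c1CapFun δP ((Scheme.Modules.pullback p).obj L) ⇑a (w i) := by
        rw [hb, hD, hweq, ha]
      have h := pow_comm hPs.2.2 hinv hL' a hak t ht (w 0) (w i) (hw 0) (hw i) b hab i (c i) (e i) (cD i)
        (by rw [hcc, ha]) (he i) (by rw [hcD, hb])
      rw [show k - (((Fin.rev i : Fin (m + 2)) : ℕ) : ℤ) + (m : ℤ) - ((i : ℕ) : ℤ) - 1 = k - 1 - 1 by
        rw [Fin.val_rev]; omega] at h
      exact ratEquiv_symm hPs.2.2 h
    · refine c1Cap_ratEquivZero hPs.2.2 hL' (k - 1 - 1) (∑ i : Fin (m + 2), (-1 : ℤ) ^ (i : ℕ) • c i)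
        (by rwa [sub_add_cancel]) (w 0) (hw 0) _ ?_
      rw [c1CapFun_sum]
      funext x
      rw [coe_signed_sum, Finset.sum_apply]
      refine Finset.sum_congr rfl fun i _ => ?_
      rw [show (⇑((-1 : ℤ) ^ (i : ℕ) • c i) : P → ℤ) = fun x => (-1 : ℤ) ^ (i : ℕ) * c i x from rfl,
        c1CapFun_const_mul, ← he]

/-- Iterated first Chern class caps of a tuple of Chern class caps. -/
theorem exists_isChernCap_c1Pow (hX : Cyc.IsSetup X δ) (hE : FlatMod.IsFinLocFreeOfRank r E)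
    (hP : KRR.IsProjBundle p E O1 q) [IsProper p] (hPs : Cyc.IsSetup P δP) (hδ : Cyc.DeltaCompat p δP δ)
    {L : X.Modules} (hL : PicF.IsInvertible L) {k : ℤ} {α : AlgebraicCycle X ℤ}
    {γ : Fin (r + 1) → AlgebraicCycle X ℤ} (hγ : Cyc.IsChernCap p δ δP O1 r k α γ)
    (t : ℕ → (ξ : X) → Cyc.secFibre L ξ) (ht : ∀ i ξ, t i ξ ≠ 0) (n : ℕ) :
    ∃ D : Fin (r + 1) → AlgebraicCycle X ℤ, (∀ j, ⇑(D j) = Cyc.c1PowFun δ L t n ⇑(γ j)) ∧
      Cyc.IsChernCap p δ δP O1 r (k - n) (D 0) D := by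
  haveI := hX.1
  induction n with
  | zero => exact ⟨γ, fun _ => rfl, by rw [Nat.cast_zero, sub_zero, hγ.1]; exact hγ⟩
  | succ n ih =>
    obtain ⟨D, hD, hcap⟩ := ih
    choose D' hD' using fun j => exists_c1Cap_cycle hX.2.2 hL (D j) (t n) (ht n)
    refine ⟨D', fun j => by rw [hD', hD]; rfl, ?_⟩
    rw [show k - ((n + 1 : ℕ) : ℤ) = k - n - 1 by push_cast; ring]
    exact isChernCap_c1Cap hX hE hP hPs hδ hL hcap (t n) (ht n) D' hD'

/-- Chern class caps of two bundles commute. -/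
theorem chernCap_comm (hX : Cyc.IsSetup X δ) (hE : FlatMod.IsFinLocFreeOfRank r E)
    (hP : KRR.IsProjBundle p E O1 q) [IsProper p] (hPs : Cyc.IsSetup P δP) (hδ : Cyc.DeltaCompat p δP δ)
    {s : ℕ} {F : X.Modules} (hF : FlatMod.IsFinLocFreeOfRank s F) {Q : Scheme.{u}} {p' : Q ⟶ X}
    {O1' : Q.Modules} {q' : (Scheme.Modules.pullback p').obj F ⟶ O1'} (hQ : KRR.IsProjBundle p' F O1' q')
    [IsProper p'] {δQ : Q → ℤ} (hQs : Cyc.IsSetup Q δQ) (hδ' : Cyc.DeltaCompat p' δQ δ) {k : ℤ}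
    {α : AlgebraicCycle X ℤ} (i : Fin (r + 1)) (j : Fin (s + 1))
    {γ : Fin (r + 1) → AlgebraicCycle X ℤ} (hγ : Cyc.IsChernCap p δ δP O1 r k α γ)
    {ε : Fin (s + 1) → AlgebraicCycle X ℤ} (hε : Cyc.IsChernCap p' δ δQ O1' s (k - ((i : ℕ) : ℤ)) (γ i) ε)
    {φ : Fin (s + 1) → AlgebraicCycle X ℤ} (hφ : Cyc.IsChernCap p' δ δQ O1' s k α φ)
    {ψ : Fin (r + 1) → AlgebraicCycle X ℤ} (hψ : Cyc.IsChernCap p δ δP O1 r (k - ((j : ℕ) : ℤ)) (φ j) ψ) :
    Cyc.RatEquiv δ (k - ((i : ℕ) : ℤ) - ((j : ℕ) : ℤ)) (ε j) (ψ i) := by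
  haveI := hX.1
  haveI := hPs.1
  haveI := isQCoh_of_rank hE
  have he0 : ∀ {g : AlgebraicCycle X ℤ}, g = α → ∀ {e : Fin (s + 1) → AlgebraicCycle X ℤ},
      Cyc.IsChernCap p' δ δQ O1' s k g e → Cyc.RatEquiv δ (k - ((j : ℕ) : ℤ)) (e j) (φ j) := by
    rintro g rfl e he
    exact chernCap_unique hX hF hQ hQs hδ' (ratEquiv_refl _) he hφ j
  cases r with
  | zero =>
    have hi : i = 0 := Fin.fin_one_eq_zero i
    subst hi
    rw [hψ.1]
    simpa using he0 hγ.1 (e := ε) (by simpa using hε)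
  | succ m =>
    haveI : Flat p := flat_of_isProjBundle hE hP
    have hm := hasRelDim_bundle hE hP hPs.2.2 hδ
    have hcp := delta_genInFibre hE hP hPs.2.2 hδ
    have hinv := isInvertible_of_rankOne hP.invertible
    have hsq : IsPullback (pullback.fst p' p) (pullback.snd p' p) p' p := IsPullback.of_hasPullback p' p
    obtain ⟨δQ', hQ's, hπ'⟩ := exists_setup (pullback.snd p' p) hPs
    have hF' := Groth.Agent.VarietyLib.isFinLocFreeOfRank_pullback p hF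
    have hQ' := isProjBundle_baseChange q' hQ hsq
    choose εf hεf using fun l : Fin (m + 2) => exists_chernCap hX hF hQ hQs hδ' (γ l) (hγ.2.1 l)
    have hεfk : ∀ l : Fin (m + 2), εf l j ∈ Cyc.Zk X δ (k - ((j : ℕ) : ℤ) - ((l : ℕ) : ℤ)) := fun l => by
      have h := (hεf l).2.1 j
      rwa [show k - ((l : ℕ) : ℤ) - ((j : ℕ) : ℤ) = k - ((j : ℕ) : ℤ) - ((l : ℕ) : ℤ) by ring] at h
    set t := flagSecs hE hP
    have ht : ∀ i ξ, t i ξ ≠ 0 := flagSecs_ne_zero hE hP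
    obtain ⟨c, hcc, hck, hc0⟩ := exists_terms_of_isChernCap hE hP hPs.2.2 hδ hγ t ht
    obtain ⟨cψ, hcψ, -, hcψ0⟩ := exists_terms_of_isChernCap hE hP hPs.2.2 hδ hψ t ht
    choose a ha hak using fun i : Fin (m + 2) =>
      exists_pullback hE hP hPs.2.2 hδ _ (γ (Fin.rev i)) (hγ.2.1 _)
    choose b hb using fun (i : Fin (m + 2)) (l : Fin (s + 1)) =>
      exists_pullback_cycle p δP δ (m : ℤ) hcp (εf (Fin.rev i) l)
    choose G hG using fun i : Fin (m + 2) => exists_chernCap hPs hF' hQ' hQ's hπ' (a i) (hak i)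
    choose D hD hDcap using fun i : Fin (m + 2) => exists_isChernCap_c1Pow hPs hF' hQ' hQ's hπ' hinv (hG i) t ht i
    have hD0 : ∀ i, D i 0 = c i := fun i =>
      DFunLike.coe_injective (by rw [hD, hcc, (hG i).1, ha])
    have hcap : Cyc.IsChernCap (pullback.snd p' p) δP δQ' ((Scheme.Modules.pullback (pullback.fst p' p)).obj O1') s
        (k - 1) (∑ i : Fin (m + 2), (-1 : ℤ) ^ (i : ℕ) • c i) (∑ i : Fin (m + 2), (-1 : ℤ) ^ (i : ℕ) • D i) :=
      isChernCap_sum hPs hF' hQ' hQ's hπ' Finset.univ _ c D fun i _ => by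
        have h := hDcap i
        rwa [hD0, show k - (((Fin.rev i : Fin (m + 2)) : ℕ) : ℤ) + (m : ℤ) - ((i : ℕ) : ℤ) = k - 1 by
          rw [Fin.val_rev]; omega] at h
    have hsum : Cyc.RatEquivZero δP (k - ((j : ℕ) : ℤ) - 1) (∑ i : Fin (m + 2), (-1 : ℤ) ^ (i : ℕ) • D i j) := by
      have h := chernCap_unique hPs hF' hQ' hQ's hπ' (ratEquiv_zero_right hc0) hcap
        (isChernCap_zero (k - 1)) j
      rw [Cyc.RatEquiv, Pi.zero_apply, sub_zero, Finset.sum_apply,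
        show k - 1 - ((j : ℕ) : ℤ) = k - ((j : ℕ) : ℤ) - 1 by ring] at h
      exact h
    choose cη hcη hcηk using exists_rel_terms hE hP hPs.2.2 hδ (k - ((j : ℕ) : ℤ)) (fun l => εf l j) hεfk t ht
    have hη := rel_unique hE hP hX.2.2 hPs.2.2 hδ (k - ((j : ℕ) : ℤ)) (fun l => εf l j) ψ hεfk hψ.2.1
      (by
        rw [hψ.1]
        exact he0 hγ.1 (e := εf 0) (by simpa using hεf 0))
      t ht cη cψ hcη hcψ (rel_transfer hPs.2.2 cη (fun i => D i j) (fun i => ?_) hsum) hcψ0 i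
    · have h1 := chernCap_unique hX hF hQ hQs hδ' (ratEquiv_refl _) hε (hεf i) j
      refine ratEquiv_trans h1 ?_
      rw [show k - ((i : ℕ) : ℤ) - ((j : ℕ) : ℤ) = k - ((j : ℕ) : ℤ) - ((i : ℕ) : ℤ) by ring]
      exact hη
    · have h1 := chernCap_pullFun hPs hX p m hm hδ hF hQ hQs hδ' hsq hQ's hπ' (ha i) (hεf (Fin.rev i)) (hG i)
        (b i) (hb i) j
      have h := pow_congr hPs.2.2 hinv (pullFun_mem_Zk p δP δ (m : ℤ) ((hεf (Fin.rev i)).2.1 j) (hb i j))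
        (show G i j ∈ Cyc.Zk P δP
          (k - (((Fin.rev i : Fin (m + 2)) : ℕ) : ℤ) - ((j : ℕ) : ℤ) + (m : ℤ)) by
          convert (hG i).2.1 j using 1; ring)
        (by convert h1 using 1; ring) ht ht
        (γ := fun n => Cyc.c1PowFun δP O1 t n ⇑(b i j)) rfl (fun _ => rfl)
        (γ' := fun n => Cyc.c1PowFun δP O1 t n ⇑(G i j)) rfl (fun _ => rfl) i (cη i) (D i j)
        (by rw [hcη, hb]) (hD i j)
      rwa [show k - (((Fin.rev i : Fin (m + 2)) : ℕ) : ℤ) - ((j : ℕ) : ℤ) + (m : ℤ) - ((i : ℕ) : ℤ) =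
        k - ((j : ℕ) : ℤ) - 1 by rw [Fin.val_rev]; omega] at h

end Groth.Agent.CycLib28.PB
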