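import Groth.Agent.CycLib28.PB.ChernRel
import Groth.Agent.CycLib28.Coef
import Groth.Agent.Coherent.CohBC.ClosedFibreMono
import Groth.Agent.PicLib.FlatTriv

/-!
# The first Chern class of a line bundle
-/

set_option autoImplicit false
set_option linter.unusedSectionVars false
set_option linter.style.haveILetI false
set_option backward.isDefEq.respectTransparency.types false

universe u

open AlgebraicGeometry CategoryTheory CategoryTheory.Limits
open Groth.Agent.KRRPBLib Groth.Agent.Coherent Groth.Agent.PicLib Groth.Agent.CycLim28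

namespace Groth.Agent.CycLib28.PB

/-- An epimorphism of invertible modules is an isomorphism. -/
theorem isIso_of_epi_invertible {X : Scheme.{u}} {L M : X.Modules} (hL : PicF.IsInvertible L)
    (hM : PicF.IsInvertible M) (φ : L ⟶ M) [Epi φ] : IsIso φ := by
  haveI : Mono φ := CohBC.mono_of_injective_stalks φ fun x => by
    obtain ⟨t, ht⟩ := exists_gen_stalk hL x
    let l : L.presheaf.stalk x →ₗ[X.presheaf.stalk x] M.presheaf.stalk x := ((DerSch.stalkFunctor X x).map φ).hom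
    have hs : Function.Surjective l :=
      (ModuleCat.epi_iff_surjective ((DerSch.stalkFunctor X x).map φ)).1 inferInstance
    have ht' : Submodule.span (X.presheaf.stalk x) {l t} = ⊤ := Submodule.eq_top_iff'.2 fun v => by
      obtain ⟨a, rfl⟩ := hs v
      obtain ⟨r, hr⟩ := ht.1.2 a
      exact Submodule.mem_span_singleton.2 ⟨r, by rw [← map_smul]; exact congrArg l hr⟩
    intro a b hab
    obtain ⟨r, rfl⟩ := ht.1.2 a
    obtain ⟨r', rfl⟩ := ht.1.2 b
    have h1 : r • l t = r' • l t := by rw [← map_smul, ← map_smul]; exact hab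
    rw [(gen_bijective hM ht').1.1 h1]
  exact isIso_of_mono_of_epi φ

/-- Caps with isomorphic line bundles agree. -/
theorem c1CapFun_iso {X : Scheme.{u}} [IsLocallyNoetherian X] {δ : X → ℤ} (hδ : Cyc.IsDimFun X δ)
    {L M : X.Modules} (hL : PicF.IsInvertible L) (hM : PicF.IsInvertible M) (e : L ≅ M) (α : X → ℤ)
    (s : (ξ : X) → Cyc.secFibre L ξ) (hs : ∀ ξ, s ξ ≠ 0) :
    ∃ s' : (ξ : X) → Cyc.secFibre M ξ, (∀ ξ, s' ξ ≠ 0) ∧ Cyc.c1CapFun δ M α s' = Cyc.c1CapFun δ L α s := by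
  classical
  choose U hU g hg using PicLib.exists_isGen hL
  choose φ hφ using fun ξ : X => exists_rep (hg ξ) (hU ξ) (s ξ)
  have hne : ∀ ξ, (X.residue ξ).hom (φ ξ) ≠ 0 := fun ξ h0 =>
    hs ξ ((hφ ξ).trans ((mk_eq_zero_iff_gen (hg ξ) (hU ξ) _).2 h0))
  refine ⟨fun ξ => Submodule.Quotient.mk (φ ξ • M.presheaf.germ (U ξ) ξ (hU ξ) (e.hom.app (U ξ) (g ξ))),
    fun ξ h => hne ξ ((mk_eq_zero_iff_gen (isGen_app_iso e (hg ξ)) (hU ξ) _).1 h), funext fun x => ?_⟩
  refine finsum_congr fun ξ => congrArg (α ξ * ·) ?_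
  simp only [Cyc.secDivFun]
  split_ifs with h
  · obtain ⟨V, hxV, f, hf⟩ := PicLib.exists_isGen hL x
    have hξV : ξ ∈ V := h.1.mem_open V.2 hxV
    obtain ⟨c, hc⟩ := (VarietyLib.gen_germ_bijective hf hξV).2 (L.presheaf.germ (U ξ) ξ (hU ξ) (g ξ))
    replace hc : c • L.presheaf.germ V ξ hξV f = L.presheaf.germ (U ξ) ξ (hU ξ) (g ξ) := hc
    have hc' : c • M.presheaf.germ V ξ hξV (e.hom.app V f) = M.presheaf.germ (U ξ) ξ (hU ξ) (e.hom.app (U ξ) (g ξ)) := by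
      rw [← AssSch12.stalkFunctor_map_germ e.hom (hU ξ), ← AssSch12.stalkFunctor_map_germ e.hom hξV, ← hc]
      exact (map_smul ((DerSch.stalkFunctor X ξ).map e.hom).hom c _).symm
    have hne' : (X.residue ξ).hom (φ ξ * c) ≠ 0 := fun h0 => hs ξ (by
      rw [hφ ξ, ← hc, smul_smul, mk_eq_zero_iff_gen hf hξV]; exact h0)
    rw [← hc', smul_smul, secOrdAt_gen hδ hM h.1 h.2 (isGen_app_iso e hf) hxV hξV _ hne', hφ ξ, ← hc, smul_smul,
      secOrdAt_gen hδ hL h.1 h.2 hf hxV hξV _ hne']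
  · rfl

theorem chernCap_line {X : Scheme.{u}} {δ : X → ℤ} (hX : Cyc.IsSetup X δ) {L : X.Modules}
    (hL : PicF.IsInvertible L) (hE : FlatMod.IsFinLocFreeOfRank 1 L) {P : Scheme.{u}} {p : P ⟶ X} {O1 : P.Modules}
    {q : (Scheme.Modules.pullback p).obj L ⟶ O1} (hP : KRR.IsProjBundle p L O1 q) [IsProper p] {δP : P → ℤ}
    (hPs : Cyc.IsSetup P δP) (hδ : Cyc.DeltaCompat p δP δ) {n : ℤ} {α : AlgebraicCycle X ℤ}
    {γ : Fin 2 → AlgebraicCycle X ℤ} (hγ : Cyc.IsChernCap p δ δP O1 1 n α γ)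
    (s : (ξ : X) → Cyc.secFibre L ξ) (hs : ∀ ξ, s ξ ≠ 0) {β : AlgebraicCycle X ℤ}
    (hβ : ⇑β = Cyc.c1CapFun δ L ⇑α s) : Cyc.RatEquiv δ (n - 1) (γ 1) β := by
  haveI := hX.1
  haveI := hPs.1
  haveI : Coh.IsQCoh L := isQCoh_of_rank hE
  have hE' : FlatMod.IsFinLocFreeOfRank (0 + 1) L := hE
  haveI : Flat p := flat_of_isProjBundle hE' hP
  have hinv := isInvertible_of_rankOne hP.invertible
  have hα : α ∈ Cyc.Zk X δ n := fun x hx => by
    have h := hγ.2.1 0 x (by simpa using hx)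
    rwa [hγ.1] at h
  have hcp := delta_genInFibre hE' hP hPs.2.2 hδ
  obtain ⟨a, ha, hak⟩ := exists_pullback hE' hP hPs.2.2 hδ n α hα
  obtain ⟨w, hw, heq⟩ := c1CapFun_pullback p hPs.2.2 hX.2.2 _ hcp hL α s hs
  haveI : Epi q := hP.epi
  haveI := isIso_of_epi_invertible (PicLoc.isInvertible_pullback p hL) hinv q
  obtain ⟨u, hu, heq'⟩ := c1CapFun_iso hPs.2.2 (PicLoc.isInvertible_pullback p hL) hinv (asIso q) ⇑a w hw
  -- constant choices of sections
  let t : ℕ → (ξ : P) → Cyc.secFibre O1 ξ := fun _ => u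
  have ht : ∀ i ξ, t i ξ ≠ 0 := fun _ => hu
  obtain ⟨c, hc', -, hc0⟩ := exists_terms_of_isChernCap hE' hP hPs.2.2 hδ hγ t ht
  have hβk : β ∈ Cyc.Zk X δ (n - 1) :=
    Intersect.c1CapFun_mem_Zk (m := n - 1) ⇑α (fun x hx => hα x fun e => hx (by omega)) s β hβ
  let γ' : Fin 2 → AlgebraicCycle X ℤ := ![α, β]
  have hγ'k : ∀ j : Fin (0 + 2), γ' j ∈ Cyc.Zk X δ (n - ((j : ℕ) : ℤ)) := by
    intro j x hx
    match j with
    | ⟨0, _⟩ => exact hα x (by simpa using hx)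
    | ⟨1, _⟩ => exact hβk x (by simpa using hx)
  choose d hd hdk using exists_rel_terms hE' hP hPs.2.2 hδ n γ' hγ'k t ht
  have h := rel_unique hE' hP hX.2.2 hPs.2.2 hδ n γ γ' hγ.2.1 hγ'k
    (by rw [hγ.1]; exact ratEquiv_refl _) t ht c d hc' hd hc0 ?_ 1
  · simpa [γ'] using h
  · rw [show (∑ i : Fin (0 + 2), (-1 : ℤ) ^ (i : ℕ) • d i) = 0 from ?_]
    · exact P1Inter.ratEquivZero_zero
    refine DFunLike.ext _ _ fun y => ?_
    rw [coe_signed_sum, Fin.sum_univ_two]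
    have h0 : d 0 y = Cyc.c1CapFun δP O1 ⇑a u y := by
      rw [hd 0]
      show Cyc.pullFun p δP δ _ ⇑β y = _
      rw [heq', ha, hβ, heq]
    have h1 : d 1 y = Cyc.c1CapFun δP O1 ⇑a u y := by
      rw [hd 1, ha]
      rfl
    simp only [Fin.val_zero, Fin.val_one, pow_zero, pow_one, one_mul, neg_one_mul]
    rw [h0, h1, add_neg_cancel]
    rfl

end Groth.Agent.CycLib28.PB
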