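import Groth.Agent.CycLib28.PB.Indep
import Groth.Agent.CAlgH3.LocFreeFactor

/-!
# Uniqueness of Chern class caps

A tuple satisfying the projective bundle relation whose leading term is rationally equivalent to zero
consists of classes rationally equivalent to zero.
-/

set_option autoImplicit false
set_option linter.unusedSectionVars false
set_option linter.style.haveILetI false
set_option backward.isDefEq.respectTransparency.types false

universe u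

open AlgebraicGeometry CategoryTheory
open Groth.Agent.KRRPBLib Groth.Agent.Coherent Groth.Agent.PicLib Groth.Agent.CycLim28

namespace Groth.Agent.CycLib28.PB

theorem isQCoh_of_rank {X : Scheme.{u}} {r : ℕ} {E : X.Modules} (hE : FlatMod.IsFinLocFreeOfRank r E) :
    Coh.IsQCoh E :=
  Groth.Agent.CAlgH3.LocFreeFactor.isQCoh_of_finLocFree fun x =>
    let ⟨U, hx, h⟩ := hE x; ⟨U, r, hx, h⟩

section lin

variable {X : Scheme.{u}} {δ : X → ℤ} {L : X.Modules}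

theorem c1CapFun_const_mul (e : ℤ) (f : X → ℤ) (s : (ξ : X) → Cyc.secFibre L ξ) :
    Cyc.c1CapFun δ L (fun x => e * f x) s = fun x => e * Cyc.c1CapFun δ L f s x := by
  funext x
  simp only [Cyc.c1CapFun, mul_assoc]
  exact (smul_finsum e _).symm

theorem c1PowFun_const_mul (t : ℕ → (ξ : X) → Cyc.secFibre L ξ) (e : ℤ) (f : X → ℤ) :
    ∀ n, Cyc.c1PowFun δ L t n (fun x => e * f x) = fun x => e * Cyc.c1PowFun δ L t n f x
  | 0 => rfl
  | n + 1 => by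
    show Cyc.c1CapFun δ L (Cyc.c1PowFun δ L t n _) (t n) = _
    rw [c1PowFun_const_mul t e f n, c1CapFun_const_mul]
    rfl

theorem pullFun_const_mul {Y : Scheme.{u}} (f : X ⟶ Y) (δY : Y → ℤ) (c : ℤ) (e : ℤ) (g : Y → ℤ) :
    Cyc.pullFun f δ δY c (fun y => e * g y) = fun x => e * Cyc.pullFun f δ δY c g x := by
  funext x
  simp only [Cyc.pullFun]
  split_ifs with h
  · exact mul_assoc _ _ _
  · exact (mul_zero e).symm

theorem pullFun_sub_fun {Y : Scheme.{u}} (f : X ⟶ Y) (δY : Y → ℤ) (c : ℤ) (g g' : Y → ℤ) :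
    Cyc.pullFun f δ δY c (g - g') = Cyc.pullFun f δ δY c g - Cyc.pullFun f δ δY c g' := by
  funext x
  simp only [Cyc.pullFun, Pi.sub_apply]
  split_ifs with h
  · exact sub_mul _ _ _
  · exact (sub_zero (0 : ℤ)).symm

variable [IsLocallyNoetherian X]

theorem c1PowFun_sub (hδ : Cyc.IsDimFun X δ) (hL : PicF.IsInvertible L) {K : ℤ} (a b : AlgebraicCycle X ℤ)
    (ha : a ∈ Cyc.Zk X δ K) (hb : b ∈ Cyc.Zk X δ K) (t : ℕ → (ξ : X) → Cyc.secFibre L ξ)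
    (ht : ∀ i ξ, t i ξ ≠ 0) :
    ∀ n, Cyc.c1PowFun δ L t n (⇑a - ⇑b) = Cyc.c1PowFun δ L t n ⇑a - Cyc.c1PowFun δ L t n ⇑b
  | 0 => rfl
  | n + 1 => by
    obtain ⟨c, hc, -⟩ := exists_pow_cycles hδ hL a ha t ht (fun j => Cyc.c1PowFun δ L t j ⇑a) rfl (fun _ => rfl) n
    obtain ⟨d, hd, -⟩ := exists_pow_cycles hδ hL b hb t ht (fun j => Cyc.c1PowFun δ L t j ⇑b) rfl (fun _ => rfl) n
    show Cyc.c1CapFun δ L (Cyc.c1PowFun δ L t n _) (t n) =
      Cyc.c1CapFun δ L (Cyc.c1PowFun δ L t n _) (t n) - Cyc.c1CapFun δ L (Cyc.c1PowFun δ L t n _) (t n)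
    rw [c1PowFun_sub hδ hL a b ha hb t ht n, ← hc, ← hd, c1CapFun_sub]

theorem ratEquivZero_neg_one_pow (hδ : Cyc.IsDimFun X δ) {k : ℤ} (i : ℕ) {a b : AlgebraicCycle X ℤ}
    (h : Cyc.RatEquivZero δ k a) (hb : ∀ x, b x = (-1 : ℤ) ^ i * a x) : Cyc.RatEquivZero δ k b := by
  rcases neg_one_pow_eq_or ℤ i with e | e
  · convert h using 1
    exact DFunLike.ext _ _ fun x => by rw [hb, e, one_mul]
  · exact ratEquivZero_neg hδ h fun x => by rw [hb, e]; ring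

end lin

section bundle

variable {X P : Scheme.{u}} {E : X.Modules} {π : P ⟶ X} {O1 : P.Modules}
  {q : (Scheme.Modules.pullback π).obj E ⟶ O1} {m : ℕ} {δ : X → ℤ} {δP : P → ℤ}
  [IsLocallyNoetherian X] [IsLocallyNoetherian P] [Coh.IsQCoh E]
  (hE : FlatMod.IsFinLocFreeOfRank (m + 1) E) (hP : KRR.IsProjBundle π E O1 q) [IsProper π]
  (hdf : Cyc.IsDimFun X δ) (hdP : Cyc.IsDimFun P δP) (hc : Cyc.DeltaCompat π δP δ)

include hdP hc hE hP in
theorem exists_rel_terms (k : ℤ) (γ : Fin (m + 2) → AlgebraicCycle X ℤ)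
    (hγ : ∀ j : Fin (m + 2), γ j ∈ Cyc.Zk X δ (k - ((j : ℕ) : ℤ)))
    (t : ℕ → (ξ : P) → Cyc.secFibre O1 ξ) (ht : ∀ i ξ, t i ξ ≠ 0) (i : Fin (m + 2)) :
    ∃ c : AlgebraicCycle P ℤ,
      ⇑c = Cyc.c1PowFun δP O1 t i (Cyc.pullFun π δP δ (m : ℤ) ⇑(γ (Fin.rev i))) ∧ c ∈ Cyc.Zk P δP (k - 1) := by
  obtain ⟨a, ha, hak⟩ := exists_pullback hE hP hdP hc _ (γ (Fin.rev i)) (hγ _)
  obtain ⟨c, hc', hck⟩ := exists_pow_cycles hdP (isInvertible_of_rankOne hP.invertible) a hak t ht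
    (fun j => Cyc.c1PowFun δP O1 t j ⇑a) rfl (fun _ => rfl) i
  refine ⟨c, by rw [hc', ha], fun x hx => hck x ?_⟩
  rw [Fin.val_rev]
  omega

include hdP hc hE hP in
theorem exists_rel_cycle (k : ℤ) (γ : Fin (m + 2) → AlgebraicCycle X ℤ)
    (hγ : ∀ j : Fin (m + 2), γ j ∈ Cyc.Zk X δ (k - ((j : ℕ) : ℤ)))
    (t : ℕ → (ξ : P) → Cyc.secFibre O1 ξ) (ht : ∀ i ξ, t i ξ ≠ 0) :
    ∃ β : AlgebraicCycle P ℤ, ∀ y, β y = ∑ i : Fin (m + 2), (-1 : ℤ) ^ (i : ℕ) *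
      Cyc.c1PowFun δP O1 t i (Cyc.pullFun π δP δ (m : ℤ) ⇑(γ (Fin.rev i))) y := by
  choose c hc' hck using exists_rel_terms hE hP hdP hc k γ hγ t ht
  refine ⟨∑ i : Fin (m + 2), (-1 : ℤ) ^ (i : ℕ) • c i, fun y => ?_⟩
  rw [cycle_coe_sum, Finset.sum_apply]
  refine Finset.sum_congr rfl fun i _ => ?_
  rw [← hc' i]
  rfl

include hdf hdP hc hE hP in
theorem rel_ratEquivZero (k : ℤ) (γ : Fin (m + 2) → AlgebraicCycle X ℤ)
    (hγ : ∀ j : Fin (m + 2), γ j ∈ Cyc.Zk X δ (k - ((j : ℕ) : ℤ))) (h0 : Cyc.RatEquivZero δ k (γ 0))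
    (t : ℕ → (ξ : P) → Cyc.secFibre O1 ξ) (ht : ∀ i ξ, t i ξ ≠ 0) (β : AlgebraicCycle P ℤ)
    (hβ : ∀ y, β y = ∑ i : Fin (m + 2), (-1 : ℤ) ^ (i : ℕ) *
      Cyc.c1PowFun δP O1 t i (Cyc.pullFun π δP δ (m : ℤ) ⇑(γ (Fin.rev i))) y)
    (hβ0 : Cyc.RatEquivZero δP (k - 1) β) :
    ∀ j : Fin (m + 2), Cyc.RatEquivZero δ (k - ((j : ℕ) : ℤ)) (γ j) := by
  classical
  haveI : Flat π := flat_of_isProjBundle hE hP
  have hinv := isInvertible_of_rankOne hP.invertible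
  -- the last term
  obtain ⟨a, ha, hak⟩ := exists_pullback hE hP hdP hc k (γ 0) (fun x hx => hγ 0 x (by simpa using hx))
  obtain ⟨c, hc', -⟩ := exists_pow_cycles hdP hinv a hak t ht (fun j => Cyc.c1PowFun δP O1 t j ⇑a) rfl (fun _ => rfl)
    (m + 1)
  have hc0 : Cyc.RatEquivZero δP (k - 1) c := by
    have hazero := pullFun_ratEquivZero π hdP hdf (m : ℤ) (delta_genInFibre hE hP hdP hc) _ (γ 0) h0 a ha
    have h := pow_congr hdP hinv (α := a) (α' := 0) hak (fun _ _ => rfl) (ratEquiv_zero_right hazero) ht ht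
      (γ := fun j => Cyc.c1PowFun δP O1 t j ⇑a) rfl (fun _ => rfl) (γ' := fun j => Cyc.c1PowFun δP O1 t j 0) rfl
      (fun _ => rfl) (m + 1) c 0 hc' (by rw [c1PowFun_zero]; rfl)
    rwa [Cyc.RatEquiv, sub_zero, show k + (m : ℤ) - ((m + 1 : ℕ) : ℤ) = k - 1 by push_cast; ring] at h
  obtain ⟨β', hβ'⟩ : ∃ β' : AlgebraicCycle P ℤ, β' = β - (-1 : ℤ) ^ (m + 1) • c := ⟨_, rfl⟩
  have hβ'0 : Cyc.RatEquivZero δP (k - 1) β' :=
    ratEquivZero_add hβ0 (ratEquivZero_neg_one_pow hdP m hc0 (b := (-1 : ℤ) ^ m • c) fun x => rfl) fun x => by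
      rw [hβ']
      show β x - (-1 : ℤ) ^ (m + 1) * c x = β x + (-1 : ℤ) ^ m * c x
      ring
  have key := classes_independent hE hP hdf hdP hc (k - m - 1)
    (fun i => (-1 : ℤ) ^ (i : ℕ) • γ (Fin.rev i.castSucc))
    (fun i x hx => by
      show (-1 : ℤ) ^ (i : ℕ) * γ (Fin.rev i.castSucc) x = 0
      rw [hγ _ x ?_, mul_zero]
      rw [Fin.val_rev, Fin.val_castSucc]
      omega)
    (fun _ => t) (fun _ => ht) β' (fun x => by
      rw [hβ']
      show β x - (-1 : ℤ) ^ (m + 1) * c x = _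
      rw [hβ, Fin.sum_univ_castSucc, Fin.val_last, Fin.rev_last,
        show c x = Cyc.c1PowFun δP O1 t (m + 1) (Cyc.pullFun π δP δ (m : ℤ) ⇑(γ 0)) x by rw [hc', ha],
        add_sub_cancel_right]
      refine Finset.sum_congr rfl fun i _ => ?_
      rw [show (⇑((-1 : ℤ) ^ (i : ℕ) • γ (Fin.rev i.castSucc)) : X → ℤ) =
        fun y => (-1 : ℤ) ^ (i : ℕ) * γ (Fin.rev i.castSucc) y from rfl, pullFun_const_mul, c1PowFun_const_mul,
        Fin.val_castSucc])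
    (by rwa [show k - (m : ℤ) - 1 + m = k - 1 by ring])
  intro j
  refine Fin.cases (by simpa using h0) (fun i => ?_) j
  have h := key (Fin.rev i)
  have e : Fin.rev (Fin.rev i).castSucc = i.succ := by
    rw [Fin.rev_castSucc, Fin.rev_rev]
  rw [e, show k - (m : ℤ) - 1 + ((Fin.rev i : ℕ) : ℤ) = k - (((i.succ : Fin (m + 2)) : ℕ) : ℤ) by
    rw [Fin.val_rev, Fin.val_succ]; omega] at h
  refine ratEquivZero_neg_one_pow hdf (Fin.rev i : ℕ) h fun x => ?_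
  show γ i.succ x = (-1 : ℤ) ^ (Fin.rev i : ℕ) * ((-1 : ℤ) ^ (Fin.rev i : ℕ) * γ i.succ x)
  rw [← mul_assoc, ← mul_pow, neg_one_mul, neg_neg, one_pow, one_mul]

end bundle

/-- Chern class caps are unique up to rational equivalence and factor through rational equivalence. -/
theorem chernCap_unique {X : Scheme.{u}} {δ : X → ℤ} (hX : Cyc.IsSetup X δ) {r : ℕ} {E : X.Modules}
    (hE : FlatMod.IsFinLocFreeOfRank r E) {P : Scheme.{u}} {p : P ⟶ X} {O1 : P.Modules}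
    {q : (Scheme.Modules.pullback p).obj E ⟶ O1} (hP : KRR.IsProjBundle p E O1 q) [IsProper p] {δP : P → ℤ}
    (hPs : Cyc.IsSetup P δP) (hδ : Cyc.DeltaCompat p δP δ) {k : ℤ} {α α' : AlgebraicCycle X ℤ}
    (h : Cyc.RatEquiv δ k α α') {γ γ' : Fin (r + 1) → AlgebraicCycle X ℤ}
    (hγ : Cyc.IsChernCap p δ δP O1 r k α γ) (hγ' : Cyc.IsChernCap p δ δP O1 r k α' γ') (j : Fin (r + 1)) :
    Cyc.RatEquiv δ (k - ((j : ℕ) : ℤ)) (γ j) (γ' j) := by
  obtain ⟨e0, hk, hrel⟩ := hγ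
  obtain ⟨e0', hk', hrel'⟩ := hγ'
  haveI := hX.1
  haveI := hPs.1
  haveI := isQCoh_of_rank hE
  cases r with
  | zero =>
    rw [show j = 0 from Fin.fin_one_eq_zero j, e0, e0']
    simpa using h
  | succ m =>
    have hinv := isInvertible_of_rankOne hP.invertible
    set u := flagSecs hE hP
    have hu : ∀ j ξ, u j ξ ≠ 0 := flagSecs_ne_zero hE hP
    obtain ⟨β, hβ⟩ := exists_rel_cycle hE hP hPs.2.2 hδ k γ hk u hu
    obtain ⟨β', hβ'⟩ := exists_rel_cycle hE hP hPs.2.2 hδ k γ' hk' u hu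
    have e : (((m + 1 : ℕ) : ℤ) - 1) = (m : ℤ) := by push_cast; ring
    have h1 := hrel u hu β fun y => by rw [hβ, e]
    have h2 := hrel' u hu β' fun y => by rw [hβ', e]
    refine rel_ratEquivZero hE hP hX.2.2 hPs.2.2 hδ k (fun i => γ i - γ' i)
      (fun i x hx => by show γ i x - γ' i x = 0; rw [hk i x hx, hk' i x hx, sub_zero])
      (by show Cyc.RatEquivZero δ k (γ 0 - γ' 0); rw [e0, e0']; exact h) u hu (β - β') (fun y => ?_) ?_ j
    · show β y - β' y = _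
      rw [hβ, hβ', ← Finset.sum_sub_distrib]
      refine Finset.sum_congr rfl fun i _ => ?_
      rw [← mul_sub]
      congr 1
      obtain ⟨a, ha, hak⟩ := exists_pullback hE hP hPs.2.2 hδ _ (γ (Fin.rev i)) (hk _)
      obtain ⟨b, hb, hbk⟩ := exists_pullback hE hP hPs.2.2 hδ _ (γ' (Fin.rev i)) (hk' _)
      rw [show (⇑(γ (Fin.rev i) - γ' (Fin.rev i)) : X → ℤ) = ⇑(γ (Fin.rev i)) - ⇑(γ' (Fin.rev i)) from rfl,
        pullFun_sub_fun, ← ha, ← hb, c1PowFun_sub hPs.2.2 hinv a b hak hbk u hu]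
      rfl
    · exact ratEquivZero_add h1 (ratEquivZero_neg hPs.2.2 h2 (β := -β') fun _ => rfl)
        fun y => (sub_eq_add_neg (β y) (β' y))

end Groth.Agent.CycLib28.PB
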