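import Groth.Agent.CycLib28.PB.FlagAlg
import Groth.Agent.Euler15.Iso
import Groth.Agent.KRRPBLib.Chart

/-!
# Coordinate subspaces in the fibres of a projective bundle
-/

set_option autoImplicit false
set_option linter.unusedSectionVars false
set_option linter.style.haveILetI false
set_option backward.isDefEq.respectTransparency.types false

universe u

open AlgebraicGeometry CategoryTheory
open Groth.Agent.KRRPBLib Groth.Agent.Coherent Groth.Agent.PicLib

namespace Groth.Agent.CycLib28.PB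

variable {X P : Scheme.{u}} {E : X.Modules} {π : P ⟶ X} {O1 : P.Modules}
  {q : (Scheme.Modules.pullback π).obj E ⟶ O1} [Coh.IsQCoh E] {U : X.Opens} {m : ℕ}
  (hP : KRR.IsProjBundle π E O1 q) (hU : IsAffineOpen U)
  (b : Module.Basis (Fin (m + 1)) Γ(X, U) Γ(E, U))

theorem mem_primeIdealOf_iff {V : X.Opens} (hV : IsAffineOpen V) {x : X} (hx : x ∈ V) (a : Γ(X, V)) :
    a ∈ (hV.primeIdealOf ⟨x, hx⟩).asIdeal ↔ x ∉ X.basicOpen a := by
  rw [hV.primeIdealOf_eq_map_closedPoint, X.mem_basicOpen _ x hx]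
  exact IsLocalRing.mem_maximalIdeal _

theorem inf_D_le_basicOpen (e e' : Γ(E, U)) : D q e ⊓ D q e' ≤ P.basicOpen (coord q e e') := by
  intro y hy
  let W := D q e ⊓ D q e'
  have g1 := (isGen_D q e).restrict (inf_le_left : W ≤ _)
  rw [resM_resM] at g1
  have h1 := congrArg (resM O1 (inf_le_left : W ≤ D q e)) (coord_spec q e e')
  have h2 := congrArg (resM O1 (inf_le_right : W ≤ D q e')) (coord_spec q e' e)
  rw [resM_smul, resM_resM, resM_resM] at h1 h2
  have h3 : res (inf_le_right : W ≤ D q e') (coord q e' e) * res (inf_le_left : W ≤ D q e) (coord q e e') = 1 := by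
    refine (g1 W le_rfl).1 ?_
    show _ • resM O1 _ _ = (1 : Γ(P, W)) • resM O1 _ _
    rw [resM_self, one_smul, mul_smul, h1, h2]
  rw [P.mem_basicOpen _ y hy.1]
  have h4 := congrArg (P.presheaf.germ W y hy) h3
  rw [map_mul, map_one] at h4
  rw [← TopCat.Presheaf.germ_res_apply P.presheaf (homOfLE (inf_le_left : W ≤ D q e)) y hy]
  exact IsUnit.of_mul_eq_one_right _ h4

/-- Vanishing of a coordinate. -/
theorem mem_basicOpen_coord_iff {e e' : Γ(E, U)} {y : P} (hy : y ∈ D q e) :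
    y ∈ P.basicOpen (coord q e e') ↔ y ∈ D q e' :=
  ⟨fun h => basicOpen_coord_le q e e' h, fun h => inf_D_le_basicOpen e e' ⟨hy, h⟩⟩

include hP hU in
theorem isAffineOpen_D (k : Fin (m + 1)) : IsAffineOpen (D q (b k)) := (Euler15.bijective_coordHom hP hU b k).1

/-- The coordinate ring of the chart. -/
noncomputable def chartEquiv (k : Fin (m + 1)) : MvPolynomial (Fin m) Γ(X, U) ≃+* Γ(P, D q (b k)) :=
  RingEquiv.ofBijective (coordHom b k) (Euler15.bijective_coordHom hP hU b k).2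

theorem chartEquiv_C (k : Fin (m + 1)) (a : Γ(X, U)) :
    chartEquiv hP hU b k (MvPolynomial.C a) = π.appLE U (D q (b k)) (D_le q (b k)) a :=
  MvPolynomial.eval₂Hom_C _ _ _

theorem chartEquiv_X (k : Fin (m + 1)) (i : Fin m) :
    chartEquiv hP hU b k (MvPolynomial.X i) = coord q (b k) (b (k.succAbove i)) :=
  MvPolynomial.eval₂Hom_X' _ _ _

variable {ξ : X} (hξ : ξ ∈ U)

/-- The vanishing coordinates of the `k`-th subspace. -/
def flagSet (k : Fin (m + 1)) : Set (Fin m) := {i | (i : ℕ) < k}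

/-- The prime of the `k`-th subspace in the `l`-th chart. -/
noncomputable def flagPrime (l k : Fin (m + 1)) : PrimeSpectrum Γ(P, D q (b l)) :=
  ⟨Ideal.comap (chartEquiv hP hU b l).symm (flagIdeal (hU.primeIdealOf ⟨ξ, hξ⟩).asIdeal (flagSet k)),
    Ideal.IsPrime.comap _⟩

/-- The generic point of `x_i = 0`, `i < k`, in the `l`-th chart of the fibre over `ξ`. -/
noncomputable def flagPtIn (l k : Fin (m + 1)) : P :=
  (isAffineOpen_D hP hU b l).fromSpec (flagPrime hP hU b hξ l k)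

/-- The generic point of `x_i = 0`, `i < k`, in the fibre over `ξ`. -/
noncomputable abbrev flagPt (k : Fin (m + 1)) : P := flagPtIn hP hU b hξ k k

theorem flagPtIn_mem (l k : Fin (m + 1)) : flagPtIn hP hU b hξ l k ∈ D q (b l) :=
  (isAffineOpen_D hP hU b l).range_fromSpec.le ⟨_, rfl⟩

theorem primeIdealOf_flagPtIn (l k : Fin (m + 1)) :
    (isAffineOpen_D hP hU b l).primeIdealOf ⟨flagPtIn hP hU b hξ l k, flagPtIn_mem hP hU b hξ l k⟩ =
      flagPrime hP hU b hξ l k :=
  (isAffineOpen_D hP hU b l).fromSpec.isOpenEmbedding.injective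
    ((isAffineOpen_D hP hU b l).fromSpec_primeIdealOf _)

theorem notMem_basicOpen_iff (l k : Fin (m + 1)) (f : MvPolynomial (Fin m) Γ(X, U)) :
    flagPtIn hP hU b hξ l k ∉ P.basicOpen (chartEquiv hP hU b l f) ↔
      f ∈ flagIdeal (hU.primeIdealOf ⟨ξ, hξ⟩).asIdeal (flagSet k) := by
  rw [← mem_primeIdealOf_iff (isAffineOpen_D hP hU b l) (flagPtIn_mem hP hU b hξ l k), primeIdealOf_flagPtIn]
  simp [flagPrime]

theorem comap_chart {k : Fin (m + 1)} {y : P} (hy : y ∈ D q (b k)) (a : Γ(X, U)) :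
    π.appLE U (D q (b k)) (D_le q (b k)) a ∈ ((isAffineOpen_D hP hU b k).primeIdealOf ⟨y, hy⟩).asIdeal ↔
      a ∈ (hU.primeIdealOf ⟨π y, D_le q (b k) hy⟩).asIdeal :=
  (SetLike.ext_iff.1 (congrArg PrimeSpectrum.asIdeal
    (IsAffineOpen.comap_primeIdealOf_appLE U hU _ (isAffineOpen_D hP hU b k) (D_le q (b k)) hy)) a)

theorem primeIdealOf_congr {x x' : X} (hx : x ∈ U) (hx' : x' ∈ U) (h : x = x') :
    hU.primeIdealOf ⟨x, hx⟩ = hU.primeIdealOf ⟨x', hx'⟩ := by subst h; rfl

theorem π_flagPtIn (l k : Fin (m + 1)) : π (flagPtIn hP hU b hξ l k) = ξ := by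
  have hmem : π (flagPtIn hP hU b hξ l k) ∈ U := D_le q (b l) (flagPtIn_mem hP hU b hξ l k)
  have h : hU.primeIdealOf ⟨_, hmem⟩ = hU.primeIdealOf ⟨ξ, hξ⟩ := by
    refine PrimeSpectrum.ext (SetLike.ext fun a => ?_)
    refine (comap_chart hP hU b (flagPtIn_mem hP hU b hξ l k) a).symm.trans ?_
    rw [← chartEquiv_C hP hU b l a, mem_primeIdealOf_iff, notMem_basicOpen_iff, C_mem_flagIdeal]
  have := congrArg hU.fromSpec h
  rwa [hU.fromSpec_primeIdealOf, hU.fromSpec_primeIdealOf] at this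

theorem flagPtIn_mem_D_iff {l k : Fin (m + 1)} (hkl : k ≤ l) (i : Fin (m + 1)) :
    flagPtIn hP hU b hξ l k ∈ D q (b i) ↔ k ≤ i := by
  rcases Fin.eq_self_or_eq_succAbove l i with rfl | ⟨j, rfl⟩
  · exact iff_of_true (flagPtIn_mem hP hU b hξ _ _) hkl
  rw [← mem_basicOpen_coord_iff (flagPtIn_mem hP hU b hξ l k), ← chartEquiv_X hP hU b l j, ← not_iff_not,
    notMem_basicOpen_iff, X_mem_flagIdeal, flagSet, Set.mem_ofPred_eq]
  rcases lt_or_ge j.castSucc l with h | h
  · rw [Fin.succAbove_of_castSucc_lt _ _ h, not_le, Fin.lt_def]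
    rfl
  · rw [Fin.succAbove_of_le_castSucc _ _ h, not_le, Fin.lt_def]
    simp only [Fin.le_def, Fin.val_castSucc, Fin.val_succ] at h hkl ⊢
    omega

theorem flagPtIn_specializes {l : Fin (m + 1)} (k : Fin (m + 1)) (hkl : k ≤ l) {y : P} (hl : y ∈ D q (b l))
    (hy : π y = ξ) (h : ∀ i < k, y ∉ D q (b i)) : flagPtIn hP hU b hξ l k ⤳ y := by
  have hD := isAffineOpen_D hP hU b l
  have key : flagPrime hP hU b hξ l k ≤ hD.primeIdealOf ⟨y, hl⟩ := by
    intro a ha
    obtain ⟨f, rfl⟩ := (chartEquiv hP hU b l).surjective a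
    have hf : f ∈ flagIdeal (hU.primeIdealOf ⟨ξ, hξ⟩).asIdeal (flagSet k) := by
      rw [← RingEquiv.symm_apply_apply (chartEquiv hP hU b l) f]
      exact ha
    refine (flagIdeal_le _ _ (I := ((hD.primeIdealOf ⟨y, hl⟩).asIdeal.comap (chartEquiv hP hU b l)))
      (fun r hr => ?_) (fun i hi => ?_)) hf
    · rw [Ideal.mem_comap, chartEquiv_C, comap_chart hP hU b hl, primeIdealOf_congr hU _ hξ hy]
      exact hr
    · rw [Ideal.mem_comap, chartEquiv_X, mem_primeIdealOf_iff, mem_basicOpen_coord_iff hl]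
      have hi' : i.castSucc < k := hi
      rw [Fin.succAbove_of_castSucc_lt _ _ (hi'.trans_le hkl)]
      exact h _ hi'
  have hs := Specializes.map ((PrimeSpectrum.le_iff_specializes _ _).1 key) hD.fromSpec.continuous
  rw [hD.fromSpec_primeIdealOf] at hs
  exact hs

/-- The universal property of the flag points. -/
theorem flagPt_specializes (k : Fin (m + 1)) {y : P} (hy : π y = ξ) (h : ∀ i < k, y ∉ D q (b i)) :
    flagPt hP hU b hξ k ⤳ y := by
  obtain ⟨l, hl⟩ := exists_mem_D hP b (show y ∈ π ⁻¹ᵁ U by show π y ∈ U; rw [hy]; exact hξ) hU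
  have hkl : k ≤ l := not_lt.1 fun hlk => h l hlk hl
  refine (flagPtIn_specializes hP hU b hξ k le_rfl ?_ (π_flagPtIn hP hU b hξ l k) fun i hi => ?_).trans
    (flagPtIn_specializes hP hU b hξ k hkl hl hy h)
  · exact (flagPtIn_mem_D_iff hP hU b hξ hkl k).2 le_rfl
  · exact fun hm => not_le.2 hi ((flagPtIn_mem_D_iff hP hU b hξ hkl i).1 hm)

end Groth.Agent.CycLib28.PB
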