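import Mathlib

/-!
# Primes of coordinate subspaces over a prime of the base
-/

set_option autoImplicit false
set_option linter.unusedSectionVars false

universe u

open MvPolynomial

namespace Groth.Agent.CycLib28.PB

variable {R : Type u} [CommRing R] {m : ℕ} (p : Ideal R) [p.IsPrime] (Z : Set (Fin m))

/-- The ideal of the coordinate subspace `X_i = 0`, `i ∈ Z`, over `p`. -/
noncomputable def flagIdeal : Ideal (MvPolynomial (Fin m) R) :=
  open scoped Classical in
  RingHom.ker (eval₂Hom ((C : R ⧸ p →+* MvPolynomial (Fin m) (R ⧸ p)).comp (Ideal.Quotient.mk p))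
    fun i => if i ∈ Z then 0 else X i)

instance flagIdeal_isPrime : (flagIdeal p Z).IsPrime := RingHom.ker_isPrime _

theorem C_mem_flagIdeal (r : R) : C r ∈ flagIdeal p Z ↔ r ∈ p := by
  classical
  rw [flagIdeal, RingHom.mem_ker, eval₂Hom_C, RingHom.comp_apply, map_eq_zero_iff _ (C_injective _ _),
    Ideal.Quotient.eq_zero_iff_mem]

theorem X_mem_flagIdeal (i : Fin m) : X i ∈ flagIdeal p Z ↔ i ∈ Z := by
  classical
  rw [flagIdeal, RingHom.mem_ker, eval₂Hom_X']
  split_ifs with h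
  · simp [h]
  · simp [h, X_ne_zero]

theorem flagIdeal_le {I : Ideal (MvPolynomial (Fin m) R)} (hC : ∀ r ∈ p, C r ∈ I) (hX : ∀ i ∈ Z, X i ∈ I) :
    flagIdeal p Z ≤ I := by
  classical
  intro f hf
  let σ : MvPolynomial (Fin m) R →+* MvPolynomial (Fin m) R :=
    eval₂Hom C fun i => if i ∈ Z then 0 else X i
  have h1 : (Ideal.Quotient.mk I).comp σ = Ideal.Quotient.mk I := by
    refine ringHom_ext (fun r => by simp [σ]) fun i => ?_
    by_cases hi : i ∈ Z
    · simp only [σ, RingHom.comp_apply, eval₂Hom_X', if_pos hi, map_zero]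
      exact (Ideal.Quotient.eq_zero_iff_mem.2 (hX i hi)).symm
    · simp [σ, hi]
  have h2 : (MvPolynomial.map (Ideal.Quotient.mk p)).comp σ =
      eval₂Hom ((C : R ⧸ p →+* MvPolynomial (Fin m) (R ⧸ p)).comp (Ideal.Quotient.mk p))
        fun i => if i ∈ Z then 0 else X i := by
    refine ringHom_ext (fun r => by simp [σ]) fun i => ?_
    by_cases hi : i ∈ Z <;> simp [σ, hi]
  rw [← Ideal.Quotient.eq_zero_iff_mem, ← h1, RingHom.comp_apply, Ideal.Quotient.eq_zero_iff_mem]
  have h3 : σ f ∈ RingHom.ker (MvPolynomial.map (Ideal.Quotient.mk p)) := by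
    rw [RingHom.mem_ker, ← RingHom.comp_apply, h2]
    exact hf
  rw [ker_map, Ideal.mk_ker] at h3
  exact Ideal.map_le_iff_le_comap.2 hC h3

theorem flagIdeal_mono {Z' : Set (Fin m)} (h : Z ⊆ Z') : flagIdeal p Z ≤ flagIdeal p Z' :=
  flagIdeal_le p Z (fun r hr => (C_mem_flagIdeal p Z' r).2 hr) fun i hi => (X_mem_flagIdeal p Z' i).2 (h hi)

theorem flagIdeal_insert_le (i : Fin m) : flagIdeal p (insert i Z) ≤ flagIdeal p Z ⊔ Ideal.span {X i} := by
  refine flagIdeal_le p _ (fun r hr => Ideal.mem_sup_left ((C_mem_flagIdeal p Z r).2 hr)) fun j hj => ?_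
  rcases hj with rfl | hj
  · exact Ideal.mem_sup_right (Ideal.mem_span_singleton_self _)
  · exact Ideal.mem_sup_left ((X_mem_flagIdeal p Z j).2 hj)

/-- There is no prime strictly between consecutive coordinate subspaces. -/
theorem eq_or_eq_of_le_of_le {i : Fin m} (hi : i ∉ Z) (q : Ideal (MvPolynomial (Fin m) R)) [q.IsPrime]
    (h1 : flagIdeal p Z ≤ q) (h2 : q ≤ flagIdeal p (insert i Z)) :
    q = flagIdeal p Z ∨ q = flagIdeal p (insert i Z) := by
  classical
  by_cases hX : X i ∈ q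
  · refine Or.inr (h2.antisymm ((flagIdeal_insert_le p Z i).trans (sup_le h1 ?_)))
    exact (Ideal.span_singleton_le_iff_mem _).2 hX
  refine Or.inl (le_antisymm (fun a ha => ?_) h1)
  let φ := eval₂Hom ((C : R ⧸ p →+* MvPolynomial (Fin m) (R ⧸ p)).comp (Ideal.Quotient.mk p))
    fun j => if j ∈ Z then 0 else X j
  have hφX : φ (X i) = X i := by simp [φ, hi]
  have hn : ∀ n : ℕ, ∃ b ∈ q, φ a = X i ^ n * φ b := by
    intro n
    induction n with
    | zero => exact ⟨a, ha, by rw [pow_zero, one_mul]⟩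
    | succ n ih =>
      obtain ⟨b, hb, hab⟩ := ih
      obtain ⟨c, hc, d, hd, hcd⟩ := Submodule.mem_sup.1 (flagIdeal_insert_le p Z i (h2 hb))
      obtain ⟨b', rfl⟩ := Ideal.mem_span_singleton.1 hd
      have hXb : X i * b' ∈ q := by
        rw [show X i * b' = b - c by rw [← hcd]; ring]
        exact q.sub_mem hb (h1 hc)
      refine ⟨b', ((Ideal.IsPrime.mem_or_mem inferInstance hXb).resolve_left hX), ?_⟩
      rw [hab, ← hcd, map_add, show φ c = 0 from hc, zero_add, map_mul, hφX, pow_succ, mul_assoc]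
  by_contra hne
  have hne' : φ a ≠ 0 := hne
  obtain ⟨b, -, hab⟩ := hn ((φ a).totalDegree + 1)
  have hb0 : φ b ≠ 0 := fun h => hne' (by rw [hab, h, mul_zero])
  have h := congrArg MvPolynomial.totalDegree hab
  rw [totalDegree_mul_of_isDomain (pow_ne_zero _ (X_ne_zero i)) hb0, totalDegree_X_pow] at h
  omega

end Groth.Agent.CycLib28.PB
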