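import Groth.Agent.CycLib28.PB.FlagLocal
import Groth.Agent.CycLib28.C1Push

/-!
# Capping a coordinate subspace with a coordinate hyperplane
-/

set_option autoImplicit false
set_option linter.unusedSectionVars false
set_option linter.style.haveILetI false
set_option backward.isDefEq.respectTransparency.types false

universe u

open AlgebraicGeometry CategoryTheory IsLocalRing
open Groth.Agent.KRRPBLib Groth.Agent.Coherent Groth.Agent.PicLib

namespace Groth.Agent.CycLib28.PB

variable {X P : Scheme.{u}} {E : X.Modules} {π : P ⟶ X} {O1 : P.Modules}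
  {q : (Scheme.Modules.pullback π).obj E ⟶ O1} [Coh.IsQCoh E] {U : X.Opens} {m : ℕ}
  (hP : KRR.IsProjBundle π E O1 q) (hU : IsAffineOpen U)
  (b : Module.Basis (Fin (m + 1)) Γ(X, U) Γ(E, U)) {ξ : X} (hξ : ξ ∈ U)

theorem flagPt_mem_preimage (k : Fin (m + 1)) : flagPt hP hU b hξ k ∈ π ⁻¹ᵁ U :=
  D_le q (b k) (flagPtIn_mem hP hU b hξ k k)

theorem germ_sec_eq (e : Γ(E, U)) {z : P} (hz : z ∈ π ⁻¹ᵁ U) (e' : Γ(E, U)) (hz' : z ∈ D q e') :
    O1.presheaf.germ (π ⁻¹ᵁ U) z hz (sec q e) = P.presheaf.germ (D q e') z hz' (coord q e' e) •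
      O1.presheaf.germ (D q e') z hz' (resM O1 (D_le q e') (sec q e')) := by
  have h := congrArg (O1.presheaf.germ (D q e') z hz') (coord_spec q e' e)
  rw [QCohLoc.germ_smul'] at h
  rw [h]
  exact (TopCat.Presheaf.germ_res_apply O1.presheaf (homOfLE (D_le q e')) z hz' _).symm

/-- The rational section of `O(1)` on the `j`-th subspace given by the `j`-th coordinate. -/
noncomputable def flagSec (k : Fin (m + 1)) : Cyc.secFibre O1 (flagPt hP hU b hξ k) :=
  Submodule.Quotient.mk (O1.presheaf.germ (π ⁻¹ᵁ U) _ (flagPt_mem_preimage hP hU b hξ k) (sec q (b k)))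

theorem flagSec_ne_zero (k : Fin (m + 1)) : flagSec hP hU b hξ k ≠ 0 := fun h => by
  rw [flagSec, germ_sec_eq (b k) _ (b k) (flagPtIn_mem hP hU b hξ k k), mk_eq_zero_iff_gen (isGen_D q (b k)),
    coord_self, map_one, map_one] at h
  exact one_ne_zero h

theorem delta_flagPt_last [IsLocallyNoetherian P] {δ : X → ℤ} {δP : P → ℤ} (hc : Cyc.DeltaCompat π δP δ) :
    δP (flagPt hP hU b hξ (Fin.last m)) = δ ξ := by
  obtain ⟨n, hn, hd⟩ := hc (flagPt hP hU b hξ (Fin.last m))
  let _ := (π.residueFieldMap (flagPt hP hU b hξ (Fin.last m))).hom.toAlgebra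
  haveI : Algebra.IsAlgebraic (X.residueField (π (flagPt hP hU b hξ (Fin.last m))))
      (P.residueField (flagPt hP hU b hξ (Fin.last m))) := ⟨fun s => by
    obtain ⟨r, rfl⟩ := residueFieldMap_surjective_flagPt_last hP hU b hξ s
    exact isAlgebraic_algebraMap r⟩
  rw [show (π (flagPt hP hU b hξ (Fin.last m))) = ξ from π_flagPtIn hP hU b hξ _ _] at hd
  rw [trdeg_eq_zero] at hn
  have : n = 0 := by exact_mod_cast hn.symm
  omega

theorem residueDegree_flagPt_last : π.residueDegree (flagPt hP hU b hξ (Fin.last m)) = 1 := by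
  letI := (π.residueFieldMap (flagPt hP hU b hξ (Fin.last m))).hom.toAlgebra
  let e : X.residueField (π (flagPt hP hU b hξ (Fin.last m))) ≃ₐ[X.residueField (π (flagPt hP hU b hξ (Fin.last m)))]
      P.residueField (flagPt hP hU b hξ (Fin.last m)) :=
    AlgEquiv.ofBijective (Algebra.ofId _ _)
      ⟨RingHom.injective _, residueFieldMap_surjective_flagPt_last hP hU b hξ⟩
  change Module.finrank (X.residueField (π _)) (P.residueField _) = 1
  rw [← e.toLinearEquiv.finrank_eq, Module.finrank_self]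

variable [IsLocallyNoetherian P] {δ : X → ℤ} {δP : P → ℤ} (hdP : Cyc.IsDimFun P δP)

include hdP in
theorem delta_flagPt_succ (j : Fin m) :
    δP (flagPt hP hU b hξ j.succ) + 1 = δP (flagPt hP hU b hξ j.castSucc) :=
  ((hdP _ _ (flagPt_succ_specializes hP hU b hξ j) (flagPt_succ_ne hP hU b hξ j)).2 fun _ h1 h2 =>
    eq_or_eq_of_between hP hU b hξ j h1 h2).symm

include hdP in
theorem delta_flagPt (hc : Cyc.DeltaCompat π δP δ) (k : Fin (m + 1)) :
    δP (flagPt hP hU b hξ k) = δ ξ + m - (k : ℕ) := by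
  induction k using Fin.reverseInduction with
  | last => rw [delta_flagPt_last hP hU b hξ hc]; simp
  | cast j ih =>
    rw [← delta_flagPt_succ hP hU b hξ hdP j, ih, Fin.val_succ, Fin.val_castSucc]
    push_cast; ring

include hdP in
open scoped Classical in
theorem secDivFun_flagSec (j : Fin m) {y : P} (hy : π y = ξ) :
    Cyc.secDivFun δP O1 (flagPt hP hU b hξ j.castSucc) (flagSec hP hU b hξ j.castSucc) y =
      if y = flagPt hP hU b hξ j.succ then 1 else 0 := by
  have hinv := isInvertible_of_rankOne hP.invertible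
  have hnz := flagSec_ne_zero hP hU b hξ j.castSucc
  have hdd := delta_flagPt_succ hP hU b hξ hdP j
  have eval : ∀ (l : Fin (m + 1)) (x : P) (hx : x ∈ D q (b l)) (hηl : flagPt hP hU b hξ j.castSucc ∈ D q (b l)),
      Cyc.secDivFun δP O1 (flagPt hP hU b hξ j.castSucc) (flagSec hP hU b hξ j.castSucc) x =
        Cyc.divFun δP (flagPt hP hU b hξ j.castSucc)
          ((P.residue _).hom (P.presheaf.germ (D q (b l)) _ hηl (coord q (b l) (b j.castSucc)))) x :=
    fun l x hx hηl => secDivFun_eq_divFun hdP hinv (isGen_D q (b l)) hx hηl _ _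
      (congrArg Submodule.Quotient.mk (germ_sec_eq (b j.castSucc) _ (b l) hηl)) hnz
  split_ifs with hyj
  · subst hyj
    have hηl : flagPt hP hU b hξ j.castSucc ∈ D q (b j.succ) :=
      (flagPtIn_mem_D_iff hP hU b hξ le_rfl _).2 Fin.castSucc_lt_succ.le
    rw [eval j.succ _ (flagPtIn_mem hP hU b hξ _ _) hηl, Cyc.divFun,
      dif_pos ⟨flagPt_succ_specializes hP hU b hξ j, hdd⟩]
    have e := ordAt_coord hP hU b hξ hdP j hdd
    rw [Cyc.specMap, CommRingCat.hom_comp, RingHom.comp_apply, TopCat.Presheaf.germ_stalkSpecializes_apply] at e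
    exact e
  · by_cases hyD : y ∈ D q (b j.castSucc)
    · rw [eval j.castSucc y hyD (flagPtIn_mem hP hU b hξ _ _), coord_self, map_one, map_one, Cyc.divFun]
      split_ifs with h
      · exact ordAt_one hdP h.1 h.2
      · rfl
    · rw [Cyc.secDivFun]
      refine dif_neg fun h => hyj ?_
      have hnot : ∀ i < j.succ, y ∉ D q (b i) := fun i hi hm => by
        rcases lt_or_eq_of_le (show i ≤ j.castSucc from Fin.le_def.2 (by
          have := Fin.lt_def.1 hi; simp only [Fin.val_succ, Fin.val_castSucc] at this ⊢; omega)) with hlt | rfl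
        · exact not_le.2 hlt ((flagPtIn_mem_D_iff hP hU b hξ le_rfl i).1 (h.1.mem_open (D q (b i)).2 hm))
        · exact hyD hm
      exact (eq_of_specializes_of_le hdP (flagPt_specializes hP hU b hξ j.succ hy hnot) (by omega)).symm

include hdP in
theorem eq_flagPt_zero (hc : Cyc.DeltaCompat π δP δ) {y : P} (hy : π y = ξ) (hd : δP y = δ ξ + m) :
    y = flagPt hP hU b hξ 0 := by
  refine (eq_of_specializes_of_le hdP (flagPt_specializes hP hU b hξ 0 hy fun i hi => ?_) ?_).symm
  · exact absurd hi (by simp)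
  · rw [delta_flagPt hP hU b hξ hdP hc, hd]; simp

end Groth.Agent.CycLib28.PB
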