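import Groth.Agent.CycLib28.PB.SubBundle
import Groth.Agent.CycLib28.PB.ChernComm
import Groth.Agent.CycLib28.PB.ChernPush

/-!
# Chern class caps along `0 → L → E → F → 0`
-/

set_option autoImplicit false
set_option linter.unusedSectionVars false
set_option linter.style.haveILetI false
set_option backward.isDefEq.respectTransparency.types false

universe u

open AlgebraicGeometry CategoryTheory CategoryTheory.Limits
open Groth.Agent.KRRPBLib Groth.Agent.Coherent Groth.Agent.PicLib Groth.Agent.CycLim28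

namespace Groth.Agent.CycLib28.PB

theorem pullFun_add_fun {A B : Scheme.{u}} (f : A ⟶ B) (δA : A → ℤ) (δB : B → ℤ) (c : ℤ) (g g' : B → ℤ) :
    Cyc.pullFun f δA δB c (g + g') = Cyc.pullFun f δA δB c g + Cyc.pullFun f δA δB c g' := by
  funext x
  simp only [Cyc.pullFun, Pi.add_apply]
  split_ifs with h
  · exact add_mul _ _ _
  · exact (add_zero (0 : ℤ)).symm

theorem c1PowFun_add {X : Scheme.{u}} [IsLocallyNoetherian X] {δ : X → ℤ} (hδ : Cyc.IsDimFun X δ) {L : X.Modules}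
    (hL : PicF.IsInvertible L) {K : ℤ} (a b : AlgebraicCycle X ℤ) (ha : a ∈ Cyc.Zk X δ K) (hb : b ∈ Cyc.Zk X δ K)
    (t : ℕ → (ξ : X) → Cyc.secFibre L ξ) (ht : ∀ i ξ, t i ξ ≠ 0) (n : ℕ) :
    Cyc.c1PowFun δ L t n (⇑a + ⇑b) = Cyc.c1PowFun δ L t n ⇑a + Cyc.c1PowFun δ L t n ⇑b := by
  have h := c1PowFun_sub hδ hL a (-b) ha (fun x hx => by show -b x = 0; rw [hb x hx, neg_zero]) t ht n
  rw [Function.locallyFinsuppWithin.coe_neg, sub_neg_eq_add,
    show (-⇑b : X → ℤ) = fun x => (-1 : ℤ) * b x from funext fun x => (neg_one_mul (b x)).symm,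
    c1PowFun_const_mul] at h
  rw [h]
  funext x
  show _ - (-1) * _ = _ + _
  ring

/-- Iterated caps with isomorphic line bundles agree. -/
theorem exists_pow_iso {X : Scheme.{u}} [IsLocallyNoetherian X] {δ : X → ℤ} (hδ : Cyc.IsDimFun X δ)
    {L M : X.Modules} (hL : PicF.IsInvertible L) (hM : PicF.IsInvertible M) (e : L ≅ M)
    (a : X → ℤ) (u : ℕ → (ξ : X) → Cyc.secFibre L ξ) (hu : ∀ i ξ, u i ξ ≠ 0) :
    ∃ v : ℕ → (ξ : X) → Cyc.secFibre M ξ, (∀ i ξ, v i ξ ≠ 0) ∧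
      ∀ n, Cyc.c1PowFun δ M v n a = Cyc.c1PowFun δ L u n a := by
  choose v hv hveq using fun i => c1CapFun_iso hδ hL hM e (Cyc.c1PowFun δ L u i a) (u i) (hu i)
  refine ⟨v, hv, fun n => ?_⟩
  induction n with
  | zero => rfl
  | succ n ih =>
    show Cyc.c1CapFun δ M (Cyc.c1PowFun δ M v n a) (v n) = _
    rw [ih, hveq]
    rfl

theorem deltaCompat_id {X : Scheme.{u}} (δ : X → ℤ) : Cyc.DeltaCompat (𝟙 X) δ δ := by
  intro x
  refine ⟨0, ?_, by simp⟩
  let _ := ((𝟙 X : X ⟶ X).residueFieldMap x).hom.toAlgebra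
  haveI : Algebra.IsAlgebraic (X.residueField ((𝟙 X : X ⟶ X) x)) (X.residueField x) := ⟨fun s => by
    obtain ⟨r, rfl⟩ := ((ConcreteCategory.isIso_iff_bijective _).1
      (Groth.Agent.DimLib.isIso_residueFieldMap_of_isPreimmersion (𝟙 X) x)).2 s
    exact isAlgebraic_algebraMap r⟩
  rw [trdeg_eq_zero]
  rfl

variable {X P : Scheme.{u}} {L E : X.Modules} {a : L ⟶ E} {m : ℕ} {p : P ⟶ X} {O1 : P.Modules}
  {q : (Scheme.Modules.pullback p).obj E ⟶ O1} [Coh.IsQCoh E] [IsLocallyNoetherian X] [IsLocallyNoetherian P]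
  [IsProper p] {δ : X → ℤ} {δP : P → ℤ}
  (hE : FlatMod.IsFinLocFreeOfRank (m + 1) E) (hP : KRR.IsProjBundle p E O1 q) (ch : ∀ ξ, AdaptChart a m ξ)
  (hdP : Cyc.IsDimFun P δP) (hdf : Cyc.IsDimFun X δ) (hc : Cyc.DeltaCompat p δP δ)

include hdP hdf hc in
open scoped Classical in
/-- `c₁(O(1)) ∩ p^* β - c₁(p^* L) ∩ p^* β` is the restriction of `β` to the smaller bundle. -/
theorem cap_sub_line (hL : PicF.IsInvertible L) (β : AlgebraicCycle X ℤ) (b u v : AlgebraicCycle P ℤ)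
    (hb : ⇑b = Cyc.pullFun p δP δ (m : ℤ) ⇑β) (hu : ⇑u = Cyc.c1CapFun δP O1 ⇑b (subSec hE hP ch))
    (hv : ⇑v = Cyc.c1CapFun δP ((Scheme.Modules.pullback p).obj L) ⇑b (lineSec p ch)) (z : P) :
    u z - v z = if InSub q (δ := δ) (δP := δP) ch (p z) z then β (p z) else 0 := by
  classical
  rw [hu, hv]
  simp only [Cyc.c1CapFun]
  rw [← finsum_sub_distrib (c1CapFun_support_finite δP O1 b (subSec hE hP ch) z)
    (c1CapFun_support_finite δP _ b (lineSec p ch) z)]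
  have key : ∀ η : P, b η * Cyc.secDivFun δP O1 η (subSec hE hP ch η) z -
      b η * Cyc.secDivFun δP ((Scheme.Modules.pullback p).obj L) η (lineSec p ch η) z =
      if η = eta hE hP (p η) 0 ∧ InSub q (δ := δ) (δP := δP) ch (p η) z then β (p η) else 0 := by
    intro η
    rw [← mul_sub, hb, pullFun_apply hE hP hdP hc]
    by_cases h : η = eta hE hP (p η) 0
    · rw [if_pos h, secDiv_sub_line hE hP ch hdP hdf hc hL (p η) η rfl (by
        conv_lhs => rw [h]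
        rw [delta_eta hE hP hdP hc]
        simp) z]
      split_ifs with h1 h2 h2
      · rw [mul_one]
      · exact absurd ⟨h, h1⟩ h2
      · exact absurd h2.2 h1
      · rw [mul_zero]
    · rw [if_neg h, zero_mul, if_neg fun h' => h h'.1]
  rw [finsum_congr key]
  by_cases hz : InSub q (δ := δ) (δP := δP) ch (p z) z
  · rw [if_pos hz, finsum_eq_single _ (eta hE hP (p z) 0) fun η hη => if_neg fun h => hη ?_]
    · rw [π_eta, if_pos ⟨rfl, hz⟩]
    · rw [h.1, ← h.2.1]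
  · rw [if_neg hz]
    refine finsum_eq_zero_of_forall_eq_zero fun η => if_neg fun h => hz ?_
    have := h.2
    rwa [← h.2.1] at this

include hdP hc in
theorem inSub_unique {ξ : X} {z z' : P} (hz : InSub q (δ := δ) (δP := δP) ch ξ z)
    (hz' : InSub q (δ := δ) (δP := δP) ch ξ z') (hP : KRR.IsProjBundle p E O1 q) : z = z' := by
  obtain ⟨e1, d1, n1⟩ := hz
  obtain ⟨e2, d2, n2⟩ := hz'
  obtain ⟨n, rfl⟩ : ∃ n, m = n + 1 := Nat.exists_eq_succ_of_ne_zero fun hm0 => n1 (by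
    subst hm0
    obtain ⟨i, hi⟩ := exists_mem_D hP (ch (p z)).b (show z ∈ p ⁻¹ᵁ _ from (ch (p z)).mem) (ch (p z)).isAffine
    rwa [Fin.fin_one_eq_zero i] at hi)
  subst e1
  have key : ∀ w : P, p w = p z → δP w = δ (p z) + ((n + 1 : ℕ) : ℤ) - 1 → w ∉ D q ((ch (p z)).b 0) →
      w = flagPt hP (ch (p z)).isAffine (ch (p z)).b (ch (p z)).mem (0 : Fin (n + 1)).succ := by
    intro w hw1 hw2 hw3
    refine (eq_of_specializes_of_le hdP (flagPt_specializes hP _ _ _ _ hw1 fun i hi => ?_) ?_).symm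
    · have : i = 0 := Fin.ext (by simpa using hi)
      subst this
      exact hw3
    · rw [delta_flagPt hP _ _ _ hdP hc]
      simp
      omega
  refine (key z rfl d1 n1).trans (key z' e2 d2 ?_).symm
  rw [← e2]
  exact n2

section map

variable {Q : Scheme.{u}} {F : X.Modules} {ι : Q ⟶ P} {O1' : Q.Modules}
  {q' : (Scheme.Modules.pullback (ι ≫ p)).obj F ⟶ O1'} {b : E ⟶ F}
  {e : (Scheme.Modules.pullback ι).obj O1 ≅ O1'} [IsProper (ι ≫ p)] [IsLocallyNoetherian Q] {δQ : Q → ℤ}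

include hdP hc in
open scoped Classical in
theorem map_sub_bundle {n : ℕ} [Coh.IsQCoh F] (hF : FlatMod.IsFinLocFreeOfRank (n + 1) F) (hm : m = n + 1)
    (hP : KRR.IsProjBundle p E O1 q) (hQ : KRR.IsProjBundle (ι ≫ p) F O1' q') [IsClosedImmersion ι]
    (hab : a ≫ b = 0)
    (he : (Scheme.Modules.pullbackComp ι p).inv.app E ≫ (Scheme.Modules.pullback ι).map q ≫ e.hom =
      (Scheme.Modules.pullback (ι ≫ p)).map b ≫ q')
    (hdQ : Cyc.IsDimFun Q δQ) (hι : Cyc.DeltaCompat ι δQ δP) (hc' : Cyc.DeltaCompat (ι ≫ p) δQ δ)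
    (β : AlgebraicCycle X ℤ) (b' : AlgebraicCycle Q ℤ)
    (hb' : ⇑b' = Cyc.pullFun (ι ≫ p) δQ δ (n : ℤ) ⇑β) (z : P) :
    AlgebraicCycle.map ι δQ δP b' z = if InSub q (δ := δ) (δP := δP) ch (p z) z then β (p z) else 0 := by
  classical
  have hin : ∀ ξ : X, InSub q (δ := δ) (δP := δP) ch ξ (ι (eta hF hQ ξ 0)) := fun ξ => by
    refine ⟨π_eta hF hQ ξ 0, ?_, not_mem_D_of_compat hP he _ ?_ _⟩
    · rw [← delta_closedImmersion ι hι, delta_eta hF hQ hdQ hc', hm]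
      simp
      ring
    · rw [(ch (p (ι (eta hF hQ ξ 0)))).hb]
      exact sections_zero (S := ShortComplex.mk a b hab) _ _
  by_cases h : InSub q (δ := δ) (δP := δP) ch (p z) z
  · have hz : ι (eta hF hQ (p z) 0) = z := inSub_unique ch hdP hc (hin (p z)) h hP
    rw [if_pos h, map_apply_finset ι δQ δP b' z {eta hF hQ (p z) 0}
      (fun x hx => by rw [Finset.mem_singleton.1 hx, hz])
      (fun x hx _ => Finset.mem_singleton.2 (ι.isClosedEmbedding.injective (hx.trans hz.symm))),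
      Finset.sum_singleton, hb', pullFun_apply hF hQ hdQ hc']
    rw [AlgebraicCycle.mapCoeff, if_pos (delta_closedImmersion ι hι _),
      WeilLib.residueDegree_preimmersion, π_eta, if_pos rfl]
    simp
  · rw [if_neg h, map_apply_finset ι δQ δP b' z ∅ (fun x hx => absurd hx (Finset.notMem_empty x))
      (fun x hx hb => absurd ?_ hb), Finset.sum_empty]
    rw [hb', pullFun_apply hF hQ hdQ hc', if_neg]
    intro hx'
    refine h ?_
    have := hin ((ι ≫ p) x)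
    rw [← hx', hx] at this
    have e' : (ι ≫ p) x = p z := by
      show p (ι x) = p z
      rw [hx]
    rwa [e'] at this

end map

omit hdP hdf hc in
/-- Chern class caps along `0 → L → E → F → 0`. -/
theorem isChernCap_sub (hX : Cyc.IsSetup X δ) (hE : FlatMod.IsFinLocFreeOfRank (m + 1) E)
    (hP : KRR.IsProjBundle p E O1 q) (hPs : Cyc.IsSetup P δP) (hc : Cyc.DeltaCompat p δP δ)
    (hL : PicF.IsInvertible L) {F : X.Modules} (hF : FlatMod.IsFinLocFreeOfRank m F) {Q : Scheme.{u}} {p' : Q ⟶ X}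
    {O1' : Q.Modules} {q' : (Scheme.Modules.pullback p').obj F ⟶ O1'} (hQ : KRR.IsProjBundle p' F O1' q')
    [IsProper p'] {δQ : Q → ℤ} (hQs : Cyc.IsSetup Q δQ) (hc' : Cyc.DeltaCompat p' δQ δ)
    (b : E ⟶ F) {hab : a ≫ b = 0} (hex : (ShortComplex.mk a b hab).ShortExact) {k : ℤ} {α : AlgebraicCycle X ℤ}
    {γ' : Fin (m + 1) → AlgebraicCycle X ℤ} (hγ' : Cyc.IsChernCap p' δ δQ O1' m k α γ')
    (s : (ξ : X) → Cyc.secFibre L ξ) (hs : ∀ ξ, s ξ ≠ 0) (ζ : Fin (m + 1) → AlgebraicCycle X ℤ)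
    (hζ : ∀ j, ⇑(ζ j) = Cyc.c1CapFun δ L ⇑(γ' j) s) :
    Cyc.IsChernCap p δ δP O1 (m + 1) k α
      ((Fin.snoc γ' 0 : Fin (m + 2) → AlgebraicCycle X ℤ) + Fin.cons 0 ζ) := by
  haveI := hQs.1
  haveI : Flat p := flat_of_isProjBundle hE hP
  haveI : Epi b := hex.epi_g
  have hdP := hPs.2.2
  have hdf := hX.2.2
  have hinv := isInvertible_of_rankOne hP.invertible
  have hinv' := PicLoc.isInvertible_pullback p hL
  have hcp := delta_genInFibre hE hP hdP hc
  have ch : ∀ ξ, AdaptChart a m ξ := fun ξ => (nonempty_adaptChart hF hL b hex ξ).some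
  set G : Fin (m + 2) → AlgebraicCycle X ℤ := Fin.snoc γ' 0 with hG
  set Z : Fin (m + 2) → AlgebraicCycle X ℤ := Fin.cons 0 ζ with hZ
  have hGk : ∀ j : Fin (m + 2), G j ∈ Cyc.Zk X δ (k - ((j : ℕ) : ℤ)) := by
    refine Fin.lastCases ?_ fun j => ?_
    · rw [hG, Fin.snoc_last]; exact fun x _ => rfl
    · rw [hG, Fin.snoc_castSucc]; exact hγ'.2.1 j
  have hZk : ∀ j : Fin (m + 2), Z j ∈ Cyc.Zk X δ (k - ((j : ℕ) : ℤ)) := by
    refine Fin.cases ?_ fun j => ?_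
    · rw [hZ, Fin.cons_zero]; exact fun x _ => rfl
    · rw [hZ, Fin.cons_succ]
      refine Intersect.c1CapFun_mem_Zk (m := k - ((j.succ : ℕ) : ℤ)) ⇑(γ' j) (fun x hx => hγ'.2.1 j x ?_) s (ζ j)
        (hζ j)
      rw [Fin.val_succ] at hx
      push_cast at hx
      omega
  set t := flagSecs hE hP
  have ht : ∀ i ξ, t i ξ ≠ 0 := flagSecs_ne_zero hE hP
  choose cG hcG hcGk using exists_rel_terms hE hP hdP hc k G hGk t ht
  choose cZ hcZ hcZk using exists_rel_terms hE hP hdP hc k Z hZk t ht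
  have h0 : (G + Z) 0 = α := by
    show G 0 + Z 0 = α
    rw [hG, hZ, Fin.cons_zero, show (0 : Fin (m + 2)) = Fin.castSucc 0 from rfl, Fin.snoc_castSucc, hγ'.1, add_zero]
  refine isChernCap_of_terms hE hP hdP hc h0
    (fun j x hx => by show G j x + Z j x = 0; rw [hGk j x hx, hZk j x hx, add_zero])
    t ht (fun i => cG i + cZ i) (fun i => ?_) ?_
  · obtain ⟨g, hg, hgk⟩ := exists_pullback hE hP hdP hc _ (G (Fin.rev i)) (hGk _)
    obtain ⟨z, hz, hzk⟩ := exists_pullback hE hP hdP hc _ (Z (Fin.rev i)) (hZk _)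
    show ⇑(cG i) + ⇑(cZ i) = _
    rw [show (⇑((G + Z) (Fin.rev i)) : X → ℤ) = ⇑(G (Fin.rev i)) + ⇑(Z (Fin.rev i)) from rfl, pullFun_add_fun,
      ← hg, ← hz, c1PowFun_add hdP hinv g z hgk hzk t ht, hcG, hcZ, hg, hz]
  -- the pieces
  have hdeg : ∀ i : Fin (m + 1),
      k - (((Fin.rev i : Fin (m + 1)) : ℕ) : ℤ) + (m : ℤ) - 1 - ((i : ℕ) : ℤ) = k - 1 := fun i => by
    rw [Fin.val_rev]; omega
  choose A hA hAk using fun i : Fin (m + 1) => exists_pullback hE hP hdP hc _ (γ' (Fin.rev i)) (hγ'.2.1 _)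
  choose U hU using fun i => exists_c1Cap_cycle hdP hinv (A i) (subSec hE hP ch) (subSec_ne_zero hE hP ch)
  choose V hV using fun i => exists_c1Cap_cycle hdP hinv' (A i) (lineSec p ch) (lineSec_ne_zero ch hL)
  have hUk : ∀ i, U i ∈ Cyc.Zk P δP (k - (((Fin.rev i : Fin (m + 1)) : ℕ) : ℤ) + (m : ℤ) - 1) := fun i =>
    Intersect.c1CapFun_mem_Zk ⇑(A i) (fun x hx => hAk i x (by omega)) _ (U i) (hU i)
  have hVk : ∀ i, V i ∈ Cyc.Zk P δP (k - (((Fin.rev i : Fin (m + 1)) : ℕ) : ℤ) + (m : ℤ) - 1) := fun i =>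
    Intersect.c1CapFun_mem_Zk ⇑(A i) (fun x hx => hAk i x (by omega)) _ (V i) (hV i)
  have hUVk : ∀ i, U i - V i ∈ Cyc.Zk P δP (k - (((Fin.rev i : Fin (m + 1)) : ℕ) : ℤ) + (m : ℤ) - 1) := fun i x hx => by
    show U i x - V i x = 0
    rw [hUk i x hx, hVk i x hx, sub_zero]
  choose cU hcU _ using fun i : Fin (m + 1) => exists_pow_cycles hdP hinv (U i) (hUk i) t ht
    (fun j => Cyc.c1PowFun δP O1 t j ⇑(U i)) rfl (fun _ => rfl) i
  choose cV hcV _ using fun i : Fin (m + 1) => exists_pow_cycles hdP hinv (V i) (hVk i) t ht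
    (fun j => Cyc.c1PowFun δP O1 t j ⇑(V i)) rfl (fun _ => rfl) i
  have hGU : ∀ i : Fin (m + 1), Cyc.RatEquiv δP (k - 1) (cG i.succ) (cU i) := fun i => by
    obtain ⟨c₀, hc₀, -⟩ := exists_pow_cycles hdP hinv (A i) (hAk i) t ht
      (fun j => Cyc.c1PowFun δP O1 t j ⇑(A i)) rfl (fun _ => rfl) i
    have h := pow_comm hdP hinv hinv (A i) (hAk i) t ht (t i) (subSec hE hP ch) (ht i) (subSec_ne_zero hE hP ch)
      (U i) (hU i) i c₀ (cG i.succ) (cU i) hc₀ (by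
        rw [hcG, Fin.rev_succ, hG, Fin.snoc_castSucc, Fin.val_succ, hc₀, hA]
        rfl) (hcU i)
    rwa [show k - (((Fin.rev i : Fin (m + 1)) : ℕ) : ℤ) + (m : ℤ) - ((i : ℕ) : ℤ) - 1 = k - 1 by
      have := hdeg i; omega] at h
  have hZV : ∀ i : Fin (m + 1), Cyc.RatEquiv δP (k - 1) (cZ i.castSucc) (cV i) := fun i => by
    obtain ⟨w, hw, hweq⟩ := c1CapFun_pullback p hdP hdf (m : ℤ) hcp hL (γ' (Fin.rev i)) s hs
    obtain ⟨z, hz, hzk⟩ := exists_pullback hE hP hdP hc _ (Z (Fin.rev i.castSucc)) (hZk _)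
    have hz' : ⇑z = Cyc.c1CapFun δP ((Scheme.Modules.pullback p).obj L) ⇑(A i) w := by
      rw [hz, Fin.rev_castSucc, hZ, Fin.cons_succ, hζ, hweq, hA]
    have hzV := c1CapFun_indep hdP hinv' (k - (((Fin.rev i : Fin (m + 1)) : ℕ) : ℤ) + (m : ℤ) - 1) (A i)
      (by rw [sub_add_cancel]; exact hAk i) w (lineSec p ch) (fun ξ _ => hw ξ)
      (fun ξ _ => lineSec_ne_zero ch hL ξ) z (V i) hz' (hV i)
    have h := pow_congr hdP hinv
      (Intersect.c1CapFun_mem_Zk (m := k - (((Fin.rev i : Fin (m + 1)) : ℕ) : ℤ) + (m : ℤ) - 1) ⇑(A i)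
        (fun x hx => hAk i x (by omega)) w z hz') (hVk i) hzV ht ht
      (γ := fun n => Cyc.c1PowFun δP O1 t n ⇑z) rfl (fun _ => rfl)
      (γ' := fun n => Cyc.c1PowFun δP O1 t n ⇑(V i)) rfl (fun _ => rfl) i (cZ i.castSucc) (cV i)
      (by rw [hcZ, hz]; rfl) (hcV i)
    rwa [hdeg] at h
  have hsplit : ∀ x, (∑ i : Fin (m + 2), (-1 : ℤ) ^ (i : ℕ) • (cG i + cZ i)) x =
      ∑ i : Fin (m + 1), (-1 : ℤ) ^ (i : ℕ) * (cZ i.castSucc x - cG i.succ x) := fun x => by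
    have g0 : cG 0 x = 0 := by
      rw [hcG, Fin.rev_zero, hG, Fin.snoc_last]
      have e : Cyc.pullFun p δP δ (m : ℤ) ⇑(0 : AlgebraicCycle X ℤ) = 0 := by funext y; simp [Cyc.pullFun]
      rw [e, c1PowFun_zero]
      rfl
    have z0 : cZ (Fin.last (m + 1)) x = 0 := by
      rw [hcZ, Fin.rev_last, hZ, Fin.cons_zero]
      have e : Cyc.pullFun p δP δ (m : ℤ) ⇑(0 : AlgebraicCycle X ℤ) = 0 := by funext y; simp [Cyc.pullFun]
      rw [e, c1PowFun_zero]
      rfl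
    rw [coe_signed_sum]
    simp only [Function.locallyFinsuppWithin.coe_add, Pi.add_apply, mul_add, Finset.sum_add_distrib]
    rw [Fin.sum_univ_succ, g0, mul_zero, zero_add, add_comm, Fin.sum_univ_castSucc, z0, mul_zero, add_zero,
      ← Finset.sum_add_distrib]
    refine Finset.sum_congr rfl fun i _ => ?_
    rw [Fin.val_succ, Fin.val_castSucc, pow_succ]
    ring
  have hfin : Cyc.RatEquivZero δP (k - 1) (∑ i : Fin (m + 1), (-1 : ℤ) ^ (i : ℕ) • (cU i - cV i)) := by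
    rcases Nat.eq_zero_or_pos m with hm0 | hm0
    · subst hm0
      refine (show (∑ i : Fin 1, (-1 : ℤ) ^ (i : ℕ) • (cU i - cV i)) = 0 from ?_) ▸ P1Inter.ratEquivZero_zero
      refine DFunLike.ext _ _ fun x => ?_
      rw [coe_signed_sum, Fin.sum_univ_one]
      show _ * (cU 0 x - cV 0 x) = 0
      rw [hcU, hcV]
      show _ * (U 0 x - V 0 x) = 0
      rw [cap_sub_line hE hP ch hdP hdf hc hL (γ' (Fin.rev 0)) (A 0) (U 0) (V 0) (hA 0) (hU 0) (hV 0) x, if_neg,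
        mul_zero]
      rintro ⟨-, -, hn⟩
      obtain ⟨i, hi⟩ := exists_mem_D hP (ch (p x)).b (show x ∈ p ⁻¹ᵁ _ from (ch (p x)).mem) (ch (p x)).isAffine
      exact hn (by rwa [Fin.fin_one_eq_zero i] at hi)
    obtain ⟨n, rfl⟩ : ∃ n, m = n + 1 := Nat.exists_eq_succ_of_ne_zero (by omega)
    haveI : Coh.IsQCoh F := isQCoh_of_rank hF
    have : Epi ((Scheme.Modules.pullback p').map b) := inferInstance
    have := hQ.epi
    obtain ⟨ι, ⟨hι, e, he⟩, -⟩ := hP.univ Q p' O1' hQ.invertible ((Scheme.Modules.pullback p').map b ≫ q')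
      (by infer_instance)
    subst hι
    have he' : (Scheme.Modules.pullbackComp ι p).inv.app E ≫ (Scheme.Modules.pullback ι).map q ≫ e.hom =
        (Scheme.Modules.pullback (ι ≫ p)).map b ≫ q' := by
      rw [← he]
      simp [Scheme.Modules.pullbackCongr]
    haveI := isClosedImmersion_of_compat hQ he'
    have hdι : Cyc.DeltaCompat ι δQ δP :=
      deltaCompat_cancel (f := 𝟙 X) (f' := ι) (π := p) (π' := ι ≫ p) (δY := δ) (Category.comp_id _).symm hc'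
        (deltaCompat_id δ) hc
    have hinvQ := isInvertible_of_rankOne hQ.invertible
    set t' := flagSecs hF hQ
    have ht' : ∀ i ξ, t' i ξ ≠ 0 := flagSecs_ne_zero hF hQ
    obtain ⟨c, hcc, -, hc0⟩ := exists_terms_of_isChernCap hF hQ hQs.2.2 hc' hγ' t' ht'
    choose B hB hBk using fun i : Fin (n + 2) =>
      exists_pullback hF hQ hQs.2.2 hc' _ (γ' (Fin.rev i)) (hγ'.2.1 _)
    have hmap : ∀ i, AlgebraicCycle.map ι δQ δP (B i) = U i - V i := fun i => DFunLike.ext _ _ fun z => by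
      rw [map_sub_bundle ch hdP hc hF rfl hP hQ hab he' hQs.2.2 hdι hc' (γ' (Fin.rev i)) (B i) (hB i) z,
        ← cap_sub_line hE hP ch hdP hdf hc hL (γ' (Fin.rev i)) (A i) (U i) (V i) (hA i) (hU i) (hV i) z]
      rfl
    obtain ⟨u₀, hu₀⟩ : ∃ u : ℕ → (ξ : Q) → Cyc.secFibre ((Scheme.Modules.pullback ι).obj O1) ξ, ∀ i ξ, u i ξ ≠ 0 := by
      obtain ⟨v, hv, -⟩ := exists_pow_iso hQs.2.2 hinvQ (PicLoc.isInvertible_pullback ι hinv) e.symm 0 t' ht'
      exact ⟨v, hv⟩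
    choose d hd hdk using fun i : Fin (n + 2) => exists_pow_cycles hQs.2.2 (PicLoc.isInvertible_pullback ι hinv)
      (B i) (hBk i) u₀ hu₀ (fun j => Cyc.c1PowFun δQ _ u₀ j ⇑(B i)) rfl (fun _ => rfl) i
    have hd0 : Cyc.RatEquivZero δQ (k - 1) (∑ i : Fin (n + 2), (-1 : ℤ) ^ (i : ℕ) • d i) := by
      refine rel_transfer hQs.2.2 d c (fun i => ?_) hc0
      obtain ⟨v, hv, hveq⟩ := exists_pow_iso hQs.2.2 (PicLoc.isInvertible_pullback ι hinv) hinvQ e ⇑(B i) u₀ hu₀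
      have h := pow_congr hQs.2.2 hinvQ (hBk i) (hBk i) (ratEquiv_refl _) hv ht'
        (γ := fun j => Cyc.c1PowFun δQ O1' v j ⇑(B i)) rfl (fun _ => rfl)
        (γ' := fun j => Cyc.c1PowFun δQ O1' t' j ⇑(B i)) rfl (fun _ => rfl) i (d i) (c i)
        (by rw [hd, hveq]) (by rw [hcc, hB])
      rwa [show k - (((Fin.rev i : Fin (n + 2)) : ℕ) : ℤ) + (n : ℤ) - ((i : ℕ) : ℤ) = k - 1 by
        rw [Fin.val_rev]; omega] at h
    have hpush := map_ratEquivZero hQs.2.2 hdP ι hdι _ _ hd0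
    rw [show AlgebraicCycle.map ι δQ δP (∑ i : Fin (n + 2), (-1 : ℤ) ^ (i : ℕ) • d i) =
      ∑ i : Fin (n + 2), (-1 : ℤ) ^ (i : ℕ) • AlgebraicCycle.map ι δQ δP (d i) from
      (map_sum (mapHom ι δQ δP) _ Finset.univ).trans
        (Finset.sum_congr rfl fun i _ => map_zsmul (mapHom ι δQ δP) _ _)] at hpush
    refine rel_transfer hdP _ (fun i => AlgebraicCycle.map ι δQ δP (d i)) (fun i => ?_) hpush
    have h := push_pow hQs.2.2 hdP ι hdι hinv (B i) (hBk i) u₀ hu₀ t ht i (d i) (cU i - cV i) (hd i) (by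
      rw [hmap, show (⇑(U i - V i) : P → ℤ) = ⇑(U i) - ⇑(V i) from rfl,
        c1PowFun_sub hdP hinv (U i) (V i) (hUk i) (hVk i) t ht, ← hcU, ← hcV]
      rfl)
    rw [show k - (((Fin.rev i : Fin (n + 2)) : ℕ) : ℤ) + (n : ℤ) - ((i : ℕ) : ℤ) = k - 1 by
      rw [Fin.val_rev]; omega] at h
    exact ratEquiv_symm hdP h
  have h1 : Cyc.RatEquivZero δP (k - 1) (∑ i : Fin (m + 1), (-1 : ℤ) ^ (i : ℕ) • (cG i.succ - cZ i.castSucc)) := by
    refine rel_transfer hdP _ (fun i => cU i - cV i) (fun i => ?_) hfin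
    refine ratEquivZero_add (hGU i) (ratEquivZero_neg hdP (hZV i) (β := -(cZ i.castSucc - cV i)) fun _ => rfl)
      fun x => ?_
    show cG i.succ x - cZ i.castSucc x - (cU i x - cV i x) =
      cG i.succ x - cU i x + -(cZ i.castSucc x - cV i x)
    ring
  refine ratEquivZero_neg hdP h1 fun x => ?_
  rw [hsplit, coe_signed_sum, ← Finset.sum_neg_distrib]
  refine Finset.sum_congr rfl fun i _ => ?_
  show _ = -((-1 : ℤ) ^ (i : ℕ) * (cG i.succ x - cZ i.castSucc x))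
  ring

end Groth.Agent.CycLib28.PB
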