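import Groth.Agent.RelVALib.UPProp
import Groth.Agent.RelVALib.UPPhi
import Groth.Agent.KRRPBLib.Basic

/-!
# Relative `Proj` of the symmetric algebra has the universal property of the projective bundle
-/

set_option autoImplicit false
set_option backward.isDefEq.respectTransparency.types false
set_option maxHeartbeats 1000000

universe u

open AlgebraicGeometry CategoryTheory Groth.Agent.RelVALib

namespace Groth.Agent.CycLib28.PB

theorem exists_isProjBundle {X P : Scheme.{u}} {E : X.Modules} {𝒮 : RelProj.QCGrAlg X} {j : E ⟶ 𝒮.toModule} {p : P ⟶ X}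
    {chart : ∀ (U : X.Opens) (hU : IsAffineOpen U), ((p ⁻¹ᵁ U : P.Opens) : Scheme.{u}) ≅ Proj (𝒮.deg U hU)}
    {O1 : P.Modules}
    {lam : ∀ (U : X.Opens) (hU : IsAffineOpen U),
      O1 ⟶ (Scheme.Modules.pushforward (RelProj.emb p chart U hU)).obj (GrTwist.twist (𝒮.deg U hU) 1)}
    (hE : Coh.IsQCoh E) (hj : RelProj.IsGrSymAlg E 𝒮 j) (hP : RelProj.IsRelProj 𝒮 p chart)
    (hO1 : RelProj.IsRelTwist 𝒮 p chart 1 O1 lam) :
    ∃ q : (Scheme.Modules.pullback p).obj E ⟶ O1, KRR.IsProjBundle p E O1 q := by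
  obtain ⟨φ, D⟩ := RelVALib.exists_pBundle hE hj hP hO1
  refine ⟨((Scheme.Modules.pullbackPushforwardAdjunction p).homEquiv E O1).symm φ,
    PicLib.isFinLocFreeOfRank_one D.invertible,
    RelVALib.epi_of_exists_gen p φ fun x => ?_, fun T g L hL s hs => ?_⟩
  · obtain ⟨k, hk⟩ := TopologicalSpace.Opens.mem_iSup.1 (D.iSup_opn.ge (Set.mem_univ x))
    exact ⟨k.1.1, k.2, _, D.opn_le k.1.2 k.2, hk, D.isGen_phi k.1.2 k.2⟩
  · set t := (Scheme.Modules.pullbackPushforwardAdjunction g).homEquiv E L s with htdef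
    have : Epi (((Scheme.Modules.pullbackPushforwardAdjunction g).homEquiv E L).symm t) := by
      rwa [htdef, Equiv.symm_apply_apply]
    have hcov := RelVALib.exists_gen_of_epi g (KRRPBLib.isInvertible_of_rankOne hL) t
    obtain ⟨r, hr, τ, hτ⟩ := RelVALib.exists_classifies D hcov
    refine ⟨r, ⟨hr, τ, (RelVALib.classifies_iff hr τ s).2 hτ⟩, fun r' ⟨hr', τ', h'⟩ => ?_⟩
    exact RelVALib.eq_of_classifies D hcov ((RelVALib.classifies_iff hr' τ' s).1 h') hτ

end Groth.Agent.CycLib28.PB
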