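import Groth.Agent.CycLib28.PB.SubLine
import Groth.Agent.CycLib28.PB.BaseChange
import Groth.Agent.WeilLib.Geom
import Mathlib.AlgebraicGeometry.ZariskisMainTheorem

/-!
# The bundle of a quotient inside a projective bundle
-/

set_option autoImplicit false
set_option linter.unusedSectionVars false
set_option linter.style.haveILetI false
set_option backward.isDefEq.respectTransparency.types false

universe u

open AlgebraicGeometry CategoryTheory
open Groth.Agent.KRRPBLib Groth.Agent.Coherent Groth.Agent.PicLib Groth.Agent.CycLim28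

namespace Groth.Agent.CycLib28.PB

variable {X P Q T : Scheme.{u}} {E F : X.Modules} {p : P ⟶ X} {O1 : P.Modules}
  {q : (Scheme.Modules.pullback p).obj E ⟶ O1} {ι : Q ⟶ P} {O1' : Q.Modules}
  {q' : (Scheme.Modules.pullback (ι ≫ p)).obj F ⟶ O1'} {b : E ⟶ F}
  {e : (Scheme.Modules.pullback ι).obj O1 ≅ O1'}

theorem pullbackCongr_naturality {g g' : T ⟶ X} (h : g = g') {M N : X.Modules} (φ : M ⟶ N) :
    (Scheme.Modules.pullback g).map φ ≫ (Scheme.Modules.pullbackCongr h).hom.app N =
      (Scheme.Modules.pullbackCongr h).hom.app M ≫ (Scheme.Modules.pullback g').map φ :=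
  (Scheme.Modules.pullbackCongr h).hom.naturality φ

/-- The compatibility of a map of bundles, after pulling back. -/
theorem compat_pullback
    (he : (Scheme.Modules.pullbackComp ι p).inv.app E ≫ (Scheme.Modules.pullback ι).map q ≫ e.hom =
      (Scheme.Modules.pullback (ι ≫ p)).map b ≫ q') (g : T ⟶ Q) :
    (Scheme.Modules.pullback (g ≫ ι ≫ p)).map b ≫ (Scheme.Modules.pullbackComp g (ι ≫ p)).inv.app F ≫
        (Scheme.Modules.pullback g).map q' =
      (Scheme.Modules.pullbackCongr (Category.assoc g ι p)).inv.app E ≫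
        (Scheme.Modules.pullbackComp (g ≫ ι) p).inv.app E ≫ (Scheme.Modules.pullback (g ≫ ι)).map q ≫
          (Scheme.Modules.pullbackComp g ι).inv.app O1 ≫ (Scheme.Modules.pullback g).map e.hom := by
  have key := pullback_map_comp_hom g ι p E
  have hnat : (Scheme.Modules.pullback (g ≫ ι ≫ p)).map b ≫ (Scheme.Modules.pullbackComp g (ι ≫ p)).inv.app F =
      (Scheme.Modules.pullbackComp g (ι ≫ p)).inv.app E ≫
        (Scheme.Modules.pullback g).map ((Scheme.Modules.pullback (ι ≫ p)).map b) :=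
    (Scheme.Modules.pullbackComp g (ι ≫ p)).inv.naturality b
  have hnat' : (Scheme.Modules.pullback (g ≫ ι)).map q ≫ (Scheme.Modules.pullbackComp g ι).inv.app O1 =
      (Scheme.Modules.pullbackComp g ι).inv.app ((Scheme.Modules.pullback p).obj E) ≫
        (Scheme.Modules.pullback g).map ((Scheme.Modules.pullback ι).map q) :=
    (Scheme.Modules.pullbackComp g ι).inv.naturality q
  rw [reassoc_of% hnat, ← Functor.map_comp, ← he, Functor.map_comp, Functor.map_comp, reassoc_of% hnat']
  simp only [← Category.assoc]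
  refine congrArg (· ≫ _) (congrArg (· ≫ _) ?_)
  rw [← cancel_epi ((Scheme.Modules.pullbackComp g (ι ≫ p)).hom.app E), Iso.hom_inv_id_app_assoc,
    ← cancel_epi ((Scheme.Modules.pullback g).map ((Scheme.Modules.pullbackComp ι p).hom.app E)),
    ← Functor.map_comp, Iso.hom_inv_id_app, CategoryTheory.Functor.map_id, ← Category.assoc, key]
  simp

/-- A map of bundles induced by a surjection is a monomorphism. -/
theorem mono_of_compat (hQ : KRR.IsProjBundle (ι ≫ p) F O1' q') [Epi b]
    (he : (Scheme.Modules.pullbackComp ι p).inv.app E ≫ (Scheme.Modules.pullback ι).map q ≫ e.hom =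
      (Scheme.Modules.pullback (ι ≫ p)).map b ≫ q') : Mono ι := by
  refine ⟨fun {T} g₁ g₂ h => ?_⟩
  have := hQ.epi
  have hg : g₂ ≫ ι ≫ p = g₁ ≫ ι ≫ p := by rw [← Category.assoc, ← h, Category.assoc]
  let s := (Scheme.Modules.pullbackComp g₁ (ι ≫ p)).inv.app F ≫ (Scheme.Modules.pullback g₁).map q'
  have : Epi ((Scheme.Modules.pullback g₁).map q') := inferInstance
  have hs : Epi s := by infer_instance
  have hepi : Epi ((Scheme.Modules.pullback (g₁ ≫ ι ≫ p)).map b) := inferInstance
  obtain ⟨r, -, huniq⟩ := hQ.univ T (g₁ ≫ ι ≫ p) ((Scheme.Modules.pullback g₁).obj O1')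
    (PicLib.isFinLocFreeOfRank_one (PicLoc.isInvertible_pullback g₁ (isInvertible_of_rankOne hQ.invertible))) s hs
  refine (huniq g₁ ⟨rfl, Iso.refl _, ?_⟩).trans (huniq g₂ ⟨hg, ?_, ?_⟩).symm
  · simp [s, Scheme.Modules.pullbackCongr]
  · exact (Scheme.Modules.pullback g₂).mapIso e.symm ≪≫ (Scheme.Modules.pullbackComp g₂ ι).app O1 ≪≫
      (Scheme.Modules.pullbackCongr h.symm).app O1 ≪≫ ((Scheme.Modules.pullbackComp g₁ ι).app O1).symm ≪≫
        (Scheme.Modules.pullback g₁).mapIso e
  · rw [← cancel_epi ((Scheme.Modules.pullback (g₁ ≫ ι ≫ p)).map b)]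
    have hn : (Scheme.Modules.pullback (g₁ ≫ ι ≫ p)).map b ≫ (Scheme.Modules.pullbackCongr hg).inv.app F =
        (Scheme.Modules.pullbackCongr hg).inv.app E ≫ (Scheme.Modules.pullback (g₂ ≫ ι ≫ p)).map b :=
      (Scheme.Modules.pullbackCongr hg).inv.naturality b
    rw [reassoc_of% hn, reassoc_of% (compat_pullback he g₂), compat_pullback he g₁]
    simp only [Iso.trans_hom, Functor.mapIso_hom, Iso.app_hom, Iso.symm_hom, Iso.app_inv, Functor.mapIso_symm]
    simp only [← Functor.map_comp_assoc, Iso.hom_inv_id, CategoryTheory.Functor.map_id, Category.id_comp,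
      Functor.mapIso_inv, Iso.inv_hom_id_app_assoc]
    simp only [← Category.assoc]
    refine congrArg (· ≫ _) (congrArg (· ≫ _) ?_)
    have : ∀ {h₁ h₂ : T ⟶ P} (eh : h₂ = h₁) (k₁ : h₁ ≫ p = g₁ ≫ ι ≫ p) (k₂ : h₂ ≫ p = g₂ ≫ ι ≫ p),
        (Scheme.Modules.pullbackCongr hg).inv.app E ≫ (Scheme.Modules.pullbackCongr k₂).inv.app E ≫
            (Scheme.Modules.pullbackComp h₂ p).inv.app E ≫ (Scheme.Modules.pullback h₂).map q ≫
              (Scheme.Modules.pullbackCongr eh).hom.app O1 =
          (Scheme.Modules.pullbackCongr k₁).inv.app E ≫ (Scheme.Modules.pullbackComp h₁ p).inv.app E ≫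
            (Scheme.Modules.pullback h₁).map q := by
      rintro h₁ h₂ rfl k₁ k₂
      simp [Scheme.Modules.pullbackCongr, eqToIso.inv, eqToHom_app]
    simpa only [Category.assoc] using this h.symm (Category.assoc g₁ ι p) (Category.assoc g₂ ι p)

theorem isClosedImmersion_of_compat (hQ : KRR.IsProjBundle (ι ≫ p) F O1' q') [Epi b] [IsProper (ι ≫ p)]
    [IsSeparated p]
    (he : (Scheme.Modules.pullbackComp ι p).inv.app E ≫ (Scheme.Modules.pullback ι).map q ≫ e.hom =
      (Scheme.Modules.pullback (ι ≫ p)).map b ≫ q') : IsClosedImmersion ι := by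
  haveI : IsProper ι := IsProper.of_comp ι p
  haveI := mono_of_compat hQ he
  exact (IsClosedImmersion.iff_isProper_and_mono _).2 ⟨inferInstance, inferInstance⟩

theorem app_compat
    (he : (Scheme.Modules.pullbackComp ι p).inv.app E ≫ (Scheme.Modules.pullback ι).map q ≫ e.hom =
      (Scheme.Modules.pullback (ι ≫ p)).map b ≫ q') {U : X.Opens} (x : Γ(E, U)) :
    e.hom.app (ι ⁻¹ᵁ (p ⁻¹ᵁ U)) (pullSec ι (sec q x)) = sec q' (b.app U x) := by
  refine (app_adjunct_pullback ι e.hom U x).symm.trans ?_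
  rw [he, Adjunction.homEquiv_naturality_left]
  rfl

/-- The image of the smaller bundle avoids the loci of the kernel. -/
theorem not_mem_D_of_compat (hP : KRR.IsProjBundle p E O1 q)
    (he : (Scheme.Modules.pullbackComp ι p).inv.app E ≫ (Scheme.Modules.pullback ι).map q ≫ e.hom =
      (Scheme.Modules.pullback (ι ≫ p)).map b ≫ q') {U : X.Opens} (x : Γ(E, U)) (hx : b.app U x = 0) (y : Q) :
    ι y ∉ D q x := by
  intro hy
  have h1 := RelVALib.isGen_of_iso e (pullSec_gen q (isInvertible_of_rankOne hP.invertible) ι x)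
  rw [app_resM, app_compat he, hx] at h1
  have h0 : sec q' (0 : Γ(F, U)) = 0 := map_zero _
  rw [h0] at h1
  erw [map_zero] at h1
  have h2 : (1 : Γ(Q, ι ⁻¹ᵁ D q x)) = 0 := (h1 _ le_rfl).1 (by simp)
  have h3 := congrArg (Q.presheaf.germ (ι ⁻¹ᵁ D q x) y hy) h2
  rw [map_one, map_zero] at h3
  exact one_ne_zero h3

theorem delta_closedImmersion {A B : Scheme.{u}} (f : A ⟶ B) [IsPreimmersion f] {δA : A → ℤ} {δB : B → ℤ}
    (h : Cyc.DeltaCompat f δA δB) (y : A) : δA y = δB (f y) := by
  obtain ⟨n, hn, hd⟩ := h y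
  let _ := (f.residueFieldMap y).hom.toAlgebra
  haveI : Algebra.IsAlgebraic (B.residueField (f y)) (A.residueField y) := ⟨fun s => by
    obtain ⟨r, rfl⟩ := ((ConcreteCategory.isIso_iff_bijective _).1 (Groth.Agent.DimLib.isIso_residueFieldMap_of_isPreimmersion f y)).2 s
    exact isAlgebraic_algebraMap r⟩
  rw [trdeg_eq_zero] at hn
  have : n = 0 := by exact_mod_cast hn.symm
  omega

end Groth.Agent.CycLib28.PB
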