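import Groth.Agent.CycLib28.PB.ChernLine
import Groth.Agent.PicLib.PullbackGen
import Groth.Agent.Coherent.QcohLocal

/-!
# The divisor of a line subbundle on a projective bundle

For `a : L ⟶ E` locally the first vector of a basis, the difference of the divisors of the sections of `O(1)` and
`π^* L` at the generic point of a fibre is the hyperplane where `a` vanishes.
-/

set_option autoImplicit false
set_option linter.unusedSectionVars false
set_option linter.style.haveILetI false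
set_option backward.isDefEq.respectTransparency.types false

universe u

open AlgebraicGeometry CategoryTheory IsLocalRing
open Groth.Agent.KRRPBLib Groth.Agent.Coherent Groth.Agent.PicLib Groth.Agent.CycLim28

namespace Groth.Agent.CycLib28.PB

variable {X P : Scheme.{u}} {L E : X.Modules} {a : L ⟶ E} {m : ℕ}

/-- A chart of the base in which a line subbundle is the first vector of a basis. -/
structure AdaptChart (a : L ⟶ E) (m : ℕ) (ξ : X) extends BaseChart E m ξ where
  l : Γ(L, U)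
  isGen : IsGen L U l
  hb : b 0 = a.app U l

theorem nonempty_adaptChart {F : X.Modules} (hF : FlatMod.IsFinLocFreeOfRank m F) (hL : PicF.IsInvertible L)
    (b : E ⟶ F) {hab : a ≫ b = 0} (hex : (ShortComplex.mk a b hab).ShortExact) (ξ : X) :
    Nonempty (AdaptChart a m ξ) := by
  classical
  obtain ⟨V, hξ, l₀, hl₀⟩ := PicLib.exists_isGen hL ξ
  obtain ⟨V', hξ', ⟨eF⟩⟩ := hF ξ
  obtain ⟨W, hW, hξW, hWV⟩ := TopologicalSpace.Opens.isBasis_iff_nbhd.1 X.isBasis_affineOpens
    (show ξ ∈ V ⊓ V' from ⟨hξ, hξ'⟩)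
  obtain ⟨f⟩ := Props12.exists_basis_sections eF (hWV.trans inf_le_right)
  haveI : Coh.IsQCoh (ShortComplex.mk a b hab).X₁ :=
    isQCoh_of_rank (PicLib.isFinLocFreeOfRank_one hL)
  choose e he using fun i => sections_surjective hex hW (f i)
  let l : Γ(L, W) := resM L (hWV.trans inf_le_left) l₀
  have hl : IsGen L W l := hl₀.restrict _
  have hgen : ∀ t : Γ(L, W), ∃ c : Γ(X, W), c • l = t := fun t => by
    obtain ⟨c, hc⟩ := (hl W le_rfl).2 t
    exact ⟨c, by simpa only [resM_self] using hc⟩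
  let v : Fin (m + 1) → Γ(E, W) := Fin.cons (a.app W l) e
  have hbsum : ∀ c : Fin (m + 1) → Γ(X, W), b.app W (∑ i, c i • v i) = ∑ i : Fin m, c i.succ • f i := fun c => by
    rw [map_sum, Fin.sum_univ_succ, Scheme.Modules.Hom.app_smul]
    have h0 : b.app W (v 0) = 0 := sections_zero (S := ShortComplex.mk a b hab) W l
    rw [h0, smul_zero, zero_add]
    exact Finset.sum_congr rfl fun i _ => by rw [Scheme.Modules.Hom.app_smul]; exact congrArg _ (he i)
  have hli : LinearIndependent Γ(X, W) v := Fintype.linearIndependent_iff.2 fun c hc => by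
    have h1 := hbsum c
    rw [hc, map_zero] at h1
    have h2 : ∀ i : Fin m, c i.succ = 0 :=
      Fintype.linearIndependent_iff.1 f.linearIndependent (fun i => c i.succ) h1.symm
    refine Fin.cases ?_ h2
    rw [Fin.sum_univ_succ, Finset.sum_eq_zero (fun i _ => by rw [h2 i, zero_smul]), add_zero,
      show v 0 = a.app W l from rfl, ← Scheme.Modules.Hom.app_smul] at hc
    have h3 : c 0 • l = 0 := sections_injective hex W (hc.trans (map_zero _).symm)
    refine (hl W le_rfl).1 ?_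
    simpa only [resM_self, zero_smul] using h3
  have hsp : ⊤ ≤ Submodule.span Γ(X, W) (Set.range v) := fun s _ => by
    let c := f.repr (b.app W s)
    obtain ⟨t, ht⟩ := sections_exact hex (s - ∑ i : Fin m, c i • e i) (by
      show b.app W _ = 0
      rw [map_sub, map_sum]
      refine sub_eq_zero.2 ((f.sum_repr (b.app W s)).symm.trans (Finset.sum_congr rfl fun i _ => ?_))
      rw [Scheme.Modules.Hom.app_smul]
      exact congrArg _ (he i).symm)
    obtain ⟨d, rfl⟩ := hgen t
    refine (Submodule.mem_span_range_iff_exists_fun _).2 ⟨Fin.cons d ⇑c, ?_⟩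
    rw [Fin.sum_univ_succ]
    simp only [v, Fin.cons_zero, Fin.cons_succ]
    rw [← Scheme.Modules.Hom.app_smul]
    exact (congrArg (· + _) ht).trans (sub_add_cancel _ _)
  exact ⟨{ U := W, isAffine := hW, mem := hξW, b := Module.Basis.mk hli hsp, l := l, isGen := hl,
           hb := by rw [Module.Basis.mk_apply]; rfl }⟩

variable {π : P ⟶ X} {O1 : P.Modules} {q : (Scheme.Modules.pullback π).obj E ⟶ O1} [Coh.IsQCoh E]
  [IsLocallyNoetherian P] (hE : FlatMod.IsFinLocFreeOfRank (m + 1) E) (hP : KRR.IsProjBundle π E O1 q)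
  (ch : ∀ ξ, AdaptChart a m ξ)

/-- The image in `O(1)` of the subbundle, as a rational section at every point. -/
noncomputable def subSec (y : P) : Cyc.secFibre O1 y :=
  open scoped Classical in
  if (Submodule.Quotient.mk (O1.presheaf.germ (π ⁻¹ᵁ (ch (π y)).U) y (ch (π y)).mem
      (sec q ((ch (π y)).b 0))) : Cyc.secFibre O1 y) = 0 then flagSecs hE hP 0 y
  else Submodule.Quotient.mk (O1.presheaf.germ (π ⁻¹ᵁ (ch (π y)).U) y (ch (π y)).mem (sec q ((ch (π y)).b 0)))

theorem subSec_ne_zero (y : P) : subSec hE hP ch y ≠ 0 := by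
  unfold subSec
  split_ifs with h
  · exact flagSecs_ne_zero hE hP 0 y
  · exact h

variable (π) in
/-- The pulled back subbundle, as a rational section at every point. -/
noncomputable def lineSec (y : P) : Cyc.secFibre ((Scheme.Modules.pullback π).obj L) y :=
  Submodule.Quotient.mk (((Scheme.Modules.pullback π).obj L).presheaf.germ (π ⁻¹ᵁ (ch (π y)).U) y (ch (π y)).mem
    (pullSec π (ch (π y)).l))

theorem lineSec_ne_zero (hL : PicF.IsInvertible L) (y : P) : lineSec π ch y ≠ 0 := fun h => by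
  rw [lineSec, ← one_smul (P.presheaf.stalk y) (((Scheme.Modules.pullback π).obj L).presheaf.germ _ y _ _),
    mk_eq_zero_iff_gen (isGen_pullSec π (ch (π y)).isGen hL), map_one] at h
  exact one_ne_zero h

variable [IsLocallyNoetherian X] {δ : X → ℤ} {δP : P → ℤ} [IsProper π]
  (hdP : Cyc.IsDimFun P δP) (hdf : Cyc.IsDimFun X δ) (hc : Cyc.DeltaCompat π δP δ)

variable (q) in
/-- The points of the hyperplane where the subbundle vanishes, generic in the fibre over `ξ`. -/
def InSub (ξ : X) (z : P) : Prop :=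
  π z = ξ ∧ δP z = δ ξ + (m : ℤ) - 1 ∧ z ∉ D q ((ch (π z)).b 0)

include hdP hc in
/-- At the generic point of a fibre the two sections differ from the ones of any chart by one scalar. -/
theorem exists_scalar (hL : PicF.IsInvertible L) {x : X} (C : AdaptChart a m x) {ξ : X} (hξ : ξ ∈ C.U) {η : P}
    (hη : η = flagPt hP C.isAffine C.b hξ 0) (hmem : η ∈ π ⁻¹ᵁ C.U) :
    ∃ γ : P.presheaf.stalk η, (P.residue η).hom γ ≠ 0 ∧
      subSec hE hP ch η = γ • (Submodule.Quotient.mk (O1.presheaf.germ (π ⁻¹ᵁ C.U) η hmem (sec q (C.b 0))) :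
        Cyc.secFibre O1 η) ∧
      lineSec π ch η = γ • (Submodule.Quotient.mk (((Scheme.Modules.pullback π).obj L).presheaf.germ (π ⁻¹ᵁ C.U) η
        hmem (pullSec π C.l)) : Cyc.secFibre ((Scheme.Modules.pullback π).obj L) η) := by
  have hCη : η ∈ π ⁻¹ᵁ (ch (π η)).U := (ch (π η)).mem
  let W : X.Opens := (ch (π η)).U ⊓ C.U
  have hWη : η ∈ π ⁻¹ᵁ W := ⟨hCη, hmem⟩
  obtain ⟨c, hc'⟩ := ((C.isGen.restrict (inf_le_right : W ≤ _)) W le_rfl).2
    (resM L (inf_le_left : W ≤ _) (ch (π η)).l)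
  simp only [resM_self] at hc'
  obtain ⟨γ, hγdef⟩ : ∃ γ, γ = P.presheaf.germ (π ⁻¹ᵁ W) η hWη (π.app W c) := ⟨_, rfl⟩
  have keyO : O1.presheaf.germ (π ⁻¹ᵁ (ch (π η)).U) η hCη (sec q ((ch (π η)).b 0)) =
      γ • O1.presheaf.germ (π ⁻¹ᵁ C.U) η hmem (sec q (C.b 0)) := by
    have h1 : ∀ {U : X.Opens} (h : W ≤ U) (x : Γ(L, U)),
        sec q (a.app W (resM L h x)) = resM O1 (π.preimage_mono h) (sec q (a.app U x)) := fun h x => by
      show (adjunct q).app _ (a.app _ _) = _
      rw [app_resM, app_resM]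
      rfl
    have h2 : sec q (a.app W (c • resM L (inf_le_right : W ≤ C.U) C.l)) =
        π.app W c • sec q (a.app W (resM L (inf_le_right : W ≤ C.U) C.l)) := by
      show (adjunct q).app _ (a.app _ _) = _
      rw [Scheme.Modules.Hom.app_smul, Scheme.Modules.Hom.app_smul]
      rfl
    have e := congrArg (fun x => O1.presheaf.germ (π ⁻¹ᵁ W) η hWη (sec q (a.app W x))) hc'
    simp only [h2, h1] at e
    rw [QCohLoc.germ_smul'] at e
    rw [(ch (π η)).hb, C.hb, hγdef]
    refine ((TopCat.Presheaf.germ_res_apply O1.presheaf (homOfLE (π.preimage_mono (inf_le_left : W ≤ _))) η hWη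
      _).symm.trans e.symm).trans ?_
    exact congrArg (_ • ·) (TopCat.Presheaf.germ_res_apply O1.presheaf
      (homOfLE (π.preimage_mono (inf_le_right : W ≤ C.U))) η hWη _)
  have keyL : ((Scheme.Modules.pullback π).obj L).presheaf.germ (π ⁻¹ᵁ (ch (π η)).U) η hCη
        (pullSec π (ch (π η)).l) =
      γ • ((Scheme.Modules.pullback π).obj L).presheaf.germ (π ⁻¹ᵁ C.U) η hmem (pullSec π C.l) := by
    have e := congrArg (fun x => ((Scheme.Modules.pullback π).obj L).presheaf.germ (π ⁻¹ᵁ W) η hWη (pullSec π x)) hc'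
    simp only [pullSec_smul] at e
    rw [QCohLoc.germ_smul', ← resM_pullSec π (inf_le_right : W ≤ C.U),
      ← resM_pullSec π (inf_le_left : W ≤ _)] at e
    rw [hγdef]
    refine ((TopCat.Presheaf.germ_res_apply _ (homOfLE (π.preimage_mono (inf_le_left : W ≤ _))) η hWη
      _).symm.trans e.symm).trans ?_
    exact congrArg (_ • ·) (TopCat.Presheaf.germ_res_apply _
      (homOfLE (π.preimage_mono (inf_le_right : W ≤ C.U))) η hWη _)
  have hγ : (P.residue η).hom γ ≠ 0 := fun h0 => lineSec_ne_zero ch hL η (by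
    rw [lineSec, keyL]
    refine (Submodule.Quotient.mk_eq_zero _).2 ?_
    exact Submodule.smul_mem_smul ((IsLocalRing.residue_eq_zero_iff _).1 h0) Submodule.mem_top)
  refine ⟨γ, hγ, ?_, by rw [lineSec, keyL, Submodule.Quotient.mk_smul]⟩
  have hD : η ∈ D q (C.b 0) := by rw [hη]; exact flagPtIn_mem hP _ _ _ _ _
  have hne : (Submodule.Quotient.mk (O1.presheaf.germ (π ⁻¹ᵁ C.U) η hmem (sec q (C.b 0))) : Cyc.secFibre O1 η)
      ≠ 0 := fun h0 => by
    rw [germ_sec_eq (C.b 0) _ (C.b 0) hD, mk_eq_zero_iff_gen (isGen_D q _), coord_self, map_one, map_one] at h0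
    exact one_ne_zero h0
  unfold subSec
  rw [if_neg, keyO, Submodule.Quotient.mk_smul]
  rw [keyO, Submodule.Quotient.mk_smul]
  intro h0
  obtain ⟨w, hw⟩ := (IsLocalRing.residue_ne_zero_iff_isUnit γ).1 hγ
  refine hne ?_
  have h1 := congrArg ((↑w⁻¹ : P.presheaf.stalk η) • ·) h0
  simp only [smul_zero] at h1
  rwa [smul_smul, ← hw, Units.inv_mul, one_smul] at h1

include hdP hdf hc in
open scoped Classical in
theorem secDiv_sub_line (hL : PicF.IsInvertible L) (ξ : X) (η : P) (hηξ : π η = ξ)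
    (hη : δP η = δ ξ + (m : ℤ)) (z : P) :
    Cyc.secDivFun δP O1 η (subSec hE hP ch η) z -
        Cyc.secDivFun δP ((Scheme.Modules.pullback π).obj L) η (lineSec π ch η) z =
      if InSub q (δ := δ) (δP := δP) ch ξ z then (1 : ℤ) else 0 := by
  classical
  have hinv := isInvertible_of_rankOne hP.invertible
  have hinv' := PicLoc.isInvertible_pullback π hL
  obtain ⟨C, hCz, hC⟩ : ∃ (C : AdaptChart a m (π z)) (hCz : z ∈ π ⁻¹ᵁ C.U), C = ch (π z) :=
    ⟨_, (ch (π z)).mem, rfl⟩
  have hz0 := flagPt_specializes hP C.isAffine C.b C.mem 0 (y := z) rfl fun i hi => absurd hi (by simp)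
  have hd0 := delta_flagPt hP C.isAffine C.b C.mem hdP hc 0
  rw [Fin.val_zero] at hd0
  have hin : InSub q (δ := δ) (δP := δP) ch ξ z ↔
      π z = ξ ∧ δP z = δ ξ + (m : ℤ) - 1 ∧ z ∉ D q (C.b 0) := by
    subst hC; rfl
  simp only [hin]
  by_cases h : η ⤳ z ∧ δP z + 1 = δP η
  swap
  · rw [Cyc.secDivFun, dif_neg h, Cyc.secDivFun, dif_neg h, sub_zero, if_neg]
    rintro ⟨h1, h2, -⟩
    refine h ⟨?_, by omega⟩
    rw [eq_flagPt_zero hP C.isAffine C.b C.mem hdP hc (y := η) (by rw [hηξ, h1]) (by rw [hη, h1])]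
    exact hz0
  obtain ⟨hsp, hd⟩ := h
  have hξC : ξ ∈ C.U := by
    rw [← hηξ]
    exact (hsp.map π.continuous).mem_open C.U.2 C.mem
  have eη : η = flagPt hP C.isAffine C.b hξC 0 := eq_flagPt_zero hP _ _ _ hdP hc hηξ hη
  have hmem : η ∈ π ⁻¹ᵁ C.U := by
    show π η ∈ C.U
    rwa [hηξ]
  obtain ⟨γ, hγ, hsO, hsL⟩ := exists_scalar hE hP ch hdP hc hL C hξC eη hmem
  have hηD : η ∈ D q (C.b 0) := by rw [eη]; exact flagPtIn_mem hP _ _ _ _ _
  have hsO0 : (Submodule.Quotient.mk (O1.presheaf.germ (π ⁻¹ᵁ C.U) η hmem (sec q (C.b 0))) : Cyc.secFibre O1 η)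
      ≠ 0 := fun h0 => subSec_ne_zero hE hP ch η (by rw [hsO, h0, smul_zero])
  have hsL0 : (Submodule.Quotient.mk (((Scheme.Modules.pullback π).obj L).presheaf.germ (π ⁻¹ᵁ C.U) η hmem
      (pullSec π C.l)) : Cyc.secFibre ((Scheme.Modules.pullback π).obj L) η) ≠ 0 :=
    fun h0 => lineSec_ne_zero ch hL η (by rw [hsL, h0, smul_zero])
  rw [Cyc.secDivFun, dif_pos ⟨hsp, hd⟩, Cyc.secDivFun, dif_pos ⟨hsp, hd⟩, hsO, hsL,
    secOrdAt_smul hdP hinv hsp hd γ hγ _ hsO0, secOrdAt_smul hdP hinv' hsp hd γ hγ _ hsL0]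
  have hL0 : Cyc.secOrdAt ((Scheme.Modules.pullback π).obj L) η z hsp
      (Submodule.Quotient.mk (((Scheme.Modules.pullback π).obj L).presheaf.germ (π ⁻¹ᵁ C.U) η hmem
        (pullSec π C.l))) = 0 := by
    rw [← one_smul (P.presheaf.stalk η) (((Scheme.Modules.pullback π).obj L).presheaf.germ _ η _ _),
      secOrdAt_gen hdP hinv' hsp hd (isGen_pullSec π C.isGen hL) hCz hmem 1 (by simp), map_one,
      ordAt_one hdP hsp hd]
  rw [hL0, add_zero, add_sub_cancel_left]
  by_cases hzD : z ∈ D q (C.b 0)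
  · rw [if_neg fun h => h.2.2 hzD]
    rw [germ_sec_eq (C.b 0) _ (C.b 0) hηD,
      secOrdAt_gen hdP hinv hsp hd (isGen_D q _) hzD hηD _ (by rw [coord_self, map_one, map_one]; exact one_ne_zero),
      coord_self, map_one, map_one, ordAt_one hdP hsp hd]
  · have hπz : π z = ξ := by
      by_contra hne
      have h1 := (hdf ξ (π z) (by rw [← hηξ]; exact hsp.map π.continuous) (Ne.symm hne)).1
      have h2 := eq_of_specializes_of_le hdP hz0 (by omega)
      exact hzD ((congrArg (· ∈ D q (C.b 0)) h2).mp (flagPtIn_mem hP _ _ _ _ _))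
    rw [if_pos ⟨hπz, by omega, hzD⟩]
    obtain ⟨n, rfl⟩ : ∃ n, m = n + 1 := Nat.exists_eq_succ_of_ne_zero fun hm0 => hzD (by
      subst hm0
      obtain ⟨i, hi⟩ := exists_mem_D hP C.b hCz C.isAffine
      rwa [Fin.fin_one_eq_zero i] at hi)
    have hy := secDivFun_flagSec hP C.isAffine C.b hξC hdP 0 (y := z) hπz
    have hz1 : z = flagPt hP C.isAffine C.b hξC (0 : Fin (n + 1)).succ := by
      refine (eq_of_specializes_of_le hdP (flagPt_specializes hP _ _ _ _ hπz fun i hi => ?_) ?_).symm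
      · have : i = 0 := Fin.ext (by simpa using hi)
        subst this
        exact hzD
      · rw [delta_flagPt hP _ _ _ hdP hc]
        simp
        omega
    have tr : ∀ (w : P) (hw : w ∈ π ⁻¹ᵁ C.U), η = w →
        Cyc.secDivFun δP O1 w
          (Submodule.Quotient.mk (O1.presheaf.germ (π ⁻¹ᵁ C.U) w hw (sec q (C.b 0)))) z =
        Cyc.secOrdAt O1 η z hsp
          (Submodule.Quotient.mk (O1.presheaf.germ (π ⁻¹ᵁ C.U) η hmem (sec q (C.b 0)))) := by
      rintro w hw rfl
      rw [Cyc.secDivFun, dif_pos ⟨hsp, hd⟩]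
    exact (tr _ (flagPt_mem_preimage hP C.isAffine C.b hξC ((0 : Fin (n + 1)).castSucc)) eη).symm.trans
      (hy.trans (if_pos hz1))

end Groth.Agent.CycLib28.PB
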